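import Mathlib
import Cfsg.Agent.MxE.Max
import Cfsg.Agent.MxE.Defs
import Cfsg.Agent.Fus.R3MaxA
import Cfsg.Agent.Fus.EssMisc

/-! Definitions for the essential subgroups of a fusion system on a `p`-group of maximal class. -/

set_option autoImplicit false

namespace Cfsg.Agent.MxD

open Subgroup Cfsg.Agent.GT Cfsg.Agent.FG.MxC Cfsg.Agent.Fus
open scoped commutatorElement

universe u

/-- maximal class, order `p ^ (n + 3) ≥ p ^ 4` -/
structure MC (p : ℕ) (G : Type u) [Group G] (n : ℕ) : Prop where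
  hn : Nat.card G = p ^ (n + 3)
  hc : Group.nilpotencyClass G = n + 2
  h1 : 1 ≤ n

variable {G : Type u} [Group G]

/-- `x` has level `j` in the chain `P G 0 = C G 1 > P G 1 = G' > ⋯ > P G (n + 2) = 1` -/
def Lv (x : G) (j : ℕ) : Prop := x ∈ P G j ∧ x ∉ P G (j + 1)

/-- uniform element -/
def Unif (n : ℕ) (s : G) : Prop := s ∉ C G 1 ∧ s ∉ C G n

/-- an essential subgroup properly inside a two-step centraliser -/
def Bad (F : FusionSystem (⊤ : Subgroup G)) (p n : ℕ) (E : Subgroup G) : Prop :=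
  F.IsEssential p E ∧ (E < C G 1 ∨ E < C G n)

/-- the second centre of `C G 1` when its centre is the centre of `G` -/
def Z2R (G : Type u) [Group G] : Subgroup G where
  carrier := {x | x ∈ C G 1 ∧ ∀ r ∈ C G 1, ⁅x, r⁆ ∈ center G}
  one_mem' := ⟨one_mem _, fun r _ => by simp⟩
  mul_mem' := fun {a b} ha hb => ⟨mul_mem ha.1 hb.1, fun r hr => by
    rw [show ⁅a * b, r⁆ = a * ⁅b, r⁆ * a⁻¹ * ⁅a, r⁆ by simp only [commutatorElement_def]; group]
    exact mul_mem (Normal.conj_mem inferInstance _ (hb.2 r hr) a) (ha.2 r hr)⟩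
  inv_mem' := fun {a} ha => ⟨inv_mem ha.1, fun r hr => by
    rw [show ⁅a⁻¹, r⁆ = a⁻¹ * ⁅a, r⁆⁻¹ * a⁻¹⁻¹ by simp only [commutatorElement_def]; group]
    exact Normal.conj_mem inferInstance _ (inv_mem (ha.2 r hr)) a⁻¹⟩

theorem mem_Z2R {x : G} : x ∈ Z2R G ↔ x ∈ C G 1 ∧ ∀ r ∈ C G 1, ⁅x, r⁆ ∈ center G := Iff.rfl

/-- `v ∈ Ω₁ Z(C G 1)` -/
def InY (p : ℕ) (v : G) : Prop := v ∈ C G 1 ∧ (∀ x ∈ C G 1, Commute v x) ∧ v ^ p = 1

/-- `H` is a model of the normaliser of `C G 1` -/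
structure Md (p : ℕ) {H : Type*} [Group H] (ι : G →* H) : Prop where
  inj : Function.Injective ι
  idx : ¬ p ∣ ι.range.index
  nR : ((C G 1).map ι).Normal
  cR : centralizer (((C G 1).map ι : Subgroup H) : Set H) ≤ (C G 1).map ι

/-- a bad subgroup of maximal order; no bad subgroup is essential in the centraliser of `Z(G)` -/
structure CB (F : FusionSystem (⊤ : Subgroup G)) (p n : ℕ) (E : Subgroup G) : Prop where
  mc : MC p G n
  hp : 5 ≤ p
  sat : F.IsSaturated p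
  bad : Bad F p n E
  max : ∀ E', Bad F p n E' → Nat.card E' ≤ Nat.card E
  cb : ∀ E', Bad F p n E' → ∀ α ∈ F.autGroup E', (∀ z ∈ center G, totA α z = z) →
    α ∈ F.extAut E'

/-- the torus element in the non-exceptional case -/
structure ND (F : FusionSystem (⊤ : Subgroup G)) (p : ℕ) (E : Subgroup G) (t : G → G) (l m : ℕ) :
    Prop where
  iso : F.Iso (C G 1) (C G 1) t
  ord : orderOf (l : ZMod p) = p - 1
  inv : (m : ZMod p) * l = 1
  mem : ∀ x ∈ E, t x ∈ E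
  d2 : ∀ v, InY p v → t (t v * (v ^ l)⁻¹) = t v * (v ^ l)⁻¹ ∧ t v * v⁻¹ ∈ ⁅C G 1, C G 1⁆
  d3 : ∀ k, F.Iso (C G 1) (C G 1) k → ∀ z ∈ center G, z ≠ 1 → t (k z) ≠ k z ∧
    (t (k z) = k z ^ l → ∃ u ∈ C G 1, u ^ p = 1 ∧ t u = u ^ m ∧ ∀ x, Commute x u ↔ x ∈ E)
  d4 : ∃ y ∈ C G 1, y ∉ E ∧ t y * (y ^ l ^ 2)⁻¹ ∈ E

section Rep
variable {Ω : Type*} [Group Ω] {p : ℕ} {E U : Subgroup Ω} {A : Subgroup (MulAut E)}

/-- the action of a group of automorphisms on an invariant elementary abelian subgroup -/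
noncomputable def autRep (hU : IsElementaryAbelian p U) (hI : InvA A U) :
    Representation (ZMod p) A (EAV hU) where
  toFun α := AddMonoidHom.toZModLinearMap p
    { toFun := fun x => EAV.mk hU (totA (α : MulAut E) x.val) (hI.mem α.2 x.val_mem)
      map_zero' := EAV.ext (mulOn_totA _).map_one
      map_add' := fun x y => EAV.ext
        ((mulOn_totA _).map_mul (hI.le x.val_mem) (hI.le y.val_mem)) }
  map_one' := LinearMap.ext fun x => EAV.ext (totA_one (hI.le x.val_mem))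
  map_mul' _ _ := LinearMap.ext fun x => EAV.ext (totA_mul _ _ (hI.le x.val_mem))

theorem val_autRep (hU : IsElementaryAbelian p U) (hI : InvA A U) (α : A) (x : EAV hU) :
    (autRep hU hI α x).val = totA (α : MulAut E) x.val := rfl

end Rep

section Tor
variable {p : ℕ} {H : Type*} [Group H] {V : Type*} [AddCommGroup V] [Module (ZMod p) V]

/-- `τ` is the torus element `diag (l, m)` and `w` the Weyl element of an `SL₂(p)` with root
element `a` -/
def Tor (ρ : Representation (ZMod p) H V) (a τ w : H) (l m : ℕ) : Prop :=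
  ρ (τ * a * τ⁻¹) = ρ (a ^ l ^ 2) ∧ ∀ v, ρ a v = v → ∃ v₀ v₁, v = v₀ + v₁ ∧ ρ τ v₀ = v₀ ∧
    ρ w v₀ = v₀ ∧ v₁ ∈ LinearMap.range (ρ a - 1) ∧ ρ τ v₁ = (l : ZMod p) • v₁ ∧
    ρ τ (ρ w v₁) = (m : ZMod p) • ρ w v₁

end Tor

end Cfsg.Agent.MxD
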