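import Mathlib
import Cfsg.Agent.MxD.Defs

/-! Levels, part A. -/

set_option autoImplicit false

namespace Cfsg.Agent.MxD

open Subgroup Cfsg.Agent.GT Cfsg.Agent.FG.MxC Cfsg.Agent.Fus Cfsg.Agent.Fus.R3 Cfsg.Agent.MxE
open Cfsg.FusionSystem hiding inv_mem
open scoped commutatorElement

universe u

variable {G : Type u} [Group G] [Finite G] {p n : ℕ} [Fact p.Prime]

omit [Finite G] in
theorem P_anti {i j : ℕ} (hij : i ≤ j) : P G j ≤ P G i :=
  antitone_nat_of_succ_le (f := P G) γ_le_P hij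

omit [Finite G] in
theorem cm1 {a : ℕ} {x : G} (hx : x ∈ P G a) (g : G) : ⁅x, g⁆ ∈ P G (a + 1) :=
  Loc.H78.Lie.comm_mem_γ_succ (P_le_γ a hx) g

omit [Finite G] in
theorem cmP {a b : ℕ} {x y : G} (hx : x ∈ P G a) (hy : y ∈ P G b) : ⁅x, y⁆ ∈ P G (a + b + 1) :=
  Loc.H78.Lie.comm_mem_γ (P_le_γ a hx) (P_le_γ b hy)

omit [Finite G] in
theorem Lv.aut {x : G} {j : ℕ} (hx : Lv x j) (α : MulAut G) : Lv (α x) j :=
  ⟨aut_mem_P α hx.1, fun k => hx.2 (by simpa using aut_mem_P α⁻¹ k)⟩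

omit [Finite G] in
theorem Unif.aut {s : G} (hs : Unif n s) (α : MulAut G) : Unif n (α s) :=
  ⟨fun k => hs.1 (by simpa using aut_mem_C α⁻¹ k), fun k => hs.2 (by simpa using aut_mem_C α⁻¹ k)⟩

theorem MC.pG (h : MC p G n) : IsPGroup p G :=
  IsPGroup.of_card h.hn

theorem MC.pT (h : MC p G n) : IsPGroup p (⊤ : Subgroup G) :=
  h.pG.to_subgroup ⊤

theorem MC.P_bot (h : MC p G n) : P G (n + 2) = ⊥ :=
  γ_eq_bot h.hn h.hc

theorem MC.P_center (h : MC p G n) : P G (n + 1) = center G :=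
  γ_last_eq_center h.hn h.hc

theorem MC.cardP (h : MC p G n) {j : ℕ} (hj : j ≤ n + 2) : Nat.card (P G j) = p ^ (n + 2 - j) :=
  card_P h.hn h.hc h.h1 hj

theorem MC.cardR (h : MC p G n) : Nat.card (C G 1) = p ^ (n + 2) :=
  card_C h.hn h.hc le_rfl h.h1

theorem MC.cardQ (h : MC p G n) : Nat.card (C G n) = p ^ (n + 2) :=
  card_C h.hn h.hc h.h1 le_rfl

theorem MC.center_eq (h : MC p G n) {z : G} (hz : z ∈ center G) (h1 : z ≠ 1) :
    center G = zpowers z := by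
  have k := sup_eq_P h.hn h.hc h.h1 (j := n + 1) le_rfl (h.P_center ▸ hz)
    (by rw [γ_eq_bot h.hn h.hc]; exact h1)
  rw [γ_eq_bot h.hn h.hc, bot_sup_eq] at k
  rw [k, h.P_center]

theorem MC.pow_center (h : MC p G n) {z : G} (hz : z ∈ center G) : z ^ p = 1 := by
  have c := h.cardP (j := n + 1) (by omega)
  rw [h.P_center, show n + 2 - (n + 1) = 1 by omega, pow_one] at c
  have := pow_card_eq_one' (x := (⟨z, hz⟩ : center G))
  rw [c] at this
  exact congrArg Subtype.val this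

theorem MC.mem_Q (h : MC p G n) {g : G} : g ∈ C G n ↔ ∀ x ∈ P G n, Commute x g := by
  rw [mem_C, P_eq h.h1, γ_eq_bot h.hn h.hc]
  simp only [mem_bot, commutatorElement_eq_one_iff_commute]

theorem MC.exists_lv (h : MC p G n) {j : ℕ} (hj : j ≤ n + 1) : ∃ x : G, Lv x j := by
  obtain ⟨x, h1, h2⟩ := exists_mem_P h.hn h.hc h.h1 hj
  exact ⟨x, h1, h2⟩

theorem MC.exists_lv_of (h : MC p G n) {x : G} (hx : x ∈ C G 1) (h1 : x ≠ 1) :
    ∃ j ≤ n + 1, Lv x j := by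
  classical
  have ex : ∃ j, x ∉ P G (j + 1) := ⟨n + 1, by rw [h.P_bot]; exact h1⟩
  refine ⟨Nat.find ex, Nat.find_min' ex (by rw [h.P_bot]; exact h1), ?_, Nat.find_spec ex⟩
  rcases e : Nat.find ex with _ | k
  · exact hx
  · exact not_not.1 (Nat.find_min ex (by omega))

theorem MC.lv_le (h : MC p G n) {x : G} {j : ℕ} (hx : Lv x j) : j ≤ n + 1 := by
  by_contra k
  have : x ∈ P G (n + 2) := P_anti (by omega) hx.1
  rw [h.P_bot, mem_bot] at this
  exact hx.2 (this ▸ one_mem _)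

theorem MC.sup_lv (h : MC p G n) {x : G} {j : ℕ} (hx : Lv x j) :
    P G (j + 1) ⊔ zpowers x = P G j :=
  sup_eq_P h.hn h.hc h.h1 (h.lv_le hx) hx.1 hx.2

theorem MC.pow_mem (h : MC p G n) {x : G} {j : ℕ} (hx : x ∈ P G j) : x ^ p ∈ P G (j + 1) := by
  rcases le_or_gt j (n + 1) with hj | hj
  · have c := card_P_succ h.hn h.hc h.h1 hj
    have c' : Nat.card (P G (j + 1)) * (P G (j + 1)).relIndex (P G j) = Nat.card (P G j) := by
      rw [relIndex, ← card_mul_index ((P G (j + 1)).subgroupOf (P G j)),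
        Nat.card_congr (subgroupOfEquivOfLe (P_anti (Nat.le_succ j))).toEquiv]
    have e : (P G (j + 1)).relIndex (P G j) = p :=
      Nat.eq_of_mul_eq_mul_left Nat.card_pos (c'.trans (c.trans (mul_comm _ _)))
    have := pow_index_mem (H := (P G (j + 1)).subgroupOf (P G j)) ⟨x, hx⟩
    rw [show ((P G (j + 1)).subgroupOf (P G j)).index = p from e] at this
    exact this
  · have : x ∈ P G (n + 2) := P_anti (by omega) hx
    rw [h.P_bot, mem_bot] at this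
    rw [this, one_pow]
    exact one_mem _

theorem MC.pow_mem_R (h : MC p G n) (x : G) : x ^ p ∈ C G 1 := by
  have := pow_index_mem (H := C G 1) x
  rwa [index_C h.hn h.hc le_rfl h.h1] at this

theorem MC.cm2 (h : MC p G n) {a : ℕ} {x g : G} (hx : x ∈ P G a) (hg : g ∈ C G 1)
    (ha : a ≠ n ∨ C G n = C G 1) : ⁅x, g⁆ ∈ P G (a + 2) := by
  rcases Nat.eq_zero_or_pos a with rfl | h1
  · exact γ_anti (i := 2) (j := 3) (by omega) (comm_C_le h.hn h.hc h.h1 (commutator_mem_commutator hx hg))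
  rcases lt_trichotomy a n with k | k | k
  · exact (C_eq h.hn h.hc h1 k ▸ hg : g ∈ C G a) x (P_le_γ a hx)
  · subst k
    exact (ha.resolve_left (fun e => e rfl) ▸ hg : g ∈ C G a) x (P_le_γ a hx)
  · have : ⁅x, g⁆ ∈ P G (n + 2) := P_anti (by omega) (cm1 hx g)
    rw [h.P_bot, mem_bot] at this
    rw [this]
    exact one_mem _

theorem MC.exists_unif (h : MC p G n) : ∃ s : G, Unif n s := by
  obtain ⟨s, h1, -, h2⟩ := exists_uniform h.hn h.hc (C_ne_top h.hn h.hc h.h1)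
  exact ⟨s, h1, h2 n h.h1 le_rfl⟩

theorem MC.unif_all (h : MC p G n) {s : G} (hs : Unif n s) :
    ∀ i, 1 ≤ i → i ≤ n → s ∉ C G i := fun i h1 h2 => by
  rcases h2.lt_or_eq with k | rfl
  · rw [C_eq h.hn h.hc h1 k]; exact hs.1
  · exact hs.2

theorem MC.lv_comm (h : MC p G n) {x s : G} {j : ℕ} (hx : Lv x j) (hs : s ∉ C G 1)
    (hj : j + 1 ≤ n ∨ (j = n ∧ s ∉ C G n)) : Lv ⁅x, s⁆ (j + 1) := by
  refine ⟨cm1 hx.1 s, comm_notMem h.hn h.hc h.h1 (by omega) hs (fun h1 => ?_) hx.1 hx.2⟩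
  rcases hj with k | ⟨rfl, k⟩
  · rw [C_eq h.hn h.hc h1 k]; exact hs
  · exact k

theorem MC.card_cent (h : MC p G n) {s : G} (hs : Unif n s) :
    Nat.card (centralizer ({s} : Set G)) = p ^ 2 :=
  card_centralizer_eq h.hn h.hc (fun k => hs.1 (γ_one_le_C 1 k)) (h.unif_all hs)

theorem MC.pow_unif (h : MC p G n) {s : G} (hs : Unif n s) : s ^ p ∈ center G :=
  pow_mem_center h.hn h.hc (h.unif_all hs)

theorem MC.sup_R (h : MC p G n) {s : G} (hs : s ∉ C G 1) : C G 1 ⊔ zpowers s = ⊤ :=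
  (isCoatom_C h.hn h.hc le_rfl h.h1).2 _
    (left_lt_sup.2 fun k => hs (k (mem_zpowers s)))

theorem MC.commute_of_add (h : MC p G n) {a b : ℕ} {x y : G} (hx : x ∈ P G a) (hy : y ∈ P G b)
    (hab : n + 1 ≤ a + b) : Commute x y := by
  have : ⁅x, y⁆ ∈ P G (n + 2) := P_anti (by omega) (cmP hx hy)
  rwa [h.P_bot, mem_bot, commutatorElement_eq_one_iff_commute] at this

theorem MC.cm_center (h : MC p G n) {a b : ℕ} {x y : G} (hx : x ∈ P G a) (hy : y ∈ P G b)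
    (hab : n ≤ a + b) : ⁅x, y⁆ ∈ center G :=
  h.P_center ▸ P_anti (by omega) (cmP hx hy)


end Cfsg.Agent.MxD
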