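import Mathlib
import Cfsg.Agent.MxD.Defs
import Cfsg.Agent.MxD.LvA

/-! Levels, part B. -/

set_option autoImplicit false

namespace Cfsg.Agent.MxD

open Subgroup Cfsg.Agent.GT Cfsg.Agent.FG.MxC Cfsg.Agent.Fus Cfsg.Agent.Fus.R3 Cfsg.Agent.MxE
open Cfsg.FusionSystem hiding inv_mem
open scoped commutatorElement

universe u

variable {G : Type u} [Group G] [Finite G] {p n : ℕ} [Fact p.Prime]

namespace LvB

omit [Finite G] in
theorem least {E : Subgroup G} (hE : E ≤ C G 1) (k : ℕ) :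
    E ≤ P G k ∨ ∃ a, ∃ e ∈ E, Lv e a ∧ E ≤ P G a := by
  induction k with
  | zero => exact .inl hE
  | succ k ih =>
    rcases ih with ih | ih
    · by_cases h : E ≤ P G (k + 1)
      · exact .inl h
      · obtain ⟨e, he, he'⟩ := SetLike.not_le_iff_exists.1 h
        exact .inr ⟨k, e, he, ⟨ih he, he'⟩, ih⟩
    · exact .inr ih

omit [Finite G] in
theorem lv_inv {x : G} {j : ℕ} (hx : Lv x j) : Lv x⁻¹ j :=
  ⟨inv_mem hx.1, fun h => hx.2 (by simpa using inv_mem h)⟩

omit [Finite G] in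
theorem conj_pow_eq {s w y c : G} (hc : c ∈ center G) (h1 : s * w * s⁻¹ = y * w)
    (h2 : s * y * s⁻¹ = c * y) (k : ℕ) :
    s ^ k * w * (s ^ k)⁻¹ = c ^ k.choose 2 * y ^ k * w := by
  induction k with
  | zero => simp
  | succ k ih =>
    have hcc : ∀ g, Commute c g := fun g => (mem_center_iff.1 hc g).symm
    have e : s ^ (k + 1) * w * (s ^ (k + 1))⁻¹ = s * (s ^ k * w * (s ^ k)⁻¹) * s⁻¹ := by
      rw [pow_succ']; group
    have e2 : s * (c ^ k.choose 2 * y ^ k * w) * s⁻¹ =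
        (s * c * s⁻¹) ^ k.choose 2 * (s * y * s⁻¹) ^ k * (s * w * s⁻¹) := by
      simp only [conj_pow]; group
    have e3 : s * c * s⁻¹ = c := by rw [← (hcc s).eq, mul_inv_cancel_right]
    rw [e, ih, e2, e3, h1, h2, (hcc y).mul_pow, Nat.choose_succ_succ, Nat.choose_one_right,
      add_comm, pow_add, pow_succ]
    simp only [mul_assoc]

end LvB

theorem MC.le_of_levels (h : MC p G n) {K : Subgroup G} {a b : ℕ} (hab : a ≤ b)
    (hK : P G b ≤ K) (e : ∀ i, a ≤ i → i < b → ∃ r ∈ K, Lv r i) : P G a ≤ K := by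
  induction b, hab using Nat.le_induction with
  | base => exact hK
  | succ b hab ih =>
    obtain ⟨r, hr, hl⟩ := e b hab (Nat.lt_succ_self b)
    refine ih ?_ fun i h1 h2 => e i h1 (by omega)
    rw [← h.sup_lv hl]
    exact sup_le hK (zpowers_le.2 hr)

theorem MC.P_le_of_normal (h : MC p G n) {N : Subgroup G} [N.Normal] {x : G} {j : ℕ} (hx : x ∈ N)
    (hl : Lv x j) : P G j ≤ N := by
  obtain ⟨s, hs⟩ := h.exists_unif
  have key : ∀ i, j ≤ i → i < n + 2 → ∃ r ∈ N, Lv r i := by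
    intro i hi
    induction i, hi using Nat.le_induction with
    | base => exact fun _ => ⟨x, hx, hl⟩
    | succ i hi ih =>
      intro hlt
      obtain ⟨r, hr, hr'⟩ := ih (by omega)
      refine ⟨⁅r, s⁆, cm_left hr s, h.lv_comm hr' hs.1 ?_⟩
      rcases Nat.lt_or_ge i n with h1 | h1
      · exact .inl h1
      · exact .inr ⟨by omega, hs.2⟩
  have := h.lv_le hl
  exact h.le_of_levels (by omega) (by rw [h.P_bot]; exact bot_le) key

theorem MC.eq_P_of_normal (h : MC p G n) {N : Subgroup G} [N.Normal] (hN : N ≤ C G 1) :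
    ∃ j ≤ n + 2, N = P G j := by
  rcases LvB.least hN (n + 2) with h1 | ⟨a, e, he, hl, h1⟩
  · exact ⟨n + 2, le_rfl, le_antisymm h1 (by rw [h.P_bot]; exact bot_le)⟩
  · have := h.lv_le hl
    exact ⟨a, by omega, le_antisymm h1 (h.P_le_of_normal he hl)⟩

theorem MC.normal_of_inv (h : MC p G n) {E : Subgroup G} (hE : E ≤ C G 1) (hZ : center G ≤ E)
    {x : G} (hx : x ∉ C G 1) (hn : x ∈ normalizer (E : Set G)) : E.Normal := by
  rcases LvB.least hE (n + 2) with h1 | ⟨a, e, he, hl, h1⟩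
  · rw [h.P_bot, le_bot_iff] at h1
    rw [h1]; infer_instance
  have key : ∀ i, a ≤ i → i < n + 1 → ∃ r ∈ E, Lv r i := by
    intro i hi
    induction i, hi using Nat.le_induction with
    | base => exact fun _ => ⟨e, he, hl⟩
    | succ i hi ih =>
      intro hlt
      obtain ⟨r, hr, hr'⟩ := ih (by omega)
      refine ⟨⁅r, x⁆, ?_, h.lv_comm hr' hx (.inl (by omega))⟩
      have := mul_mem hr ((mem_normalizer_iff.1 hn _).1 (inv_mem hr))
      rwa [show r * (x * r⁻¹ * x⁻¹) = ⁅r, x⁆ by simp only [commutatorElement_def]; group] at this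
  have h2 : P G a ≤ E := h.le_of_levels (h.lv_le hl) (by rw [h.P_center]; exact hZ) key
  rw [le_antisymm h1 h2]; infer_instance

theorem MC.pow_mem' (h : MC p G n) (hpn : p ≤ n + 1) {x : G} {j : ℕ} (hx : x ∈ P G j) :
    x ^ p ∈ P G (j + (p - 1)) := by
  have hp2 := (Fact.out : p.Prime).two_le
  rw [P_eq (by omega)]
  exact pow_mem_γ' h.hn h.hc (by omega) (P_le_γ j hx)

theorem MC.pow_lv (h : MC p G n) (hpn : p ≤ n + 1) {x : G} {j : ℕ} (hx : Lv x j)
    (hj : j + p ≤ n + 2) : Lv (x ^ p) (j + (p - 1)) := by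
  have hp2 := (Fact.out : p.Prime).two_le
  refine ⟨h.pow_mem' hpn hx.1, ?_⟩
  rw [P_eq (by omega), show j + (p - 1) + 1 = j + p by omega]
  exact pow_notMem h.hn h.hc hpn hj hx.1 hx.2

theorem MC.mem_of_pow_eq_one (h : MC p G n) (hpn : p ≤ n + 1) {x : G} (hx : x ∈ C G 1)
    (h1 : x ^ p = 1) : x ∈ P G (n + 3 - p) := by
  by_cases e : x = 1
  · rw [e]; exact one_mem _
  obtain ⟨j, -, hl⟩ := h.exists_lv_of hx e
  by_cases hj : j + p ≤ n + 2
  · exact absurd (by rw [h1]; exact one_mem _) (h.pow_lv hpn hl hj).2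
  · exact P_anti (by omega) hl.1

omit [Finite G] in
theorem le_or {E : Subgroup G} (hE : ∀ x ∈ E, ¬ Unif n x) : E ≤ C G 1 ∨ E ≤ C G n := by
  by_contra hc
  rw [not_or] at hc
  obtain ⟨x, hx, hx'⟩ := SetLike.not_le_iff_exists.1 hc.1
  obtain ⟨y, hy, hy'⟩ := SetLike.not_le_iff_exists.1 hc.2
  have h1 : x ∈ C G n := by_contra fun k => hE x hx ⟨hx', k⟩
  have h2 : y ∈ C G 1 := by_contra fun k => hE y hy ⟨k, hy'⟩
  exact hE (x * y) (mul_mem hx hy) ⟨fun k => hx' (by simpa using mul_mem k (inv_mem h2)),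
    fun k => hy' (by simpa using mul_mem (inv_mem h1) k)⟩

theorem MC.cent_max (h : MC p G n) {K : Subgroup G} (hK : Nat.card K = p ^ (n + 2)) :
    centralizer (K : Set G) ≤ K := by
  intro x hx
  by_contra hx'
  have hc : ∀ k ∈ K, Commute x k := fun k hk => (mem_centralizer_iff.1 hx k hk).symm
  have ht : K ⊔ zpowers x = ⊤ :=
    sup_zp_eq le_top hK (by rw [card_top, h.hn]) (mem_top x) hx'
  have hN : K.Normal := by
    rw [← normalizer_eq_top_iff, eq_top_iff, ← ht]
    exact sup_le le_normalizer (zpowers_le.2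
      (nz_of_cm fun d hd => cm_of_commute (hc d hd).symm))
  have hz : x ∈ center G := mem_center_iff.2 fun g =>
    (commute_sup_zp hc (.refl x) (ht.ge (mem_top g))).symm
  have h1 : P G 1 ≤ K := by
    refine commutator_le.2 fun u _ v _ => ?_
    exact cm_sup_sup (K := K) (x := x) (fun k hk k' _ => cm_left hk k')
      (fun k hk => cm_left hk x) (ht.ge (mem_top u)) (ht.ge (mem_top v))
  rw [← h.P_center] at hz
  exact hx' (h1 (P_anti (by omega) hz))

theorem MC.comm_one (h : MC p G 1) {x y : G} (hx : x ∈ C G 1) (hy : y ∈ C G 1) : Commute x y := by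
  have h1 : ⁅x, y⁆ ∈ P G (1 + 2) :=
    comm_C_le h.hn h.hc le_rfl (commutator_mem_commutator hx hy)
  rw [h.P_bot] at h1
  exact cm_bot.1 h1

theorem MC.inf_eq (h : MC p G n) (hx : C G n ≠ C G 1) : C G n ⊓ C G 1 = P G 1 := by
  have h1 : P G 1 ≤ C G n ⊓ C G 1 := le_inf (γ_one_le_C n) (γ_one_le_C 1)
  have h2 : C G n ⊓ C G 1 < C G 1 := lt_of_le_of_ne inf_le_right fun e =>
    hx (eq_of_le_of_card_ge (inf_eq_right.1 e) (by rw [h.cardQ, h.cardR])).symm
  have h3 : Nat.card (P G 1) = p ^ (n + 1) := h.cardP (by omega)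
  have h4 := card_eq_of_lt' (h.pG.to_subgroup _) h2 h.cardR (h3 ▸ card_le_of_le h1)
  exact (eq_of_le_of_card_ge h1 (by rw [h3, h4])).symm

theorem MC.exc (h : MC p G n) (hx : C G n ≠ C G 1) : Odd n ∧ 3 ≤ n ∧ n + 2 ≤ p := by
  have h1 := odd_of_ne h.hn h.hc h.h1 hx
  have h2 : n ≠ 1 := fun e => hx (by rw [e])
  refine ⟨h1, ?_, by_contra fun k => hx (C_last h.hn h.hc (by omega))⟩
  obtain ⟨m, rfl⟩ := h1
  omega

theorem MC.cube_le (h : MC p G n) {u : G} (hu : u ∈ C G 1) :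
    p ^ 3 ≤ Nat.card (centralizer ({u} : Set G)) := by
  have hm : ∀ {x : G}, Commute x u → x ∈ centralizer ({u} : Set G) := fun hx =>
    mem_centralizer_singleton_iff.2 hx
  rcases h.h1.eq_or_lt with e | h2
  · subst e
    rw [← h.cardR]
    exact card_le_of_le fun x hx => hm (h.comm_one hx hu)
  obtain ⟨m, rfl⟩ : ∃ m, n = m + 1 := ⟨n - 1, by omega⟩
  obtain ⟨w, hw⟩ := h.exists_lv (j := m) (by omega)
  by_cases hA : u ∈ P G m
  · have h3 : Nat.card (P G m) = p ^ 3 := by rw [h.cardP (by omega)]; congr 1; omega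
    rw [← h3]
    refine card_le_of_le fun x hx => hm (cm_bot.1 ?_)
    rw [← h.sup_lv hw] at hx hA
    exact cm_sup_sup (fun k hk k' hk' => cm_bot.2 (h.commute_of_add hk hk' (by omega)))
      (fun k hk => cm_bot.2 (h.commute_of_add hk hw.1 (by omega))) hx hA
  have hz : ∀ x ∈ P G m, ⁅x, u⁆ ∈ center G := fun x hx => by
    rw [← h.P_center]; exact h.cm2 hx hu (.inl (by omega))
  obtain ⟨v, hv, hv', hc⟩ : ∃ v ∈ P G m, v ∉ center G ∧ Commute v u := by
    by_cases hy : ∀ y ∈ P G (m + 1), Commute y u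
    · obtain ⟨y, hy'⟩ := h.exists_lv (j := m + 1) (by omega)
      exact ⟨y, P_anti (by omega) hy'.1, h.P_center ▸ hy'.2, hy y hy'.1⟩
    push Not at hy
    obtain ⟨y, hy, hy'⟩ := hy
    have hy1 := hz y (P_anti (by omega) hy)
    have h3 := hz w hw.1
    rw [h.center_eq hy1 fun e => hy' (commutatorElement_eq_one_iff_commute.1 e)] at h3
    obtain ⟨k, hk⟩ := mem_zpowers_iff.1 h3
    rw [← cm_zpow_left (mem_center_iff.1 hy1 y).symm] at hk
    refine ⟨(y ^ k)⁻¹ * w, mul_mem (inv_mem (zpow_mem (P_anti (by omega) hy) k)) hw.1,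
      fun e => hw.2 ?_, ?_⟩
    · rw [← h.P_center] at e
      simpa using mul_mem (zpow_mem hy k) (P_anti (by omega) e)
    · have e : (y ^ k)⁻¹ * w * u = (y ^ k)⁻¹ * ⁅w, u⁆ * u * w := by
        simp only [commutatorElement_def]; group
      change _ * _ = _ * _
      rw [e, ← hk]
      simp only [commutatorElement_def]; group
  have hZ : center G ≤ centralizer ({u} : Set G) := fun z hz => hm (mem_center_iff.1 hz u).symm
  have h3 : center G < center G ⊔ zpowers v :=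
    lt_of_le_of_ne le_sup_left fun e => hv' (e.ge (mem_sup_right (mem_zpowers v)))
  have h4 : center G ⊔ zpowers v < centralizer ({u} : Set G) :=
    lt_of_le_of_ne (sup_le hZ (zpowers_le.2 (hm hc))) fun e => hA
      ((sup_le (h.P_center ▸ P_anti (by omega)) (zpowers_le.2 hv) : _ ≤ P G m)
        (e.ge (hm (.refl u))))
  have h5 := PG.mul_card_le_of_lt (h.pG.to_subgroup _) h3
  have h6 := PG.mul_card_le_of_lt (h.pG.to_subgroup _) h4
  have h7 : Nat.card (center G) = p := by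
    rw [← h.P_center, h.cardP (by omega), show m + 1 + 2 - (m + 1 + 1) = 1 by omega, pow_one]
  rw [h7] at h5
  calc p ^ 3 = p * (p * p) := by ring
    _ ≤ _ := (Nat.mul_le_mul_left p h5).trans h6

theorem MC.cent_Q (h : MC p G n) {e : G} (he : e ∈ C G n) (he' : e ∉ C G 1) :
    centralizer ({e} : Set G) = P G n ⊔ zpowers e ∧
      Nat.card (centralizer ({e} : Set G)) = p ^ 3 ∧
      ∀ x ∈ C G 1, Commute x e → x ∈ P G n := by
  have h3 : ∀ x ∈ C G 1, Commute x e → x ∈ P G n := by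
    intro x hx hc
    by_cases e1 : x = 1
    · rw [e1]; exact one_mem _
    obtain ⟨j, -, hl⟩ := h.exists_lv_of hx e1
    by_cases hj : j + 1 ≤ n
    · exact absurd (cm_of_commute hc) (h.lv_comm hl he' (.inl hj)).2
    · exact P_anti (by omega) hl.1
  have h1 : centralizer ({e} : Set G) = P G n ⊔ zpowers e := by
    refine le_antisymm (fun g hg => ?_) (sup_le (fun x hx => mem_centralizer_singleton_iff.2
      (h.mem_Q.1 he x hx)) (zpowers_le.2 (mem_centralizer_singleton_iff.2 rfl)))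
    obtain ⟨r, hr, z, hz, rfl⟩ := mem_sup_of_normal_left.1 ((h.sup_R he').ge (mem_top g))
    have hz' : z ∈ centralizer ({e} : Set G) :=
      (zpowers_le.2 (mem_centralizer_singleton_iff.2 rfl) : zpowers e ≤ _) hz
    have hr' : r ∈ centralizer ({e} : Set G) := by simpa using mul_mem hg (inv_mem hz')
    exact mul_mem (mem_sup_left (h3 r hr (mem_centralizer_singleton_iff.1 hr'))) (mem_sup_right hz)
  refine ⟨h1, ?_, h3⟩
  rw [h1]
  exact card_sup_zp (j := 2) (by rw [h.cardP (by omega)]; congr 1; omega)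
    (fun k => he' (P_le_C n k)) (h3 _ (h.pow_mem_R e) ((Commute.refl e).pow_left p))

theorem MC.normal_cent (h : MC p G n) {u : G} {j : ℕ} (hu : u ∈ P G j)
    (hj : ∀ x ∈ P G (j + 1), ∀ r ∈ C G 1, Commute x r) :
    (C G 1 ⊓ centralizer ({u} : Set G)).Normal := by
  have _ := h
  refine ⟨fun x hx g => ⟨(C_normal 1).conj_mem x hx.1 g, mem_centralizer_singleton_iff.2 ?_⟩⟩
  have h1 : Commute x u := mem_centralizer_singleton_iff.1 hx.2
  have h2 : Commute x ⁅g⁻¹, u⁆ := (hj _ (cm_swap (cm1 hu g⁻¹)) x hx.1).symm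
  have h3 := (h2.mul_right h1).eq
  rw [show ⁅g⁻¹, u⁆ * u = g⁻¹ * u * g by simp only [commutatorElement_def]; group] at h3
  calc g * x * g⁻¹ * u = g * (x * (g⁻¹ * u * g)) * g⁻¹ := by group
    _ = _ := by rw [h3]; group

theorem MC.P_le_frattini (h : MC p G n) (hna : ∃ x ∈ C G 1, ∃ y ∈ C G 1, ¬ Commute x y) :
    P G (p - 1) ≤ ⁅C G 1, C G 1⁆ ⊔ powerClosure p 1 (C G 1) := by
  by_cases hpn : p ≤ n + 1
  · obtain ⟨x, hx⟩ := h.exists_lv (j := 0) (by omega)
    have h1 := h.pow_lv hpn hx (by omega)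
    rw [zero_add] at h1
    exact (h.P_le_of_normal (PG.pow_mem_powerClosure_one hx.1) h1).trans le_sup_right
  · obtain ⟨x, hx, y, hy, hc⟩ := hna
    have h1 := commutator_mem_commutator hx hy
    obtain ⟨j, hj, hl⟩ := h.exists_lv_of (comm_self_le h1)
      fun e => hc (commutatorElement_eq_one_iff_commute.1 e)
    exact ((P_anti (by omega)).trans (h.P_le_of_normal h1 hl)).trans le_sup_left

theorem MC.pow_P_n (h : MC p G n) (hp : p ≠ 2) (h2 : 2 ≤ n) {x : G} (hx : x ∈ P G n) :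
    x ^ p = 1 := by
  obtain ⟨m, rfl⟩ : ∃ m, n = m + 1 := ⟨n - 1, by omega⟩
  obtain ⟨w, hw⟩ := h.exists_lv (j := m) (by omega)
  obtain ⟨s, hs⟩ := h.exists_unif
  have hy : Lv ⁅s, w⁆ (m + 1) := by
    have := LvB.lv_inv (h.lv_comm hw hs.1 (.inl le_rfl))
    rwa [commutatorElement_inv] at this
  have hc : ⁅s, ⁅s, w⁆⁆ ∈ center G := h.P_center ▸ cm_swap (cm1 hy.1 s)
  have h1 := LvB.conj_pow_eq (s := s) (w := w) (y := ⁅s, w⁆) hc
    (by simp only [commutatorElement_def]; group) (by simp only [commutatorElement_def]; group) p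
  obtain ⟨k, hk⟩ : p ∣ p.choose 2 :=
    (Fact.out : p.Prime).dvd_choose_self two_ne_zero
      (lt_of_le_of_ne (Fact.out : p.Prime).two_le hp.symm)
  rw [hk, pow_mul, h.pow_center hc, one_pow, one_mul, ← mem_center_iff.1 (h.pow_unif hs) w,
    mul_inv_cancel_right, right_eq_mul] at h1
  rw [← h.sup_lv hy, h.P_center] at hx
  obtain ⟨z, hz, t, ht, rfl⟩ := mem_sup_of_normal_left.1 hx
  obtain ⟨i, rfl⟩ := mem_zpowers_iff.1 ht
  rw [Commute.mul_pow (mem_center_iff.1 hz _).symm, h.pow_center hz, one_mul, ← zpow_natCast,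
    ← zpow_mul, mul_comm, zpow_mul, zpow_natCast, h1, one_zpow]

end Cfsg.Agent.MxD
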