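import Mathlib
import Cfsg.Agent.MxD.Defs
import Cfsg.Agent.MxD.LvA
import Cfsg.Agent.MxD.LvB
import Cfsg.Agent.Fus.R3MaxB
import Cfsg.Agent.S5269

/-! Bridges to the statements over a subgroup; pearls. -/

set_option autoImplicit false
set_option linter.unusedSectionVars false

namespace Cfsg.Agent.MxD

open Subgroup Cfsg.Agent.GT Cfsg.Agent.FG.MxC Cfsg.Agent.Fus Cfsg.Agent.Fus.R3 Cfsg.Agent.MxE
open Cfsg.FusionSystem hiding inv_mem
open scoped commutatorElement

universe u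

variable {G : Type u} [Group G] [Finite G] {p n : ℕ} [Fact p.Prime]
  {F : FusionSystem (⊤ : Subgroup G)} {E : Subgroup G}

theorem exists_aut_top {f : G → G} (hf : F.Iso ⊤ ⊤ f) : ∃ α : MulAut G, ∀ x, α x = f x :=
  ⟨topEquiv.symm.trans (hf.equiv.trans topEquiv), fun x => hf.coe_equiv ⟨x, mem_top x⟩⟩

theorem iso_R_of_top {f : G → G} (hf : F.Iso ⊤ ⊤ f) : F.Iso (C G 1) (C G 1) f := by
  obtain ⟨α, hα⟩ := exists_aut_top hf
  exact ⟨hf.mor.mono le_top, fun x hx => hα x ▸ aut_mem_C α hx,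
    fun y hy => ⟨α⁻¹ y, aut_mem_C α⁻¹ hy, by rw [← hα]; simp⟩⟩

theorem center_le_ess (hE : F.IsEssential p E) : center G ≤ E := fun _ hz =>
  hE.mem_of_comm (mem_top _) fun x _ => mem_center_iff.1 hz x

theorem MC.two_le (h : MC p G n) (hE : Bad F p n E) : 2 ≤ n := by
  by_contra hlt
  obtain rfl : n = 1 := by have := h.h1; omega
  have h1 : E < C G 1 := hE.2.elim id id
  exact h1.2 fun s hs => hE.1.mem_of_comm (mem_top _) fun x hx => h.comm_one (h1.1 hx) hs

theorem MC.not_normal (h : MC p G n) (hp : 5 ≤ p) (hF : F.IsSaturated p) (hE : Bad F p n E) :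
    ¬ E.Normal := fun hN => by
  have hp' : p.Prime := Fact.out
  have := h.pG.isNilpotent
  have hc : Group.nilpotencyClass (⊤ : Subgroup G) = n + 2 := h.hc ▸ le_antisymm (nilpotencyClass_le ⊤)
    (Group.nilpotencyClass_le_of_surjective (topEquiv (G := G)).toMonoidHom topEquiv.surjective)
  refine S5269.not_sq_dvd hp h.pT (card_top.trans h.hn) hc hF hE.1 (hN.subgroupOf ⊤) ?_
  obtain ⟨m, hm⟩ := (h.pG.to_subgroup E).exists_card_eq
  have hlt : Nat.card E < p ^ (n + 2) := by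
    rcases hE.2 with k | k
    · exact h.cardR ▸ card_lt_of_lt k
    · exact h.cardQ ▸ card_lt_of_lt k
  rw [hm, Nat.pow_lt_pow_iff_right hp'.one_lt] at hlt
  obtain ⟨b, hb⟩ : ∃ b, n + 3 = m + (b + 2) := ⟨n + 1 - m, by omega⟩
  rw [← relIndex, relIndex_top_right, index_eq_of_card (hb ▸ h.hn) hm]
  exact pow_dvd_pow p (by omega)

theorem MC.four_le (h : MC p G n) (hp : 5 ≤ p) (h2 : 2 ≤ n) (hF : F.IsSaturated p)
    (hE : F.IsEssential p E) (h3 : p ^ 3 ≤ Nat.card E) {u : G} (hu : u ∈ E) (hu' : u ∉ center G)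
    (hc : ∀ x ∈ E, Commute u x) : p ^ 4 ≤ Nat.card E := by
  have hp' : p.Prime := Fact.out
  obtain ⟨m, hm⟩ := (h.pG.to_subgroup E).exists_card_eq
  rw [hm, Nat.pow_le_pow_iff_right hp'.one_lt] at h3 ⊢
  by_contra hlt
  obtain rfl : m = 3 := by omega
  rcases (hE.noChain hF h.pT).of_card_cube hm with k | k | k
  · have : Fact (IsPGroup p G) := ⟨h.pG⟩
    exact not_ess_cube hF (by omega) h.hn h.hc h2 hE hm k.1 fun x hx => congrArg Subtype.val (k.2 ⟨x, hx⟩)
  · have h1 : (center G).subgroupOf E ≤ center E := fun z hz =>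
      mem_center_iff.2 fun x => Subtype.ext (mem_center_iff.1 hz x)
    have h4 : Nat.card ((center G).subgroupOf E) = p := by
      rw [Nat.card_congr (subgroupOfEquivOfLe (center_le_ess hE)).toEquiv, ← h.P_center, h.cardP (by omega)]
      simp
    have h5 := eq_of_le_of_card_ge h1 (k.2.1.2.trans h4.symm).le
    exact hu' (h5.ge (show (⟨u, hu⟩ : E) ∈ center E from
      mem_center_iff.2 fun x => Subtype.ext (hc x x.2).symm))
  · omega

theorem MC.unif_le (h : MC p G n) (hF : F.IsSaturated p) (hE : F.IsEssential p E) {s : G}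
    (hs : s ∈ E) (hu : Unif n s) : Nat.card E ≤ p ^ 3 := by
  have hp : p.Prime := Fact.out
  obtain ⟨m, hm⟩ := (h.pG.to_subgroup E).exists_card_eq
  by_contra hlt
  rw [hm, Nat.pow_le_pow_iff_right hp.one_lt] at hlt
  obtain ⟨r, rfl⟩ : ∃ r, m = r + 1 + 3 := ⟨m - 4, by omega⟩
  refine MaxH.not_noChain hm ?_ (by omega) (hE.noChain hF h.pT)
  refine PG.nilpotencyClass_eq_of_card_centralizer_le (n := r + 2) hm (x := ⟨s, hs⟩) ?_
  rw [← h.card_cent hu]
  refine Nat.card_le_card_of_injective (fun y => ⟨y.1.1, ?_⟩) fun y y' e => ?_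
  · exact mem_centralizer_singleton_iff.2 (congrArg Subtype.val (mem_centralizer_singleton_iff.1 y.2))
  · exact Subtype.ext (Subtype.ext (congrArg Subtype.val e :))

theorem MC.pearl (h : MC p G n) (hF : F.IsSaturated p) (hE : F.IsEssential p E) {s : G}
    (hs : s ∈ E) (hu : Unif n s) : (Nat.card E = p ^ 2 ∧ IsElementaryAbelian p E) ∨
      (Nat.card E = p ^ 3 ∧ IsExtraspecial p E ∧ (p ≠ 2 → Monoid.exponent E = p) ∧
        (p = 2 → Nonempty (E ≃* QuaternionGroup 2))) := by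
  have hp' : p.Prime := Fact.out
  have hP := h.pG.to_subgroup E
  have nc := hE.noChain hF h.pT
  obtain ⟨m, hm⟩ := hP.exists_card_eq
  have hle := h.unif_le hF hE hs hu
  rw [hm, Nat.pow_le_pow_iff_right hp'.one_lt] at hle
  obtain rfl | rfl | rfl | rfl : m = 0 ∨ m = 1 ∨ m = 2 ∨ m = 3 := by omega
  · exact absurd (isCyclic_of_card_dvd_prime (p := p) (by rw [hm]; simp)) (nc.not_isCyclic hP)
  · exact absurd (isCyclic_of_card_dvd_prime (p := p) (by rw [hm]; simp)) (nc.not_isCyclic hP)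
  · exact .inl ⟨hm, IsElementaryAbelian.of_card_sq hm (nc.not_isCyclic hP)⟩
  have hna : ¬ IsMulCommutative E := fun k => by
    have h1 : E ≤ centralizer {s} := fun x hx =>
      mem_centralizer_singleton_iff.2 (congrArg Subtype.val (k.is_comm.comm (⟨x, hx⟩ : E) ⟨s, hs⟩))
    have h2 := card_le_of_le h1
    rw [hm, h.card_cent hu, Nat.pow_le_pow_iff_right hp'.one_lt] at h2
    omega
  refine .inr ⟨hm, isExtraspecial_of_card_cube hm hna, ?_⟩
  rcases nc.of_card_cube hm with k | k | k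
  · exact absurd k.1 hna
  · have : Nontrivial E := Finite.one_lt_card_iff_nontrivial.1
      (hm ▸ Nat.one_lt_pow (by omega) hp'.one_lt)
    exact ⟨fun _ => (Monoid.exponent_eq_prime_iff hp').2 fun g hg => orderOf_eq_prime (k.2.2 g) hg,
      fun e => absurd e k.1⟩
  · exact ⟨fun e => absurd k.1 e, fun _ => k.2⟩

theorem MC.pearl' (h : MC p G n) (hF : F.IsSaturated p) (hE : F.IsEssential p E) {s : G}
    (hs : s ∈ E) (hu : Unif n s) : Nat.card E = p ^ 2 ∨
      (Nat.card E = p ^ 3 ∧ E = P G n ⊔ zpowers s) := by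
  have hp' : p.Prime := Fact.out
  refine (h.pearl hF hE hs hu).imp (·.1) fun k => ⟨k.1, ?_⟩
  have hZ : center G ≤ C G 1 ⊓ E := le_inf (h.P_center.ge.trans (P_anti (Nat.zero_le _))) (center_le_ess hE)
  have hN : (C G 1 ⊓ E).Normal := h.normal_of_inv inf_le_left hZ hu.1 (mem_normalizer_fintype fun e he =>
    mem_inf.2 ⟨Normal.conj_mem inferInstance e he.1 s, mul_mem (mul_mem hs he.2) (inv_mem hs)⟩)
  obtain ⟨j, hj, e⟩ := h.eq_P_of_normal (N := C G 1 ⊓ E) inf_le_left
  have h1 : (C G 1).relIndex E = p := by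
    rw [← relIndex_sup_left, top_le_iff.1 ((h.sup_R hu.1).ge.trans (sup_le_sup_left (zpowers_le.2 hs) _)),
      relIndex_top_right, index_C h.hn h.hc le_rfl h.h1]
  have h2 := PG.relIndex_mul_card_inf (C G 1) E
  rw [h1, e, h.cardP hj, k.1, ← pow_succ'] at h2
  obtain rfl : j = n := by
    have := Nat.pow_right_injective hp'.two_le h2
    omega
  have h3 : P G j ⊔ zpowers s ≤ E := sup_le (e.ge.trans inf_le_right) (zpowers_le.2 hs)
  have h4 : P G j < P G j ⊔ zpowers s := left_lt_sup.2 fun k' => hu.1 (P_anti (Nat.zero_le _) (zpowers_le.1 k'))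
  obtain ⟨m, hm⟩ := (h.pG.to_subgroup (P G j ⊔ zpowers s)).exists_card_eq
  have h5 := card_lt_of_lt h4
  rw [hm, h.cardP hj, Nat.pow_lt_pow_iff_right hp'.one_lt] at h5
  refine (eq_of_le_of_card_ge h3 ?_).symm
  rw [hm, k.1]
  exact Nat.pow_le_pow_right hp'.pos (by omega)

end Cfsg.Agent.MxD
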