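import Mathlib
import Cfsg.Agent.MxD.Defs
import Cfsg.Agent.MxD.LvA
import Cfsg.Agent.MxD.LvB
import Cfsg.Agent.MxD.Br

/-! Case B, first consequences. -/

set_option autoImplicit false

namespace Cfsg.Agent.MxD

open Subgroup Cfsg.Agent.GT Cfsg.Agent.FG.MxC Cfsg.Agent.Fus Cfsg.Agent.Fus.R3 Cfsg.Agent.MxE
open Cfsg.FusionSystem hiding inv_mem
open scoped commutatorElement

universe u

variable {G : Type u} [Group G] [Finite G] {p n : ℕ} [Fact p.Prime]
  {F : FusionSystem (⊤ : Subgroup G)} {E : Subgroup G}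

theorem CB.b0_ess (h : CB F p n E) : F.EssData p E (F.extAut E) := h.bad.1.essData h.sat h.mc.pT

theorem CB.cent (h : CB F p n E) {g : MulAut E} (hg : g ∈ F.autGroup E) (hM : g ∉ F.extAut E)
    {v : G} (hv : v ∈ E) (hvc : ∀ x ∈ E, Commute v x)
    (hfix : ∀ α ∈ F.autGroup E, totA α v = v → α ∈ F.extAut E) (x : G) :
    Commute x (totA g v) ↔ x ∈ E := by
  have hu : ∀ y ∈ E, Commute y (totA g v) := fun y hy => by
    have := (mulOn_totA g).map_mul (totA_mem g⁻¹ hy) hv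
    rw [← (hvc _ (totA_mem g⁻¹ hy)).eq, (mulOn_totA g).map_mul hv (totA_mem g⁻¹ hy),
      totA_totA_inv g hy] at this
    exact this.symm
  refine ⟨fun hx => by_contra fun hxE => ?_, hu x⟩
  have hlt : E < centralizer ({totA g v} : Set G) :=
    lt_of_le_of_ne (fun y hy => mem_centralizer_singleton_iff.2 (hu y hy).eq)
      fun e => hxE (e ▸ mem_centralizer_singleton_iff.2 hx.eq)
  obtain ⟨y, hy, hyE⟩ := SetLike.exists_of_lt (lt_normalizerIn (h.mc.pG.to_subgroup _) hlt)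
  have hy' : y ∈ normalizerIn ⊤ E := ⟨trivial, hy.2⟩
  have hA := mul_mem (mul_mem (inv_mem hg) (F.cAut_mem_autGroup le_top hy')) (inv_mem (inv_mem hg))
  refine hM ((inv_mem_iff (x := g)).1
    (h.b0_ess.mem_of_conj_cAut h.mc.pT hy' hyE (inv_mem hg) (hfix _ hA ?_)))
  rw [inv_inv, totA_mul _ _ hv, totA_mul _ _ (totA_mem g hv), totA_cAut hy.2 (totA_mem g hv),
    mem_centralizer_singleton_iff.1 hy.1, mul_inv_cancel_right, totA_inv_totA g hv]

theorem CB.fix_z (h : CB F p n E) {z : G} (hz : z ∈ center G) (h1 : z ≠ 1) :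
    ∀ α ∈ F.autGroup E, totA α z = z → α ∈ F.extAut E := fun α hα e =>
  h.cb E h.bad α hα fun w hw => by
    rw [h.mc.center_eq hz h1] at hw
    obtain ⟨k, rfl⟩ := mem_zpowers_iff.1 hw
    rw [(mulOn_totA α).map_zpow (center_le_ess h.bad.1 hz), e]

theorem CB.b0_ne (h : CB F p n E) : E ≠ ⊤ := fun e =>
  h.bad.2.elim (fun k => not_top_lt (e ▸ k)) fun k => not_top_lt (e ▸ k)

theorem CB.b0_z (h : CB F p n E) : ∃ z ∈ center G, z ≠ 1 := by
  obtain ⟨z, h1, h2⟩ := h.mc.exists_lv (le_refl (n + 1))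
  rw [h.mc.P_center] at h1
  rw [h.mc.P_bot, mem_bot] at h2
  exact ⟨z, h1, h2⟩

theorem CB.exists_u (h : CB F p n E) :
    ∃ u ∈ E, u ^ p = 1 ∧ u ∉ center G ∧ ∀ x, Commute x u ↔ x ∈ E := by
  obtain ⟨g, hg, hM⟩ := h.b0_ess.exists_not_mem
  obtain ⟨z, hz, h1⟩ := h.b0_z
  have hzE := center_le_ess h.bad.1 hz
  have hc := h.cent hg hM hzE (fun x _ => (mem_center_iff.1 hz x).symm) (h.fix_z hz h1)
  refine ⟨totA g z, totA_mem g hzE, ?_, fun k => h.b0_ne (eq_top_iff.2 fun x _ =>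
    (hc x).1 (mem_center_iff.1 k x)), hc⟩
  rw [← (mulOn_totA g).map_pow hzE, h.mc.pow_center hz, (mulOn_totA g).map_one]

omit [Finite G] in
theorem b0_cent {u : G} (hc : ∀ x, Commute x u ↔ x ∈ E) : centralizer ({u} : Set G) = E :=
  Subgroup.ext fun x => mem_centralizer_singleton_iff.trans (hc x)

theorem CB.lt_R (h : CB F p n E) : E < C G 1 := by
  refine h.bad.2.elim id fun hQ => ?_
  by_cases hle : E ≤ C G 1
  · refine lt_of_le_of_ne hle fun e => hQ.ne (eq_of_le_of_card_ge hQ.le ?_)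
    rw [e, h.mc.cardR, h.mc.cardQ]
  exfalso
  obtain ⟨e, he, heR⟩ := SetLike.not_le_iff_exists.1 hle
  obtain ⟨u, hu, -, hz, hc⟩ := h.exists_u
  by_cases huR : u ∈ C G 1
  · have h1 := (h.mc.cent_Q (hQ.le he) heR).2.2 u huR ((hc e).2 he).symm
    exact hQ.not_ge fun x hx => (hc x).1 (h.mc.mem_Q.1 hx u h1).symm
  · have h1 := (h.mc.cent_Q (hQ.le hu) huR).2.1
    rw [b0_cent hc] at h1
    have h2 := h.mc.four_le h.hp (h.mc.two_le h.bad) h.sat h.bad.1 h1.ge hu hz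
      fun x hx => ((hc x).2 hx).symm
    rw [h1] at h2
    exact absurd ((Nat.pow_le_pow_iff_right (Fact.out : p.Prime).one_lt).1 h2) (by norm_num)

theorem CB.nz_le (h : CB F p n E) : normalizer (E : Set G) ≤ C G 1 := fun _ hx =>
  by_contra fun k => h.mc.not_normal h.hp h.sat h.bad
    (h.mc.normal_of_inv h.lt_R.le (center_le_ess h.bad.1) k hx)

theorem CB.four (h : CB F p n E) : p ^ 4 ≤ Nat.card E := by
  obtain ⟨u, hu, -, hz, hc⟩ := h.exists_u
  have h1 := h.mc.cube_le (h.lt_R.le hu)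
  rw [b0_cent hc] at h1
  exact h.mc.four_le h.hp (h.mc.two_le h.bad) h.sat h.bad.1 h1 hu hz fun x hx => ((hc x).2 hx).symm

theorem CB.nonab (h : CB F p n E) : ∃ x ∈ C G 1, ∃ y ∈ C G 1, ¬ Commute x y := by
  obtain ⟨r, hr, hE⟩ := SetLike.exists_of_lt h.lt_R
  by_contra hn
  exact hE (h.bad.1.mem_of_comm trivial fun x hx =>
    by_contra fun k => hn ⟨x, h.lt_R.le hx, r, hr, k⟩)


end Cfsg.Agent.MxD
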