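import Mathlib
import Cfsg.Agent.MxD.Defs
import Cfsg.Agent.MxD.LvA
import Cfsg.Agent.MxD.LvB

/-! The exceptional case; the quotient by the centre. -/

set_option autoImplicit false

namespace Cfsg.Agent.MxD

open Subgroup Cfsg.Agent.GT Cfsg.Agent.FG.MxC Cfsg.Agent.Fus Cfsg.Agent.Fus.R3 Cfsg.Agent.MxE
open Cfsg.FusionSystem hiding inv_mem
open scoped commutatorElement

universe u

variable {G : Type u} [Group G] [Finite G] {p n : ℕ} [Fact p.Prime]

namespace Exc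

open Cfsg.Agent.Loc.H78.Lie

theorem ι_eq' (h : MC p G n) {j : ℕ} {x w : G} (hx : Lv x j) (hw : w ∈ P G j) : ∃ k : ℤ, ι j w = k • ι j x := by
  rw [← h.sup_lv hx] at hw
  obtain ⟨y, hy, _, ⟨k, rfl⟩, rfl⟩ := HT.mem_sup_of_normal.mp hw
  exact ⟨k, by rw [ι_mul (γ_succ_le _ hy) (zpow_mem (P_le_γ j hx.1) k), ι_eq_zero hy, zero_add,
    ι_zpow (P_le_γ j hx.1)]⟩

theorem exists_e (h : MC p G n) (hx : C G n ≠ C G 1) : ∃ s ∈ C G n, s ∉ C G 1 :=
  SetLike.not_le_iff_exists.mp fun k => hx (((isCoatom_C h.hn h.hc h.h1 le_rfl).le_iff_eq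
    (isCoatom_C h.hn h.hc le_rfl h.h1).1).mp k).symm

theorem x2 (h : MC p G n) (hne : C G n ≠ C G 1) {i j : ℕ} {x y : G} (hx : Lv x i) (hy : Lv y j)
    (hab : i + j = n) : ¬ Commute x y := by
  obtain ⟨hn, hc, h1⟩ := id h
  have ih : ∀ i, 1 ≤ i → i < n → C G i = C G 1 := fun i h h' => C_eq hn hc h h'
  obtain ⟨s, -, hs1⟩ := exists_e h hne
  obtain ⟨t, ht1, htm⟩ : ∃ t ∈ C G 1, t ∉ C G n :=
    SetLike.not_le_iff_exists.mp fun h => hne (((isCoatom_C hn hc le_rfl h1).le_iff_eq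
      (isCoatom_C hn hc h1 le_rfl).1).mp h)
  set a := seq t s with ha
  have am : ∀ i, a i ∈ γ G i := seq_mem t s
  let A : ℕ → Gr G := fun i => ι i (a i)
  set σ := ι 0 s
  have hA : ∀ i, A (i + 1) = ⁅A i, σ⁆ := fun i => (lie_ι_zero (am i) s).symm
  have hne0 : ∀ i, i ≤ n → a i ∈ P G i ∧ a i ∉ γ G (i + 1) := by
    intro i hi
    induction i with
    | zero => exact ⟨ht1, fun h => htm (γ_one_le_C n h)⟩
    | succ i ih' =>
      exact ⟨am _, comm_notMem hn hc h1 (by omega) hs1 (fun h => ih i h hi ▸ hs1)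
        (ih' (by omega)).1 (ih' (by omega)).2⟩
  have hAτ : ∀ i, i < n → ⁅A i, A 0⁆ = 0 := by
    intro i hi
    rcases Nat.eq_zero_or_pos i with rfl | hi0
    · exact lie_self _
    · exact mem_C_iff.mp (ih i hi0 hi ▸ ht1 : t ∈ C G i) _ (am i)
  have hrec : ∀ i j, ⁅A i, A (j + 1)⁆ = ⁅⁅A i, A j⁆, σ⁆ - ⁅A (i + 1), A j⁆ := by
    intro i j
    rw [hA j, hA i, leibniz_lie, ← lie_skew (A j) ⁅A i, σ⁆, sub_eq_add_neg]
  have low : ∀ j i, i + j < n → ⁅A i, A j⁆ = 0 := by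
    intro j
    induction j with
    | zero => exact fun i hi => hAτ i hi
    | succ j ihj => intro i hi; rw [hrec, ihj i (by omega), ihj (i + 1) (by omega)]; simp
  set U := ⁅A n, A 0⁆ with hU
  have hU0 : U ≠ 0 := fun h => htm (mem_C_of hn hc h1 (by omega) (am n) (hne0 n le_rfl).2 h)
  have mid : ∀ j i, i + j = n → ⁅A i, A j⁆ = (-1 : ℤ) ^ j • U := by
    intro j
    induction j with
    | zero => intro i hi; rw [show i = n by omega]; simp [hU]
    | succ j ihj =>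
      intro i hi
      rw [hrec, low j i (by omega), ihj (i + 1) (by omega), pow_succ]
      simp
  intro hxy
  obtain ⟨k, hk⟩ := ι_eq' h hx (hne0 i (by omega)).1
  obtain ⟨l, hl⟩ := ι_eq' h hy (hne0 j (by omega)).1
  have h2 : ⁅ι i (a i), ι j (a j)⁆ = (-1 : ℤ) ^ j • U := mid j i hab
  rw [hk, hl, zsmul_lie, lie_zsmul, lie_ι (P_le_γ i hx.1) (P_le_γ j hy.1),
    commutatorElement_eq_one_iff_commute.2 hxy, ι_one, smul_zero, smul_zero] at h2
  rcases neg_one_pow_eq_or ℤ j with e | e <;> rw [e] at h2 <;> simp at h2 <;>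
    first | exact hU0 h2 | exact hU0 h2.symm

theorem comm_P (h : MC p G n) (hx : C G n ≠ C G 1) {j : ℕ} (hj : j + 1 ≤ n) :
    ⁅P G j, C G n⁆ = P G (j + 1) := by
  obtain ⟨e, he, he'⟩ := exists_e h hx
  obtain ⟨x, hl⟩ := h.exists_lv (j := j) (by omega)
  exact le_antisymm (commutator_le.2 fun y hy g _ => cm1 hy g)
    (h.P_le_of_normal (commutator_mem_commutator hl.1 he) (h.lv_comm hl he' (Or.inl hj)))

theorem comm_Q (h : MC p G n) (hx : C G n ≠ C G 1) (h2 : 2 ≤ n) : ⁅C G n, C G n⁆ = P G 2 := by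
  obtain ⟨e, he, he'⟩ := exists_e h hx
  have h1 : P G 1 ≤ C G n := γ_one_le_C n
  refine le_antisymm ?_ ((comm_P h hx (j := 1) h2).ge.trans (commutator_mono h1 le_rfl))
  have h3 : P G 1 ⊔ zpowers e = C G n := S3806.eq_sup_of_card h1 (by
    rw [h.cardQ, h.cardP (j := 1) (by omega), ← pow_succ']; rfl) he (fun k => he' (P_le_C 1 k)) (h.pG.to_subgroup _)
  have h4 := S3806.comm_sup_zpowers_le h1 he (comm_P h hx (j := 1) h2).le
  rwa [h3] at h4

omit [Finite G] in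
theorem mem_γ {Q : Subgroup G} (i : ℕ) (x : Q) : x ∈ γ Q i ↔ (x : G) ∈ Q.lowerCentralSeries i := by
  rw [← top_subtype_lowerCentralSeries]
  exact (mem_map_iff_mem Q.subtype_injective).symm

theorem mk_γ (h : MC p G n) {j : ℕ} (hj : j ≤ n + 1) (x : G) :
    (x : G ⧸ center G) ∈ γ (G ⧸ center G) j ↔ x ∈ γ G j := by
  have h1 : center G ≤ γ G j := γ_last_eq_center h.hn h.hc ▸ γ_anti hj
  rw [γ, ← map_top_of_surjective _ (QuotientGroup.mk'_surjective (center G)), ← map_lowerCentralSeries]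
  change x ∈ ((γ G j).map (QuotientGroup.mk' (center G))).comap (QuotientGroup.mk' (center G)) ↔ _
  rw [comap_map_eq, QuotientGroup.ker_mk', sup_eq_left.2 h1]

theorem mk_C (h : MC p G n) {j : ℕ} (hj : j + 1 ≤ n) (x : G) :
    (x : G ⧸ center G) ∈ C (G ⧸ center G) j ↔ x ∈ C G j := by
  refine ⟨fun k y hy => (mk_γ h (by omega) _).1 (k _ ((mk_γ h (by omega) y).2 hy)), fun k y hy => ?_⟩
  obtain ⟨y, rfl⟩ := QuotientGroup.mk_surjective y
  exact (mk_γ h (j := j + 2) (by omega) ⁅y, x⁆).2 (k _ ((mk_γ h (by omega) y).1 hy))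

end Exc

theorem MC.x2 (h : MC p G n) (hx : C G n ≠ C G 1) {a b : ℕ} {x y : G} (ha : Lv x a) (hb : Lv y b)
    (hab : a + b = n) : ¬ Commute x y := Exc.x2 h hx ha hb hab

theorem MC.center_R (h : MC p G n) (hx : C G n ≠ C G 1) {x : G} (hR : x ∈ C G 1)
    (hc : ∀ r ∈ C G 1, Commute x r) : x ∈ center G := by
  by_cases h1 : x = 1
  · exact h1 ▸ one_mem _
  obtain ⟨j, hj, hl⟩ := h.exists_lv_of hR h1
  rcases hj.eq_or_lt with rfl | hj
  · exact h.P_center ▸ hl.1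
  · obtain ⟨y, hy⟩ := h.exists_lv (j := n - j) (by omega)
    exact (h.x2 hx hl hy (by omega) (hc y (P_le_C _ hy.1))).elim

theorem MC.not_noChain_Q (h : MC p G n) (hx : C G n ≠ C G 1) (h4 : 4 ≤ n) :
    ¬ NoChain p (C G n) := fun hN => by
  have e1 : (C G n).lowerCentralSeries 1 = P G 2 := Exc.comm_Q h hx (by omega)
  have e3 : (C G n).lowerCentralSeries 3 = P G 4 := by
    rw [Subgroup.lowerCentralSeries_succ, Subgroup.lowerCentralSeries_succ, e1, Exc.comm_P h hx (by omega),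
      Exc.comm_P h hx (by omega)]
  have h1 : P G 1 ≤ C G n := γ_one_le_C n
  have h2 : P G 2 ≤ C G n := (P_anti (by omega)).trans h1
  have e4 : commutator (C G n) = (P G 2).subgroupOf (C G n) :=
    Subgroup.ext fun x => by rw [mem_subgroupOf, ← e1]; exact Exc.mem_γ 1 x
  have e5 : C (C G n) 1 = (P G 1).subgroupOf (C G n) := Subgroup.ext fun g => by
    rw [mem_subgroupOf, mem_C]
    simp only [Exc.mem_γ]
    rw [e1, e3]
    refine ⟨fun k => (h.inf_eq hx).le ⟨g.2, ?_⟩, fun k y hy => cmP (a := 2) (b := 1) hy k⟩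
    rw [← C_eq h.hn h.hc (i := 2) (by omega) (by omega)]
    exact fun y hy => k ⟨y, h2 hy⟩ hy
  have hQ : IsPGroup p (C G n) := h.pG.to_subgroup _
  have := MaxH.C_char (C G n) 1
  refine hN.index_ne hQ ?_ (C (C G n) 1) ?_
  · refine (index_antitone (PG.commutator_le_frattini hQ)).trans (index_eq_of_card (a := n) h.cardQ ?_).le
    rw [e4, Nat.card_congr (subgroupOfEquivOfLe h2).toEquiv, h.cardP (by omega)]
    rfl
  · rw [← pow_one p]
    refine index_eq_of_card (a := n + 1) h.cardQ ?_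
    rw [e5, Nat.card_congr (subgroupOfEquivOfLe h1).toEquiv, h.cardP (by omega)]
    rfl

theorem MC.quot (h : MC p G (n + 1)) (h1 : 1 ≤ n) :
    MC p (G ⧸ center G) n ∧ C (G ⧸ center G) n = C (G ⧸ center G) 1 ∧
      ∀ j ≤ n + 2, ∀ x : G, (x : G ⧸ center G) ∈ P (G ⧸ center G) j ↔ x ∈ P G j := by
  refine ⟨⟨?_, by rw [Group.nilpotencyClass_quotient_center, h.hc]; rfl, h1⟩, Subgroup.ext fun x => ?_, fun j hj x => ?_⟩
  · rw [← index_eq_card]
    refine index_eq_of_card (a := 1) (by rw [h.hn]; congr 1; omega) ?_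
    rw [PG.card_center_of_maxClass h.hn h.hc, pow_one]
  · obtain ⟨x, rfl⟩ := QuotientGroup.mk_surjective x
    rw [Exc.mk_C h le_rfl, Exc.mk_C h (by omega), C_eq h.hn h.hc h1 le_rfl]
  · rcases j with _ | j
    · exact Exc.mk_C h (by omega) x
    · exact Exc.mk_γ h hj x

end Cfsg.Agent.MxD
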