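import Mathlib
import Cfsg.Agent.MxD.Defs
import Cfsg.Agent.MxD.LvA
import Cfsg.Agent.MxD.LvB
import Cfsg.Agent.MxD.Exc
import Cfsg.Agent.MxD.Br
import Cfsg.Agent.MxD.B0
import Cfsg.Agent.Fus.R3NonC

/-! Case B, extension of morphisms. -/

set_option autoImplicit false

namespace Cfsg.Agent.MxD

open Subgroup Cfsg.Agent.GT Cfsg.Agent.FG.MxC Cfsg.Agent.Fus Cfsg.Agent.Fus.R3 Cfsg.Agent.MxE
open Cfsg.FusionSystem hiding inv_mem
open scoped commutatorElement

universe u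

variable {G : Type u} [Group G] [Finite G] {p n : ℕ} [Fact p.Prime]
  {F : FusionSystem (⊤ : Subgroup G)} {E : Subgroup G}

namespace B1

theorem card_lt {A B : Subgroup G} (h : A < B) : Nat.card A < Nat.card B :=
  lt_of_le_of_ne (card_le_of_le h.le) fun e => h.ne (eq_of_le_of_card_ge h.le e.ge)

end B1

theorem CB.ext (h : CB F p n E) {X : Subgroup G} {f : G → G} (hX : X ≤ C G 1)
    (hc : Nat.card E < Nat.card X) (hf : F.Mor X f) :
    ∃ k, F.Iso (C G 1) (C G 1) k ∧ ∀ x ∈ X, k x = f x := by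
  refine h.sat.alperin_induction h.mc.pT
    (M := fun f => ∃ k, F.Iso (C G 1) (C G 1) k ∧ ∀ x ∈ X, k x = f x)
    ⟨_, F.iso_id le_top, fun _ _ => rfl⟩ ?_ ?_ hf
  · rintro f g ⟨k, hk, e⟩ e'
    exact ⟨k, hk, fun x hx => (e x hx).trans (e' x hx)⟩
  · rintro f R g hf ⟨k, hk, e⟩ hR hg hm
    suffices hg' : F.Iso (C G 1) (C G 1) g from ⟨_, hg'.comp hk, fun x hx => by rw [e x hx]⟩
    rcases hR with rfl | hR
    · exact iso_R_of_top hg
    have h1 : Nat.card E < Nat.card R := hc.trans_le (hf.card_le hm)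
    have h4 := h.four
    have hp1 : 1 < p := (Fact.out : p.Prime).one_lt
    have nb : ¬ Bad F p n R := fun b => absurd (h.max R b) (not_le.2 h1)
    have nu : ∀ x ∈ R, ¬ Unif n x := fun x hx hu => by
      have := h.mc.unif_le h.sat hR hx hu
      have h34 : p ^ 3 < p ^ 4 := Nat.pow_lt_pow_right hp1 (by norm_num)
      omega
    rcases le_or nu with hle | hle
    · rcases hle.eq_or_lt with rfl | hlt
      · exact hg
      · exact (nb ⟨hR, .inl hlt⟩).elim
    rcases hle.eq_or_lt with rfl | hlt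
    swap
    · exact (nb ⟨hR, .inr hlt⟩).elim
    by_cases hx : C G n = C G 1
    · rwa [hx] at hg
    exfalso
    have hn : n = 3 := by
      have h3 := (h.mc.exc hx).2.1
      by_contra hne
      exact h.mc.not_noChain_Q hx (by omega) (hR.noChain h.sat h.mc.pT)
    have h5 : Nat.card X ≤ Nat.card (P G 1) := hf.card_le fun x hx' => by
      rw [← h.mc.inf_eq hx]
      exact ⟨hm x hx', e x hx' ▸ hk.maps x (hX hx')⟩
    rw [h.mc.cardP (by omega), hn] at h5
    norm_num at h5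
    omega

theorem CB.mem_ext (h : CB F p n E) {α : MulAut E} :
    α ∈ F.extAut E ↔ ∃ k, F.Iso (C G 1) (C G 1) k ∧ ∀ x ∈ E, k x = totA α x := by
  refine ⟨fun hα => ?_, fun ⟨k, hk, e⟩ => mem_extAut h.lt_R hk.mor e⟩
  induction hα using closure_induction with
  | mem α hα =>
    obtain ⟨Q, g, hQ, hg, e⟩ := hα
    have hlt : E < normalizerIn Q E := lt_normalizerIn (h.mc.pG.to_subgroup Q) hQ
    obtain ⟨k, hk, e'⟩ := h.ext (normalizerIn_le_normalizer.trans h.nz_le) (B1.card_lt hlt)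
      (hg.mono normalizerIn_le)
    exact ⟨k, hk, fun x hx => (e' x (hlt.le hx)).trans (e x hx)⟩
  | one => exact ⟨_, F.iso_id le_top, fun x hx => (totA_one hx).symm⟩
  | mul a b _ _ iha ihb =>
    obtain ⟨k, hk, e⟩ := iha
    obtain ⟨k', hk', e'⟩ := ihb
    exact ⟨_, hk.comp hk', fun x hx => by rw [totA_mul _ _ hx, e' x hx, e _ (totA_mem _ hx)]⟩
  | inv a _ iha =>
    obtain ⟨k, hk, e⟩ := iha
    obtain ⟨k', hk', e1, -⟩ := hk.inv
    refine ⟨k', hk', fun x hx => ?_⟩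
    have hy := totA_mem a⁻¹ hx
    rw [← e1 _ (h.lt_R.le hy), e _ hy, totA_totA_inv _ hx]

theorem CB.norm (h : CB F p n E) :
    F.extAut E ≤ normalizer ((autInducedBy ⊤ E : Subgroup (MulAut E)) : Set (MulAut E)) := by
  have key : ∀ α ∈ F.extAut E, ∀ β ∈ autInducedBy ⊤ E, α * β * α⁻¹ ∈ autInducedBy ⊤ E := by
    intro α hα β hβ
    obtain ⟨k, hk, e⟩ := h.mem_ext.1 hα
    obtain ⟨s, hs, rfl⟩ := mem_autInducedBy_iff_cAut.1 hβ
    obtain ⟨h1, h2⟩ := hk.mor.aut_mul_cAut h.lt_R.le (fun x hx => (e x hx).symm) (h.nz_le hs.2) hs.2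
    rw [h2]
    exact cAut_mem_autInducedBy ⟨mem_top _, h1⟩
  refine fun α hα => mem_normalizer_iff.2 fun β => ⟨key α hα β, fun hβ => ?_⟩
  have := key α⁻¹ (inv_mem hα) _ hβ
  rwa [show α⁻¹ * (α * β * α⁻¹) * α⁻¹⁻¹ = β by group] at this

theorem CB.conj (h : CB F p n E) {k : G → G} (hk : F.Iso (C G 1) (C G 1) k) :
    CB F p n (img k E) := by
  have hi := hk.mor.iso_img_of_le h.lt_R.le
  have hN : normalizerIn ⊤ E ≤ C G 1 := normalizerIn_le_normalizer.trans h.nz_le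
  have hn : F.IsFullyNormalized (img k E) := h.bad.1.isFullyNormalized.of_card_le hi.isConj <|
    (hk.mor.mono hN).card_le fun x hx => hk.mor.maps_normalizerIn h.lt_R.le (hN hx) hx
  refine ⟨h.mc, h.hp, h.sat, ⟨ess_of_iso h.bad.1 hi hn, .inl (lt_of_le_of_ne ?_ fun e => ?_)⟩,
    fun E' hE' => hi.card_eq ▸ h.max E' hE', h.cb⟩
  · exact img_le_iff.2 fun x hx => hk.maps x (h.lt_R.le hx)
  · have := B1.card_lt h.lt_R
    rw [hi.card_eq, e] at this
    exact lt_irrefl _ this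

theorem CB.fix_k (h : CB F p n E) {k : G → G} (hk : F.Iso (C G 1) (C G 1) k) {z : G}
    (hz : z ∈ center G) (h1 : z ≠ 1) : k z ∈ E ∧ (∀ x ∈ C G 1, Commute (k z) x) ∧
      ∀ α ∈ F.autGroup E, totA α (k z) = k z → α ∈ F.extAut E := by
  have hzR : z ∈ C G 1 := h.lt_R.le (center_le_ess h.bad.1 hz)
  have hc : ∀ x ∈ C G 1, Commute (k z) x := fun x hx => by
    obtain ⟨y, hy, rfl⟩ := hk.surj x hx
    exact (hk.mor.commute_iff hzR hy).2 (mem_center_iff.1 hz y).symm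
  have hE : k z ∈ E := h.bad.1.mem_of_comm (mem_top _) fun x hx => (hc x (h.lt_R.le hx)).symm.eq
  refine ⟨hE, hc, fun α hα e => ?_⟩
  obtain ⟨k', hk', e1, e2⟩ := hk.inv
  have h' := h.conj hk'
  have hi := hk'.mor.iso_img_of_le h.lt_R.le
  have f1 : totA (hi.autCongr α) z = z := by
    have := hi.totA_autCongr α hE
    rwa [e, e1 z hzR] at this
  obtain ⟨m, hm, em⟩ := h'.mem_ext.1 (h'.fix_z hz h1 _ (hi.autCongr_mem_iff.2 hα) f1)
  refine h.mem_ext.2 ⟨_, hk.comp (hm.comp hk'), fun x hx => ?_⟩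
  rw [em _ (mem_img_of_mem hx), hi.totA_autCongr α hx, e2 _ (h.lt_R.le (totA_mem _ hx))]

end Cfsg.Agent.MxD
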