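import Mathlib
import Cfsg.Agent.MxD.Defs
import Cfsg.Agent.MxD.LvA
import Cfsg.Agent.MxD.LvB

/-! Weights of an automorphism. -/

set_option autoImplicit false

namespace Cfsg.Agent.MxD

open Subgroup Cfsg.Agent.GT Cfsg.Agent.FG.MxC Cfsg.Agent.Fus Cfsg.Agent.Fus.R3 Cfsg.Agent.MxE
open Cfsg.FusionSystem hiding inv_mem
open scoped commutatorElement

universe u

variable {G : Type u} [Group G] [Finite G] {p n : ℕ} [Fact p.Prime]

namespace WtH

omit [Finite G] in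
theorem wz_neg {τ : G → G} {B : Subgroup G} [hB : B.Normal] {x : G} (h : τ x * x ∈ B) : Wz τ B x (-1 : ZMod p) :=
  ⟨-1, by simp, by rw [R3.Wt, zpow_neg_one, inv_inv]; exact hB.mem_comm h⟩

theorem ne_neg (h : 5 ≤ p) : (-1 : ZMod p) ≠ 1 :=
  haveI : Fact (2 < p) := ⟨by omega⟩
  ZMod.neg_one_ne_one

omit [Finite G] in
theorem fix_pow {α : MulAut G} {M N : Subgroup G} (hle : M ≤ N) (h : ∀ y ∈ N, y⁻¹ * α y ∈ M) (m : ℕ) :
    ∀ y ∈ N, y⁻¹ * (α ^ m) y ∈ M := by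
  induction m with
  | zero => intro y _; simp
  | succ m ih =>
    intro y hy
    have := mul_mem (h y hy) (ih _ ((mul_mem_cancel_left (inv_mem hy)).1 (hle (h y hy))))
    rwa [mul_assoc, mul_inv_cancel_left, ← MulAut.mul_apply, ← pow_succ] at this

omit [Finite G] [Fact p.Prime] in
theorem step {α : MulAut G} {M N : Subgroup G} [M.Normal] (hle : M ≤ N) (h : ∀ y ∈ N, y⁻¹ * α y ∈ M)
    (hp : ∀ y ∈ N, y ^ p ∈ M) {q : ℕ} {g : G} (hg : g⁻¹ * (α ^ q) g ∈ N) : g⁻¹ * (α ^ (q * p)) g ∈ M := by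
  have key : ∀ m, (((α ^ (q * m)) g : G) : G ⧸ M) = g * ((g⁻¹ * (α ^ q) g : G) : G ⧸ M) ^ m := fun m => by
    induction m with
    | zero => simp
    | succ m ih =>
      have e : (α ^ (q * (m + 1))) g = (α ^ (q * m)) g * (α ^ (q * m)) (g⁻¹ * (α ^ q) g) := by
        rw [← map_mul, mul_inv_cancel_left, mul_add, mul_one, pow_add, MulAut.mul_apply]
      rw [e, QuotientGroup.mk_mul, ih, ← QuotientGroup.eq.2 (fix_pow hle h (q * m) _ hg), pow_succ, mul_assoc]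
  rw [← QuotientGroup.eq, key, ← QuotientGroup.mk_pow, (QuotientGroup.eq_one_iff _).2 (hp _ hg), mul_one]

theorem exists_z (h : MC p G n) : ∃ z ∈ center G, z ≠ 1 := by
  obtain ⟨z, h1, h2⟩ := h.exists_lv (j := n + 1) le_rfl
  rw [h.P_bot] at h2
  exact ⟨z, h.P_center ▸ h1, h2⟩

theorem all_z (h : MC p G n) (α : MulAut G) {z : G} {c : ZMod p} (hz : Lv z (n + 1))
    (w : Wz α (P G (n + 2)) z c) : ∀ y ∈ center G, Wz α ⊥ y c := fun y hy => by
  have := Wz.sec (τ := α.toMonoidHom) w (fun _ hb => aut_mem_P α hb) ((h.sup_lv hz).ge (h.P_center ▸ hy))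
  rwa [h.P_bot] at this

end WtH

open WtH

theorem MC.wts (h : MC p G n) (α : MulAut G) : ∃ a b c : ZMod p, (∀ v, Wz α (C G 1) v a) ∧
    (∀ j ≤ n, ∀ u ∈ P G j, Wz α (P G (j + 1)) u (b * a ^ j)) ∧
    (∀ z ∈ center G, Wz α ⊥ z c) ∧ (C G n = C G 1 → c = b * a ^ (n + 1)) ∧
    (C G n ≠ C G 1 → c = b * (b * a ^ n)) := by
  obtain ⟨s, hs⟩ := h.exists_unif
  obtain ⟨t, ht⟩ := h.exists_lv (j := 0) (by omega)
  obtain ⟨a, wa⟩ := exists_wz (p := p) (τ := α) (B := C G 1) (x := s) ((h.sup_R hs.1).ge trivial)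
  obtain ⟨b, wb⟩ := exists_wz (p := p) (τ := α) (B := P G 1) (x := t) ((h.sup_lv ht).ge (aut_mem_P α ht.1))
  have key : ∀ i, i ≤ n ∨ (i = n + 1 ∧ C G n = C G 1) →
      Lv (seq t s i) i ∧ Wz α (P G (i + 1)) (seq t s i) (b * a ^ i) := by
    intro i hi
    induction i with
    | zero => exact ⟨ht, by rwa [pow_zero, mul_one]⟩
    | succ i ih =>
      obtain ⟨k1, k3⟩ := ih (.inl (by omega))
      have k4 : Lv ⁅seq t s i, s⁆ (i + 1) := h.lv_comm k1 hs.1 (hi.imp_right fun e => ⟨by omega, hs.2⟩)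
      refine ⟨k4, ?_⟩
      rw [pow_succ, ← mul_assoc]
      exact Wz.comm (τ := α.toMonoidHom) k3 wa (fun u hu => cm1 hu _) (fun u hu _ _ => cm1 hu _)
        (fun w hw => h.cm2 k1.1 hw (hi.imp (by omega) And.right)) (cm1 k4.1 _) (cm1 k4.1 _)
  have hb : ∀ j ≤ n, ∀ u ∈ P G j, Wz α (P G (j + 1)) u (b * a ^ j) := fun j hj u hu =>
    Wz.sec (τ := α.toMonoidHom) (key j (.inl hj)).2 (fun _ hb => aut_mem_P α hb)
      ((h.sup_lv (key j (.inl hj)).1).ge hu)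
  have ha : ∀ v, Wz α (C G 1) v a := fun v =>
    Wz.sec (τ := α.toMonoidHom) wa (fun _ hb => aut_mem_C α hb) ((h.sup_R hs.1).ge trivial)
  by_cases hx : C G n = C G 1
  · exact ⟨a, b, _, ha, hb, all_z h α (key _ (.inr ⟨rfl, hx⟩)).1 (key _ (.inr ⟨rfl, hx⟩)).2, fun _ => rfl,
      fun e => absurd hx e⟩
  obtain ⟨k1, k2⟩ := key n (.inl le_rfl)
  generalize seq t s n = x at k1 k2
  have k3 : ⁅t, x⁆ ∈ P G (n + 1) := by simpa using cmP ht.1 k1.1
  refine ⟨a, b, _, ha, hb, all_z h α (z := ⁅t, x⁆) ⟨k3, fun e => ht.2 ?_⟩ ?_, fun e => absurd e hx, fun _ => rfl⟩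
  · rw [h.P_bot, cm_bot] at e
    refine (h.inf_eq hx).le ⟨h.mem_Q.2 fun y hy => (commute_sup_zp (fun z hz => ?_) e ((h.sup_lv k1).ge hy)).symm, ht.1⟩
    exact mem_center_iff.1 (h.P_center ▸ hz) t
  · exact Wz.comm (τ := α.toMonoidHom) wb k2 (fun u hu => P_anti (by omega) (cmP hu k1.1))
      (fun u _ v hv => cm_swap (cm1 hv u)) (fun v hv => cm_swap (cm1 hv t)) (cm1 k3 _) (cm1 k3 _)

theorem MC.w1 (h : MC p G n) (hx : C G n ≠ C G 1) (α : MulAut G) {s x : G} (hs : Unif n s)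
    (e1 : α s * s ∈ P G 1) (hl : Lv x n) (e2 : α x * x ∈ center G) : False := by
  obtain ⟨a, b, c, ha, hb, -⟩ := h.wts α
  obtain ⟨ho, h3, h5⟩ := h.exc hx
  have c1 := isCoatom_C h.hn h.hc le_rfl h.h1
  have cm := isCoatom_C h.hn h.hc h.h1 le_rfl
  have ea : a = -1 := (ha s).uniq (wz_neg (γ_one_le_C 1 e1)) hs.1 (h.pow_mem_R s)
  have hs' : s ∈ C G 1 ⊔ C G n := by
    rw [c1.2 _ (left_lt_sup.2 fun k => hx ((cm.le_iff_eq c1.1).1 k).symm)]
    trivial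
  obtain ⟨r, hr, e, he, rfl⟩ := mem_sup_of_normal_right.1 hs'
  have k1 : α r * r ∈ C G n := by
    have k2 := (mul_mem_cancel_right he).1 (show α r * α e * r * e ∈ C G n by
      simpa only [map_mul, mul_assoc] using γ_one_le_C n e1)
    have k3 := mul_mem (inv_mem ((C_normal n).conj_mem _ (aut_mem_C α he) (α r))) k2
    rwa [show (α r * α e * (α r)⁻¹)⁻¹ * (α r * α e * r) = α r * r by group] at k3
  have eb : b * a ^ 0 = -1 := (hb 0 (by omega) r hr).uniq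
    (wz_neg ((h.inf_eq hx).le ⟨k1, mul_mem (aut_mem_C α hr) hr⟩))
    (fun k => hs.2 (mul_mem (γ_one_le_C n k) he)) (h.pow_mem (j := 0) hr)
  have ec : b * a ^ n = -1 := (hb n le_rfl x hl.1).uniq (wz_neg (h.P_center ▸ e2)) hl.2 (h.pow_mem hl.1)
  rw [pow_zero, mul_one] at eb
  rw [ea, eb, ho.neg_one_pow, neg_one_mul, neg_neg] at ec
  exact ne_neg (by omega) ec.symm

theorem MC.w2 (h : MC p G n) (hx : C G n ≠ C G 1) (α : MulAut G) {e x : G} (he : e ∉ C G 1)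
    (e1 : α e * e ∈ C G 1) (hl : Lv x (n - 1)) (e2 : α x * x ∈ P G n)
    (e3 : ∀ z ∈ center G, α z = z) : False := by
  obtain ⟨a, b, c, ha, hb, hc, -, ec⟩ := h.wts α
  obtain ⟨ho, h3, h5⟩ := h.exc hx
  obtain ⟨z, hz, z1⟩ := exists_z h
  have ea : a = -1 := (ha e).uniq (wz_neg e1) he (h.pow_mem_R e)
  have eb : b * a ^ (n - 1) = -1 := (hb (n - 1) (by omega) x hl.1).uniq
    (wz_neg (by rwa [Nat.sub_add_cancel h.h1])) hl.2 (h.pow_mem hl.1)
  have ez : c = 1 := (hc z hz).uniq (wz_one (by rw [e3 z hz, inv_mul_cancel]; exact one_mem _)) z1 (h.pow_center hz)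
  rw [ea, (Nat.Odd.sub_odd ho odd_one).neg_one_pow, mul_one] at eb
  have := ec hx
  rw [ez, ea, eb, ho.neg_one_pow, neg_one_mul, neg_one_mul, neg_neg] at this
  exact ne_neg (by omega) this.symm

theorem MC.w3 (h : MC p G n) (α : MulAut G) {s x : G} {j : ℕ} (hs : s ∉ C G 1)
    (e1 : s⁻¹ * α s ∈ C G 1) (hl : Lv x j) (hj : j ≤ n) (e2 : x⁻¹ * α x ∈ P G (j + 1)) :
    ∃ k : ℕ, α ^ p ^ k = 1 := by
  obtain ⟨a, b, c, ha, hb, hc, c1, c2⟩ := h.wts α
  obtain rfl : a = 1 := (ha s).uniq (wz_one e1) hs (h.pow_mem_R s)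
  obtain rfl : b = 1 := by simpa using (hb j hj x hl.1).uniq (wz_one e2) hl.2 (h.pow_mem hl.1)
  obtain rfl : c = 1 := by
    by_cases hx : C G n = C G 1
    · simpa using c1 hx
    · simpa using c2 hx
  have key : ∀ i ≤ n + 2, ∀ g, g⁻¹ * (α ^ p ^ i) g ∈ P G i := fun i hi g => by
    induction i with
    | zero => rw [pow_zero, pow_one]; exact (ha g).one (h.pow_mem_R g)
    | succ i ih =>
      rw [pow_succ]
      refine step (P_anti i.le_succ) (fun y hy => ?_) (fun y hy => h.pow_mem hy) (ih (by omega))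
      rcases le_or_gt i n with k | k
      · have := hb i k y hy
        rw [one_pow, one_mul] at this
        exact this.one (h.pow_mem hy)
      · obtain rfl : i = n + 1 := by omega
        rw [h.P_center] at hy
        rw [h.P_bot]
        exact (hc y hy).one (h.pow_center hy)
  refine ⟨n + 2, MulEquiv.ext fun g => ?_⟩
  have := key _ le_rfl g
  rw [h.P_bot, mem_bot, inv_mul_eq_one] at this
  exact this.symm

end Cfsg.Agent.MxD
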