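import Mathlib
import Cfsg.Agent.MxD.Defs
import Cfsg.Agent.MxD.LvA
import Cfsg.Agent.MxD.Br
import Cfsg.Agent.MxD.Wt
import Cfsg.Agent.Fus.EssSL2b

/-! The central involution of an extraspecial pearl extends to the whole group. -/

set_option autoImplicit false

namespace Cfsg.Agent.MxD

open Subgroup Cfsg.Agent.GT Cfsg.Agent.FG.MxC Cfsg.Agent.Fus Cfsg.Agent.Fus.R3 Cfsg.Agent.MxE
open Cfsg.FusionSystem hiding inv_mem
open scoped commutatorElement

universe u

variable {G : Type u} [Group G] [Finite G] {p n : ℕ} [Fact p.Prime]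
  {F : FusionSystem (⊤ : Subgroup G)} {E : Subgroup G}

theorem MC.extend_top (h : MC p G n) (hF : F.IsSaturated p) {X : Subgroup G} {s : G} (hs : s ∈ X)
    (hu : Unif n s) (hX : p ^ 4 ≤ Nat.card X) {f : G → G} (hf : F.Mor X f) :
    ∃ g, F.Iso ⊤ ⊤ g ∧ ∀ x ∈ X, g x = f x := by
  have hp : p.Prime := Fact.out
  refine hF.alperin_induction h.pT (M := fun f => ∃ g, F.Iso ⊤ ⊤ g ∧ ∀ x ∈ X, g x = f x)
    ⟨_, F.iso_id le_rfl, fun _ _ => rfl⟩ (fun ⟨g, hg, e⟩ e' => ⟨g, hg, fun x hx => (e x hx).trans (e' x hx)⟩)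
    ?_ hf
  rintro f R g hf ⟨k, hk, e⟩ (rfl | hR) hg hm
  · exact ⟨_, hg.comp hk, fun x hx => by rw [e x hx]⟩
  · obtain ⟨α, hα⟩ := exists_aut_top hk
    have h1 := h.unif_le hF hR (hm s hs) (by rw [← e s hs, ← hα]; exact hu.aut α)
    have h2 : Nat.card X ≤ Nat.card R := hf.card_img le_rfl ▸ card_le_of_le (img_le_iff.2 hm)
    have := (Nat.pow_le_pow_iff_right hp.one_lt).1 (hX.trans (h2.trans h1))
    omega

theorem Inv.eq_sup (h : MC p G n) (hF : F.IsSaturated p) (hE : F.IsEssential p E)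
    (hc : Nat.card E = p ^ 3) {s : G} (hs : s ∈ E) (hu : Unif n s) : E = P G n ⊔ zpowers s := by
  have hp : p.Prime := Fact.out
  refine ((h.pearl' hF hE hs hu).resolve_left fun e => ?_).2
  have := Nat.pow_right_injective hp.two_le (hc.symm.trans e)
  omega

theorem Inv.comm_le (h : MC p G n) {s : G} :
    ⁅P G n ⊔ zpowers s, P G n ⊔ zpowers s⁆ ≤ center G := by
  have key : ∀ a ∈ P G n, ∀ g : G, Commute (a : G ⧸ center G) (g : G ⧸ center G) := fun a ha g => by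
    rw [← commutatorElement_eq_one_iff_commute, ← QuotientGroup.mk'_apply, ← QuotientGroup.mk'_apply,
      ← map_commutatorElement, QuotientGroup.mk'_apply, QuotientGroup.eq_one_iff, ← h.P_center]
    exact cm1 ha g
  refine commutator_le.2 fun x hx y hy => ?_
  obtain ⟨a, ha, _, ⟨i, rfl⟩, rfl⟩ := mem_sup_of_normal_left.1 hx
  obtain ⟨b, hb, _, ⟨j, rfl⟩, rfl⟩ := mem_sup_of_normal_left.1 hy
  rw [← QuotientGroup.eq_one_iff, ← QuotientGroup.mk'_apply, map_commutatorElement,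
    commutatorElement_eq_one_iff_commute, map_mul (QuotientGroup.mk' _) a]
  refine (key a ha _).mul_left ?_
  rw [← QuotientGroup.mk'_apply, map_mul]
  refine (key b hb _).symm.mul_right ?_
  exact (Commute.zpow_zpow_self s i j).map (QuotientGroup.mk' (center G))

theorem MC.exists_inv (h : MC p G n) (hF : F.IsSaturated p) (hE : F.IsEssential p E)
    (hc : Nat.card E = p ^ 3) {s : G} (hs : s ∈ E) (hu : Unif n s) :
    ∃ f, F.Iso ⊤ ⊤ f ∧ ∀ x ∈ E, f x * x ∈ center G := by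
  have hp : p.Prime := Fact.out
  have hZ : ⁅E, E⁆ ≤ center G := by
    rw [Inv.eq_sup h hF hE hc hs hu]
    exact Inv.comm_le h
  have hW : InvA (F.autGroup E) ⁅E, E⁆ := (invA_top _).commutator (invA_top _)
  have hne : ⁅E, E⁆ ≠ ⊥ := fun e => by
    have h1 : E ≤ centralizer ({s} : Set G) :=
      (commutator_eq_bot_iff_le_centralizer.1 e).trans (centralizer_le (Set.singleton_subset_iff.2 hs))
    have h2 := card_le_of_le h1
    rw [hc, h.card_cent hu, Nat.pow_le_pow_iff_right hp.one_lt] at h2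
    omega
  have hi : ⁅E, E⁆.relIndex E ∣ p ^ 2 := by
    obtain ⟨k, hk⟩ := ((h.pG.to_subgroup ⁅E, E⁆).card_eq_or_dvd).resolve_left fun e => hne (card_eq_one.1 e)
    have h1 := card_inf_mul_relIndex ⁅E, E⁆ E
    rw [inf_eq_left.2 hW.1, hk, hc, pow_succ' p 2, mul_assoc] at h1
    exact Dvd.intro_left _ (Nat.eq_of_mul_eq_mul_left hp.pos h1)
  have hlt : E < ⊤ := lt_top_iff_ne_top.2 fun e => by
    have h1 := h.h1
    have h2 : p ^ 3 = p ^ (n + 3) := by rw [← hc, e, card_top, h.hn]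
    have := Nat.pow_right_injective hp.two_le h2
    omega
  have : ⁅E, E⁆.Normal := ⟨fun x hx g => by rwa [mem_center_iff.1 (hZ hx) g, mul_inv_cancel_right]⟩
  obtain ⟨y, hy, hyE⟩ := SetLike.exists_of_lt (lt_normalizerIn h.pT hlt)
  obtain ⟨⟨c, hs2⟩, -, -⟩ := hE.exists_sl2Sec_frattini hF h.pT hW le_sup_left
    le_normalizer_of_normal hi hy hyE
  obtain ⟨γ, -, hγ, -, hact, β, hβ, -, eβ, -⟩ := hs2.exists_torus_ext (hE.receptive hF h.pT) hE.isCentric
    le_rfl hy (K := ⊤) (fun _ _ => mem_top _) (l := -1) (neg_ne_zero.2 one_ne_zero)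
  have hX : p ^ 4 ≤ Nat.card (E ⊔ zpowers y : Subgroup G) := by
    obtain ⟨k, hk⟩ := IsPGroup.iff_card.1 (h.pG.to_subgroup (E ⊔ zpowers y))
    rw [hk]
    refine Nat.pow_le_pow_right hp.pos (not_lt.1 fun h4 => hyE ?_)
    rw [eq_of_le_of_card_ge (le_sup_left : E ≤ E ⊔ zpowers y)
      (by rw [hk, hc]; exact Nat.pow_le_pow_right hp.pos (by omega))]
    exact mem_sup_right (mem_zpowers y)
  obtain ⟨f, hf, e⟩ := h.extend_top hF (mem_sup_left hs) hu hX (mor_totA le_top hβ)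
  refine ⟨f, hf, fun x hx => hZ ?_⟩
  have hm : totA γ x ∈ E := totA_mem γ hx
  rw [e x (mem_sup_left hx), eβ x hx, ← hs2.ker _ (mul_mem hm hx), hs2.add _ hm _ hx, hact x hx]
  ext i
  fin_cases i <;> simp [dotProduct]

theorem MC.no_extra (h : MC p G n) (hx : C G n ≠ C G 1) (hF : F.IsSaturated p)
    (hE : F.IsEssential p E) (hc : Nat.card E = p ^ 3) {s : G} (hs : s ∈ E) (hu : Unif n s) :
    False := by
  obtain ⟨f, hf, e⟩ := h.exists_inv hF hE hc hs hu
  obtain ⟨α, hα⟩ := exists_aut_top hf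
  obtain ⟨x, hl⟩ := h.exists_lv (Nat.le_succ n)
  have hxE : x ∈ E := Inv.eq_sup h hF hE hc hs hu ▸ mem_sup_left hl.1
  refine h.w1 hx α hu (P_anti (Nat.le_add_left 1 n) ?_) hl (hα x ▸ e x hxE)
  rw [h.P_center, hα]
  exact e s hs

end Cfsg.Agent.MxD
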