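import Mathlib
import Cfsg.Agent.MxD.Defs
import Cfsg.Agent.Fus.KNormalizer
import Cfsg.Agent.Fus.FactorSat

/-! Essential subgroups in the centraliser of the centre and its quotient. -/

set_option autoImplicit false

namespace Cfsg.Agent.MxD

open Subgroup Cfsg.Agent.GT Cfsg.Agent.FG.MxC Cfsg.Agent.Fus Cfsg.Agent.Fus.R3 Cfsg.Agent.MxE
open Cfsg.FusionSystem hiding inv_mem
open scoped commutatorElement

universe u

variable {G : Type u} [Group G] [Finite G] {p n : ℕ} [Fact p.Prime]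
  {F : FusionSystem (⊤ : Subgroup G)} {E : Subgroup G}

namespace QE

theorem z_le (hE : F.IsEssential p E) : center G ≤ E := fun _ hz =>
  hE.mem_of_comm (mem_top _) fun x _ => mem_center_iff.1 hz x

end QE

theorem ess_cent (hS : IsPGroup p G) (hF : F.IsSaturated p) (hE : F.IsEssential p E)
    {α : MulAut E} (hα : α ∈ F.autGroup E) (hz : ∀ z ∈ center G, totA α z = z)
    (hM : α ∉ F.extAut E) : ∃ D : FusionSystem (⊤ : Subgroup G), D.IsSaturated p ∧
      D.IsEssential p E ∧ D.IsCentral (center G) := by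
  have hT : IsPGroup p (⊤ : Subgroup G) := hS.to_subgroup ⊤
  have hc : (⊤ : Subgroup G) ≤ centralizer ((center G : Subgroup G) : Set G) := fun g _ z hz' =>
    (mem_center_iff.1 hz' g).symm
  obtain ⟨D, hD⟩ := F.exists_isKNormalizer (T := ⊤) (le_top : center G ≤ ⊤) ⊥ (by
    rw [preAut_bot]
    exact (eq_top_iff.2 fun g hg => ⟨hg, hc hg⟩).symm)
  have hsat : D.IsSaturated p :=
    hD.isSaturated hF hT (hF.kFull_bot hT (F.isFullyCentralized_of_le_centralizer le_top hc))
  have hsub := hD.isSubsystemOf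
  refine ⟨D, hsat, ?_, isCentral_iff.2 ⟨le_top, fun P f hf => ?_⟩⟩
  · have hn : D.IsFullyNormalized E :=
      ⟨le_top, fun Q hQ => hE.isFullyNormalized.2 Q (hsub.isConj hQ)⟩
    refine (hsat.isEssential_iff_extAut hT (hF.lt_of_isEssential hT hE) hn).2 fun e => hM ?_
    have h1 : α ∈ D.autGroup E := (mem_autGroup_iff le_top).2 <|
      hD.mor_of le_top (mor_totA le_top hα) le_rfl (QE.z_le hE) (fun _ _ => rfl) (one_mem _)
        fun x hx => by rw [hz x hx, totA_one hx]
    rw [← e] at h1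
    refine closure_mono ?_ h1
    rintro β ⟨Q, g, hQ, hg, e'⟩
    exact ⟨Q, g, hQ, hsub.mor hg, e'⟩
  · obtain ⟨g, hg, e1, β, hβ, e2⟩ := hD.extend hf
    rw [mem_bot.1 hβ] at e2
    exact ⟨g, hD.mor_of le_top hg le_rfl le_sup_right (fun _ _ => rfl) (one_mem _) e2, e1,
      fun x hx => by rw [e2 x hx, totA_one hx]⟩

theorem ess_quot (hS : IsPGroup p G) (hF : F.IsSaturated p) (hZ : F.IsCentral (center G))
    (hE : F.IsEssential p E) : ∃ D : FusionSystem (⊤ : Subgroup (G ⧸ center G)),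
      F.IsQuot (QuotientGroup.mk' (center G)) D ∧ D.IsSaturated p ∧
      D.IsEssential p (E.map (QuotientGroup.mk' (center G))) := by
  have hT : IsPGroup p (⊤ : Subgroup G) := hS.to_subgroup ⊤
  set θ := QuotientGroup.mk' (center G) with hθd
  have hθ : MulOn (⊤ : Subgroup G) θ := fun x _ y _ => map_mul θ x y
  have himg : img θ (⊤ : Subgroup G) = ⊤ := by
    rw [img_eq_map]
    exact map_top_of_surjective _ (QuotientGroup.mk'_surjective _)
  have hker : pre θ (⊤ : Subgroup G) ⊥ = center G := by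
    ext x
    rw [hθ.mem_pre_bot]
    simp [hθd]
  have hKE : pre θ (⊤ : Subgroup G) ⊥ ≤ E := hker.le.trans (QE.z_le hE)
  obtain ⟨D, hD⟩ := hF.exists_isQuot hT hθ himg (by rw [hker]; exact hZ.isNormal.stronglyClosed)
  have hsat := hD.isSaturated hF hT
  refine ⟨D, hD, hsat, ?_⟩
  rw [← img_eq_map]
  have hlt : img θ E < ⊤ := lt_top_iff_ne_top.2 fun e => (hF.lt_of_isEssential hT hE).ne <|
    eq_top_iff.2 fun x hx => hθ.mem_of_apply_mem_img le_top hKE hx (e ▸ mem_top _)
  refine (hsat.isEssential_iff_extAut (hD.toIsFac.isPGroup hT) hlt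
    (hD.isFullyNormalized_img hKE hE.isFullyNormalized)).2 fun e => ?_
  have hd := hE.essData hF hT
  obtain ⟨α, hα, hM⟩ := hd.exists_not_mem
  obtain ⟨ρ, hρ, hr⟩ := hD.exists_autHom_surj (Q := E) le_top hKE
  have key : ∀ γ ∈ D.extAut (img θ E), ∃ β : F.autGroup E, (β : MulAut E) ∈ F.extAut E ∧ ρ β = γ := by
    intro γ hγ
    induction hγ using closure_induction with
    | mem γ hγ =>
      obtain ⟨Q, g, hQ, hg, e'⟩ := hγ
      obtain ⟨f, hf, ef⟩ := hD.toIsFac.lift hg
      have hle : E ≤ pre θ ⊤ Q := (le_pre_img le_top).trans (pre_mono hQ.le)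
      have hlt' : E < pre θ ⊤ Q := lt_of_le_of_ne hle fun e2 => hQ.ne <| by
        rw [e2, hD.toIsFac.img_pre le_top]
      have hm : ∀ x ∈ E, f x ∈ E := fun x hx => by
        refine hθ.mem_of_apply_mem_img le_top hKE (mem_top _) ?_
        rw [← ef x (hle hx), e' _ (mem_img_of_mem hx)]
        exact totA_mem _ (mem_img_of_mem hx)
      obtain ⟨β, hβ, eβ⟩ := ((hf.mono hle).iso_self hm).exists_aut
      refine ⟨⟨β, hβ⟩, mem_extAut hlt' hf fun x hx => (eβ x hx).symm, mulAut_ext_totA fun y hy => ?_⟩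
      obtain ⟨x, hx, rfl⟩ := (hθ.mem_img_of_le le_top).1 hy
      rw [hρ _ x hx, eβ x hx, ← ef x (hle hx), e' _ hy]
    | one => exact ⟨1, one_mem _, map_one ρ⟩
    | mul a b _ _ iha ihb =>
      obtain ⟨β, h1, rfl⟩ := iha
      obtain ⟨β', h2, rfl⟩ := ihb
      exact ⟨β * β', mul_mem h1 h2, map_mul ρ _ _⟩
    | inv a _ iha =>
      obtain ⟨β, h1, rfl⟩ := iha
      exact ⟨β⁻¹, inv_mem h1, map_inv ρ _⟩
  obtain ⟨β, hβ, eβ⟩ := key (ρ ⟨α, hα⟩) (by rw [e, ← hr]; exact ⟨_, rfl⟩)
  have hκ : ρ (β⁻¹ * ⟨α, hα⟩) = 1 := by rw [map_mul, map_inv, eβ, inv_mul_cancel]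
  set κ := β⁻¹ * ⟨α, hα⟩ with hκd
  let Ch : ℕ → Subgroup G := fun i => if i = 0 then E else if i = 1 then center G else ⊥
  have fixZ : ∀ l ∈ F.autGroup E, ∀ z ∈ center G, totA l z = z := fun l hl z hz =>
    hZ.fix (mor_totA le_top hl) (QE.z_le hE hz) hz
  have h1 : (κ : MulAut E) ∈ chainStab E Ch 2 := by
    refine mem_chainStab_of le_rfl (fun i hi => ?_) fun i hi => ?_
    · interval_cases i
      · exact QE.z_le hE
      · exact bot_le
    · interval_cases i
      · intro x hx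
        have := hρ κ x hx
        rw [hκ, totA_one (mem_img_of_mem hx)] at this
        exact QuotientGroup.eq.1 this
      · intro x hx
        rw [fixZ _ κ.2 x hx, inv_mul_cancel]
        exact one_mem _
  have hp : IsPGroup p (chainStab E Ch 2) := isPGroup_chainStab (hS.to_subgroup E) rfl bot_le
  have hst : ∀ l ∈ F.autGroup E, ∀ i ≤ 2, l ∈ stabA E (Ch i) := fun l hl i hi => by
    interval_cases i
    · exact mem_stabA_of_maps le_rfl fun x hx => totA_mem _ hx
    · exact mem_stabA_of_maps (QE.z_le hE) fun x hx => by rw [fixZ l hl x hx]; exact hx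
    · refine mem_stabA_of_maps bot_le fun x hx => ?_
      rw [mem_bot.1 hx, (mulOn_totA l).map_one]
      exact one_mem _
  have hN : chainStab E Ch 2 ⊓ F.autGroup E ≤ Inn E := by
    refine (hF.liftSPE_of_isEssential hT hE).le_of_normal (le_normalizer_inn _) inf_le_right
      (fun l hl => mem_normalizer_iff.2 fun a => ⟨fun ha => ?_, fun ha => ?_⟩) (hp.to_le inf_le_left)
    · exact ⟨conj_mem_chainStab ha.1 (hst l hl),
        (F.autGroup E).mul_mem ((F.autGroup E).mul_mem hl ha.2) (inv_mem hl)⟩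
    · have a1 := conj_mem_chainStab ha.1 (hst l⁻¹ (inv_mem hl))
      have a2 := (F.autGroup E).mul_mem ((F.autGroup E).mul_mem (inv_mem hl) ha.2) hl
      rw [show l⁻¹ * (l * a * l⁻¹) * l⁻¹⁻¹ = a by group] at a1
      rw [show l⁻¹ * (l * a * l⁻¹) * l = a by group] at a2
      exact ⟨a1, a2⟩
  have h2 : (κ : MulAut E) ∈ F.extAut E :=
    hd.autS_le (inn_le_autInducedBy le_top (hN ⟨h1, κ.2⟩))
  have h3 := mul_mem hβ h2
  rw [hκd, Subgroup.coe_mul, Subgroup.coe_inv, mul_inv_cancel_left] at h3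
  exact hM h3

end Cfsg.Agent.MxD
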