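import Mathlib
import Cfsg.Agent.MxD.Defs
import Cfsg.Agent.MxD.LvA
import Cfsg.Agent.MxD.LvB
import Cfsg.Agent.MxD.Exc
import Cfsg.Agent.MxD.Wt
import Cfsg.Agent.MxD.Br
import Cfsg.Agent.MxD.QE
import Cfsg.Agent.MxD.Inv
import Cfsg.Agent.Fus.FactorSat
import Cfsg.Agent.Fus.R3Small
import Cfsg.Agent.GT.PiGroups

/-! Case A. -/

set_option autoImplicit false

namespace Cfsg.Agent.MxD

open Subgroup Cfsg.Agent.GT Cfsg.Agent.FG.MxC Cfsg.Agent.Fus Cfsg.Agent.Fus.R3 Cfsg.Agent.MxE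
open Cfsg.FusionSystem hiding inv_mem
open scoped commutatorElement

universe u

variable {G : Type u} [Group G] [Finite G] {p n : ℕ} [Fact p.Prime]
  {F : FusionSystem (⊤ : Subgroup G)} {E : Subgroup G}

namespace CaseA

omit [Finite G] in
theorem mem_of_mk (hZ : center G ≤ E) {x : G}
    (hx : (x : G ⧸ center G) ∈ E.map (QuotientGroup.mk' (center G))) : x ∈ E := by
  have : x ∈ (E.map (QuotientGroup.mk' (center G))).comap (QuotientGroup.mk' (center G)) := hx
  rwa [comap_map_eq, QuotientGroup.ker_mk', sup_eq_left.2 hZ] at this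

omit [Finite G] in
theorem card_mk (hZ : center G ≤ E) :
    Nat.card E = Nat.card (E.map (QuotientGroup.mk' (center G))) * Nat.card (center G) := by
  have := card_map_mk'_mul_card_inf E (center G)
  rw [inf_eq_right.2 hZ] at this
  exact this.symm

end CaseA

theorem MC.caseA (h : MC p G (n + 1)) (h1 : 1 ≤ n) (hp : 5 ≤ p) (hF : F.IsSaturated p)
    (IH : ∀ D : FusionSystem (⊤ : Subgroup (G ⧸ center G)), D.IsSaturated p →
      ∀ E', ¬ Bad D p n E') (hE : Bad F p (n + 1) E) {α : MulAut E} (hα : α ∈ F.autGroup E)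
    (hz : ∀ z ∈ center G, totA α z = z) : α ∈ F.extAut E := by
  by_contra hM
  obtain ⟨D, hD, hDE, hDZ⟩ := ess_cent h.pG hF hE.1 hα hz hM
  obtain ⟨D', hq, hD', hE'⟩ := ess_quot h.pG hD hDZ hDE
  obtain ⟨h', hQ', hP⟩ := h.quot h1
  have hZ : center G ≤ E := center_le_ess hE.1
  have hR : ∀ x : G, (x : G ⧸ center G) ∈ C (G ⧸ center G) 1 ↔ x ∈ C G 1 := hP 0 (by omega)
  by_cases hlt : E < C G 1
  · refine IH D' hD' _ ⟨hE', Or.inl (lt_of_le_of_ne ?_ fun e => ?_)⟩
    · rintro _ ⟨x, hx, rfl⟩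
      exact (hR x).2 (hlt.le hx)
    · refine hlt.not_ge fun x hx => CaseA.mem_of_mk hZ ?_
      rw [e]
      exact (hR x).2 hx
  have hQ : E < C G (n + 1) := hE.2.resolve_left hlt
  obtain ⟨e, he, heR⟩ : ∃ e ∈ E, e ∉ C G 1 := by
    by_contra hc
    push Not at hc
    have e1 : E = C G 1 := by_contra fun e => hlt (lt_of_le_of_ne hc e)
    have := card_lt_of_lt_le (S := ⊤) hQ le_top
    rw [e1, h.cardR, h.cardQ] at this
    exact lt_irrefl _ this
  have hx : C G (n + 1) ≠ C G 1 := fun e' => heR (e' ▸ hQ.le he)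
  have hu : Unif n (e : G ⧸ center G) :=
    ⟨fun c => heR ((hR e).1 c), fun c => heR ((hR e).1 (hQ' ▸ c))⟩
  have hem : (e : G ⧸ center G) ∈ E.map (QuotientGroup.mk' (center G)) := ⟨e, he, rfl⟩
  have hcZ : Nat.card (center G) = p := by
    rw [← h.P_center, h.cardP (by omega), show n + 1 + 2 - (n + 1 + 1) = 1 by omega, pow_one]
  rcases h'.pearl' hD' hE' hem hu with h2 | ⟨h3, hEq⟩
  · have hc : Nat.card E = p ^ 3 := by rw [CaseA.card_mk hZ, h2, hcZ, ← pow_succ]
    obtain ⟨u, hu1⟩ := h.exists_lv (j := n + 1) (by omega)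
    have hcm : ∀ x ∈ E, Commute u x := fun x hx => h.mem_Q.1 (hQ.le hx) u hu1.1
    have huE : u ∈ E := hE.1.mem_of_comm trivial fun x hx => (hcm x hx).symm.eq
    have := h.four_le hp (by omega) hF hE.1 hc.ge huE (by rw [← h.P_center]; exact hu1.2) hcm
    rw [hc] at this
    exact absurd ((Nat.pow_le_pow_iff_right (Fact.out : p.Prime).one_lt).1 this) (by omega)
  · obtain ⟨f', hf', hinv⟩ := h'.exists_inv hD' hE' h3 hem hu
    obtain ⟨f, hf, hc⟩ := hq.lift_iso hf'
    have hpre : pre (QuotientGroup.mk' (center G)) (⊤ : Subgroup G) ⊤ = ⊤ :=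
      eq_top_iff.2 fun x _ => mem_pre_of trivial trivial
    rw [hpre] at hf hc
    obtain ⟨β, hβ⟩ := exists_aut_top hf
    have key : ∀ x : G, (x : G ⧸ center G) ∈ E.map (QuotientGroup.mk' (center G)) →
        β x * x ∈ P G (n + 1) := fun x hxE => by
      refine (hP (n + 1) (by omega) _).1 ?_
      have := hinv _ hxE
      rw [← h'.P_center] at this
      have e2 : f' (x : G ⧸ center G) = ((f x : G) : G ⧸ center G) := hc x trivial
      rwa [e2, ← hβ, ← QuotientGroup.mk_mul] at this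
    obtain ⟨x, hxl⟩ := h.exists_lv (j := n) (by omega)
    refine h.w2 hx β heR (P_anti (Nat.zero_le _) (key e hem)) (x := x) hxl (key x ?_)
      fun z hzZ => ?_
    · rw [hEq]
      exact mem_sup_left ((hP n (by omega) x).2 hxl.1)
    · rw [hβ]
      exact hDZ.fix hf.mor trivial hzZ

end Cfsg.Agent.MxD
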