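import Mathlib
import Cfsg.Agent.MxD.Defs

/-! A fixed-point-free element of order p has a free summand. -/

set_option autoImplicit false

namespace Cfsg.Agent.MxD

open Subgroup Cfsg.Agent.GT Cfsg.Agent.FG.MxC Cfsg.Agent.Fus Cfsg.Agent.Fus.R3 Cfsg.Agent.MxE
open Cfsg.FusionSystem hiding inv_mem
open scoped commutatorElement

universe u

namespace Frob

section Alg
variable {p : ℕ} [Fact p.Prime] {A : Type*} [Ring A] [Algebra (ZMod p) A]

theorem geom (x : A) : (x - 1) ^ (p - 1) = ∑ i ∈ Finset.range p, x ^ i := by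
  have hp : p.Prime := Fact.out
  have h : ((Polynomial.X - 1 : Polynomial (ZMod p))) ^ (p - 1) = ∑ i ∈ Finset.range p, Polynomial.X ^ i := by
    have h0 : (Polynomial.X - 1 : Polynomial (ZMod p)) ≠ 0 := by
      simpa using Polynomial.X_sub_C_ne_zero (1 : ZMod p)
    refine mul_right_cancel₀ h0 ?_
    rw [geom_sum_mul, ← pow_succ, Nat.sub_add_cancel hp.one_le, sub_pow_char, one_pow]
  simpa [map_sum] using congrArg (Polynomial.aeval x) h

theorem frob_pow (x : A) (n : ℕ) : (x - 1) ^ p ^ n = x ^ p ^ n - 1 := by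
  have h : ((Polynomial.X - 1 : Polynomial (ZMod p))) ^ p ^ n = Polynomial.X ^ p ^ n - 1 := by
    rw [sub_pow_char_pow, one_pow]
  simpa using congrArg (Polynomial.aeval x) h

end Alg

theorem pow_nil {A : Type*} [Ring A] {x : A} {e : ℕ} (h : (x - 1) ^ e = 0) (i : ℕ) : (x ^ i - 1) ^ e = 0 := by
  have hc : Commute (∑ k ∈ Finset.range i, x ^ k) (x - 1) :=
    Commute.sum_left _ _ _ fun k _ => ((Commute.refl x).pow_left k).sub_right (Commute.one_right _)
  rw [← geom_sum_mul, hc.mul_pow, h, mul_zero]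

theorem conj_pow' {A : Type*} [Monoid A] {a b : A} (hab : a * b = 1) (hba : b * a = 1) (x : A) (n : ℕ) :
    (a * x * b) ^ n = a * x ^ n * b := by
  induction n with
  | zero => simp [hab]
  | succ n ih =>
    rw [pow_succ, ih, pow_succ]
    calc a * x ^ n * b * (a * x * b) = a * x ^ n * (b * a) * x * b := by simp only [mul_assoc]
      _ = _ := by rw [hba]; simp only [mul_assoc, one_mul]

theorem exists_pow {M : Type*} [Monoid M] {p : ℕ} (hp : p.Prime) {x : M} {n i : ℕ} (h : x ^ p ^ n = 1)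
    (hi : ¬ p ∣ i) : ∃ j, (x ^ i) ^ j = x :=
  exists_pow_eq_self_of_coprime (Nat.Coprime.coprime_dvd_right (orderOf_dvd_of_pow_eq_one h)
    (Nat.Coprime.pow_right n ((Nat.Prime.coprime_iff_not_dvd hp).2 hi).symm))

end Frob

variable {p : ℕ} [Fact p.Prime] {H : Type*} [Group H] [Finite H] {V : Type*} [AddCommGroup V]
  [Module (ZMod p) V] [Finite V]

namespace Frob

omit [Finite V] in
theorem sum_conj (ρ : Representation (ZMod p) H V) {K : Subgroup H} [Fintype K] {s : H}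
    (hs : s ∈ normalizer (K : Set H)) (hfix : ∀ k ∈ K, Commute k s → k = 1) :
    ∑ k : K, ρ k * ρ s * ρ (k : H)⁻¹ = (∑ k : K, ρ k) * ρ s := by
  let f : K → K := fun k => ⟨k * (s * (k : H)⁻¹ * s⁻¹),
    mul_mem k.2 ((mem_normalizer_iff.1 hs _).1 (inv_mem k.2))⟩
  have hf : Function.Injective f := fun a b h => by
    have h1 : (a : H) * (s * (a : H)⁻¹ * s⁻¹) = b * (s * (b : H)⁻¹ * s⁻¹) := congrArg Subtype.val h
    have h2 : Commute ((b : H)⁻¹ * a) s := by
      show (b : H)⁻¹ * a * s = s * ((b : H)⁻¹ * a)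
      calc (b : H)⁻¹ * a * s = (b : H)⁻¹ * (a * (s * (a : H)⁻¹ * s⁻¹)) * (s * a) := by group
        _ = _ := by rw [h1]; group
    exact Subtype.ext (inv_mul_eq_one.1 (hfix _ (mul_mem (inv_mem b.2) a.2) h2)).symm
  rw [Finset.sum_mul]
  refine Fintype.sum_bijective f (Finite.injective_iff_bijective.1 hf) _ _ fun k => ?_
  simp only [f, ← map_mul]
  congr 1
  group

end Frob

theorem frob_fix (ρ : Representation (ZMod p) H V) {K : Subgroup H} {s : H}
    (hs : s ∈ normalizer (K : Set H)) (hK : ¬ p ∣ Nat.card K) (hsp : s ^ p = 1)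
    (hfix : ∀ k ∈ K, Commute k s → k = 1) (hN : (ρ s - 1) ^ (p - 1) = 0) : ∀ k ∈ K, ρ k = 1 := by
  classical
  have hp : p.Prime := Fact.out
  have : Fintype K := Fintype.ofFinite K
  set N : Module.End (ZMod p) V := ∑ k : K, ρ k with hNK
  rw [Frob.geom (p := p)] at hN
  have h1 : ∀ i ∈ Finset.range (p - 1), ∑ k : K, ρ k * ρ s ^ (i + 1) * ρ (k : H)⁻¹ = N * ρ s ^ (i + 1) := by
    intro i hi
    have hi' : ¬ p ∣ i + 1 := fun h => by
      have := Nat.le_of_dvd i.succ_pos h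
      have := Finset.mem_range.1 hi
      omega
    obtain ⟨j, hj⟩ := Frob.exists_pow hp (n := 1) (by rw [pow_one, hsp]) hi'
    rw [← map_pow]
    exact Frob.sum_conj ρ (pow_mem hs _) fun k hk hc => hfix k hk (hj ▸ hc.pow_right j)
  have h2 : ∑ i ∈ Finset.range p, ∑ k : K, ρ k * ρ s ^ i * ρ (k : H)⁻¹ = 0 := by
    rw [Finset.sum_comm]
    refine Finset.sum_eq_zero fun k _ => ?_
    rw [← Finset.sum_mul, ← Finset.mul_sum, hN, mul_zero, zero_mul]
  have e : Finset.range p = Finset.range (p - 1 + 1) := by rw [Nat.sub_add_cancel hp.one_le]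
  have h3 : ∑ i ∈ Finset.range (p - 1), ρ s ^ (i + 1) = -1 := by
    rw [e, Finset.sum_range_succ', pow_zero] at hN
    exact eq_neg_of_add_eq_zero_left hN
  have h4 : ∑ k : K, ρ k * ρ s ^ 0 * ρ (k : H)⁻¹ = (Nat.card K : ZMod p) • (1 : Module.End (ZMod p) V) := by
    simp only [pow_zero, mul_one, ← map_mul, mul_inv_cancel, map_one, Finset.sum_const, Finset.card_univ,
      Nat.card_eq_fintype_card, Nat.cast_smul_eq_nsmul]
  rw [e, Finset.sum_range_succ', Finset.sum_congr rfl h1, ← Finset.mul_sum, h3, h4, mul_neg, mul_one,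
    neg_add_eq_zero] at h2
  intro k hk
  have h5 : ρ k * N = N := by
    rw [hNK, Finset.mul_sum]
    exact Fintype.sum_equiv (Equiv.mulLeft (⟨k, hk⟩ : K)) _ _ fun a => by simp
  have h6 : (Nat.card K : ZMod p) ≠ 0 := fun h => hK ((ZMod.natCast_eq_zero_iff _ _).1 h)
  rw [h2, mul_smul_comm, mul_one] at h5
  exact smul_right_injective _ h6 h5

theorem comm_of_abelian (ρ : Representation (ZMod p) H V) (hρ : Function.Injective ρ)
    {K : Subgroup H} {s : H} (hs : s ∈ normalizer (K : Set H)) (hK : ¬ p ∣ Nat.card K)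
    (hsp : s ^ p = 1) (hab : ∀ k ∈ K, ∀ k' ∈ K, Commute k k') (hN : (ρ s - 1) ^ (p - 1) = 0) :
    ∀ k ∈ K, Commute k s := by
  have hp : p.Prime := Fact.out
  have cj : ∀ k ∈ K, s * k * s⁻¹ ∈ K := fun k hk => (mem_normalizer_iff.1 hs _).1 hk
  let φ : K →* H := MonoidHom.mk' (fun k => (k : H)⁻¹ * (s * k * s⁻¹)) fun a b => by
    have h1 := (hab _ (inv_mem b.2) _ (mul_mem (inv_mem a.2) (cj _ a.2))).eq
    simp only [coe_mul]
    calc ((a : H) * b)⁻¹ * (s * (a * b) * s⁻¹)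
        = (b : H)⁻¹ * ((a : H)⁻¹ * (s * a * s⁻¹)) * (s * b * s⁻¹) := by group
      _ = _ := by rw [h1]; group
  have hle : φ.range ≤ K := by
    rintro _ ⟨k, rfl⟩
    exact mul_mem (inv_mem k.2) (cj _ k.2)
  have hn : s ∈ normalizer (φ.range : Set H) := by
    refine mem_normalizer_fintype ?_
    rintro _ ⟨k, rfl⟩
    refine ⟨⟨_, cj _ k.2⟩, ?_⟩
    show (s * k * s⁻¹)⁻¹ * (s * (s * k * s⁻¹) * s⁻¹) = s * ((k : H)⁻¹ * (s * k * s⁻¹)) * s⁻¹
    group
  have hf : ∀ x ∈ φ.range, Commute x s → x = 1 := by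
    rintro x ⟨k, rfl⟩ hc
    have e : s * k * s⁻¹ = k * φ k := by
      show _ = (k : H) * ((k : H)⁻¹ * (s * k * s⁻¹))
      group
    have h1 : ∀ n : ℕ, s ^ n * k * (s ^ n)⁻¹ = k * φ k ^ n := fun n => by
      induction n with
      | zero => simp
      | succ n ih =>
        calc s ^ (n + 1) * k * (s ^ (n + 1))⁻¹ = s * (s ^ n * k * (s ^ n)⁻¹) * s⁻¹ := by group
          _ = (s * k * s⁻¹) * (s * φ k ^ n) * s⁻¹ := by rw [ih]; group
          _ = _ := by rw [e, ← (hc.pow_left n).eq]; group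
    have h2 := h1 p
    rw [hsp, one_mul, inv_one, mul_one, left_eq_mul] at h2
    have h3 : orderOf (φ k) ∣ Nat.card K := Subgroup.orderOf_dvd_natCard K (hle ⟨k, rfl⟩)
    rcases (Nat.dvd_prime hp).1 (orderOf_dvd_of_pow_eq_one h2) with h | h
    · exact orderOf_eq_one_iff.1 h
    · exact absurd (h ▸ h3) hK
  intro k hk
  have h4 := frob_fix ρ hn (fun h => hK (h.trans (card_dvd_of_le hle))) hsp hf hN _ ⟨⟨k, hk⟩, rfl⟩
  have h5 : k⁻¹ * (s * k * s⁻¹) = 1 := hρ (h4.trans (map_one ρ).symm)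
  show k * s = s * k
  calc k * s = k * (k⁻¹ * (s * k * s⁻¹)) * s := by rw [h5, mul_one]
    _ = _ := by group

theorem reg_conj (ρ : Representation (ZMod p) H V) {s : H} {e : ℕ} (h : Reg (ρ s - 1) e) (g : H)
    {i : ℕ} (hi : ¬ p ∣ i) : Reg (ρ (g * s ^ i * g⁻¹) - 1) e := by
  have hp : p.Prime := Fact.out
  have hab : ρ g * ρ g⁻¹ = 1 := by rw [← map_mul, mul_inv_cancel, map_one]
  have hba : ρ g⁻¹ * ρ g = 1 := by rw [← map_mul, inv_mul_cancel, map_one]
  have e1 : ρ (g * s ^ i * g⁻¹) - 1 = ρ g * (ρ s ^ i - 1) * ρ g⁻¹ := by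
    rw [map_mul, map_mul, map_pow, mul_sub, sub_mul, mul_one, hab]
  have h1 : ρ s ^ p ^ e = 1 := by
    rw [← sub_eq_zero, ← Frob.frob_pow (p := p)]
    exact pow_eq_zero_of_le (Nat.lt_pow_self hp.one_lt).le h.nil
  obtain ⟨j, hj⟩ := Frob.exists_pow hp h1 hi
  refine ⟨h.dim, ?_, fun h0 => h.ne ?_⟩
  · rw [e1, Frob.conj_pow' hab hba, Frob.pow_nil h.nil, mul_zero, zero_mul]
  · rw [e1, Frob.conj_pow' hab hba] at h0
    have h2 : (ρ s ^ i - 1) ^ (e - 1) = 0 := by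
      calc _ = (ρ g⁻¹ * ρ g) * (ρ s ^ i - 1) ^ (e - 1) * (ρ g⁻¹ * ρ g) := by rw [hba, one_mul, mul_one]
        _ = ρ g⁻¹ * (ρ g * (ρ s ^ i - 1) ^ (e - 1) * ρ g⁻¹) * ρ g := by simp only [mul_assoc]
        _ = 0 := by rw [h0, mul_zero, zero_mul]
    rw [← hj]
    exact Frob.pow_nil h2 j

end Cfsg.Agent.MxD
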