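import Mathlib
import Cfsg.Agent.MxD.Defs
import Cfsg.Agent.MxD.LvA
import Cfsg.Agent.MxD.LvB
import Cfsg.Agent.MxD.Wt
import Cfsg.Agent.MxD.Frob
import Cfsg.Agent.GT.PStable
import Cfsg.Agent.GT.TransferSylow

/-! The model acts faithfully on central sections. -/

set_option autoImplicit false

namespace Cfsg.Agent.MxD

open Subgroup Cfsg.Agent.GT Cfsg.Agent.FG.MxC Cfsg.Agent.Fus Cfsg.Agent.Fus.R3 Cfsg.Agent.MxE
open Cfsg.FusionSystem hiding inv_mem
open scoped commutatorElement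

universe u

namespace Faith

theorem eq_one_of {X : Type*} [Group X] [Finite X] {p : ℕ} [Fact p.Prime] {K : Subgroup X}
    (hK : ¬ p ∣ Nat.card K) {x : X} (hx : x ∈ K) {j : ℕ} (h : x ^ p ^ j = 1) : x = 1 := by
  have h1 : orderOf x ∣ p ^ j := orderOf_dvd_of_pow_eq_one h
  have h2 : orderOf x ∣ Nat.card K := Subgroup.orderOf_dvd_natCard K hx
  have h3 : (p ^ j).Coprime (Nat.card K) :=
    Nat.Coprime.pow_left j ((Nat.Prime.coprime_iff_not_dvd Fact.out).2 hK)
  exact orderOf_eq_one_iff.1 (Nat.eq_one_of_dvd_coprimes h3 h1 h2)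

theorem core {H : Type*} [Group H] [Finite H] {p : ℕ} [Fact p.Prime] {W K : Subgroup H}
    [W.Normal] [K.Normal] (hW : IsPGroup p W) (hc : centralizer (W : Set H) ≤ W)
    (hK : ¬ p ∣ W.relIndex K) {s : H} (hs : s ^ p ∈ W)
    (hfix : ∀ k ∈ K, k * s * k⁻¹ * s⁻¹ ∈ W → ∃ j, k ^ p ^ j ∈ W)
    (hnil : ∀ x ∈ W, (fun y => s * y * s⁻¹ * y⁻¹)^[p - 1] x ∈ ⁅W, W⁆ ⊔ powerClosure p 1 W) :
    K ≤ W := by
  rw [← PG.map_frattini_subtype hW] at hnil
  obtain ⟨Φ, hΦn, hnil, hcm, hel⟩ : ∃ (Φ : Subgroup H) (_ : Φ.Normal),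
      (∀ x ∈ W, (fun y => s * y * s⁻¹ * y⁻¹)^[p - 1] x ∈ Φ) ∧
      centMod W Φ ≤ piCoreMod {q | q ∣ p} (centralizer (W : Set H)) ∧
      IsElementaryAbelian p (W.map (QuotientGroup.mk' Φ)) :=
    ⟨_, _, hnil, centMod_frattini_le_piCoreMod W hW, isElementaryAbelian_map_mk'_frattini W hW⟩
  have hVn : (W.map (QuotientGroup.mk' Φ)).Normal :=
    Normal.map inferInstance _ (QuotientGroup.mk'_surjective Φ)
  let ρ : Representation (ZMod p) (H ⧸ W) (EAV hel) :=
    QuotientGroup.lift W ((cRep hel).comp (QuotientGroup.mk' Φ)) fun w hw =>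
      LinearMap.ext fun x => EAV.ext (by
        rw [MonoidHom.comp_apply, val_cRep, Module.End.one_apply, mul_inv_eq_iff_eq_mul]
        exact congrArg Subtype.val (hel.1.is_comm.comm
          (⟨_, mem_map_of_mem _ hw⟩ : W.map (QuotientGroup.mk' Φ)) ⟨x.val, x.val_mem⟩))
  have hρ : ∀ (g : H) (x : EAV hel), (ρ (g : H ⧸ W) x).val = (g : H ⧸ Φ) * x.val * (g : H ⧸ Φ)⁻¹ :=
    fun g x => val_cRep hel _ x
  have hcard : ¬ p ∣ Nat.card (K.map (QuotientGroup.mk' W)) := by
    rwa [← relIndex_ker, QuotientGroup.ker_mk']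
  have hKn : (K.map (QuotientGroup.mk' W)).Normal :=
    Normal.map inferInstance _ (QuotientGroup.mk'_surjective W)
  have it : ∀ (m : ℕ) (x : EAV hel) (y : H), x.val = (y : H ⧸ Φ) →
      (((ρ (s : H ⧸ W) - 1) ^ m) x).val = (((fun y => s * y * s⁻¹ * y⁻¹)^[m] y : H) : H ⧸ Φ) := by
    intro m
    induction m with
    | zero => intro x y h; simpa using h
    | succ m ih =>
      intro x y h
      rw [pow_succ, Module.End.mul_apply, Function.iterate_succ_apply]
      refine ih _ _ ?_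
      rw [LinearMap.sub_apply, EAV.val_sub, hρ, Module.End.one_apply, h]
      simp
  have key := frob_fix ρ (K := K.map (QuotientGroup.mk' W)) (s := (s : H ⧸ W))
    (by rw [normalizer_eq_top]; exact mem_top _) hcard
    (by rw [← QuotientGroup.mk_pow, QuotientGroup.eq_one_iff]; exact hs)
    (by
      rintro _ ⟨k, hk, rfl⟩ hcm
      obtain ⟨j, hj⟩ := hfix k hk (by
        rw [← QuotientGroup.eq_one_iff]
        have := hcm.eq
        simp only [QuotientGroup.mk'_apply] at this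
        simp [this])
      refine eq_one_of hcard (mem_map_of_mem _ hk) (j := j) ?_
      rw [← map_pow, QuotientGroup.mk'_apply, QuotientGroup.eq_one_iff]
      exact hj)
    (by
      refine LinearMap.ext fun x => ?_
      obtain ⟨y, hy, e⟩ := x.val_mem
      rw [LinearMap.zero_apply, ← EAV.val_eq_one_iff, it _ x y e.symm, QuotientGroup.eq_one_iff]
      exact hnil y hy)
  intro k hk
  have h1 : k ∈ centMod W Φ := by
    rw [mem_centMod]
    intro x hx
    have := hρ k (EAV.mk hel _ (mem_map_of_mem _ hx))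
    rw [show ρ (k : H ⧸ W) = 1 from key _ (mem_map_of_mem _ hk), Module.End.one_apply,
      EAV.val_mk, QuotientGroup.mk'_apply] at this
    rw [← QuotientGroup.eq_one_iff]
    simp only [QuotientGroup.mk_mul, QuotientGroup.mk_inv]
    rw [← this, mul_inv_cancel]
  have h2 := mk_mem_pCore_iff.2 (piCoreMod_mono hc (hcm h1))
  obtain ⟨j, hj⟩ := isPGroup_pCore p (G := H ⧸ W) ⟨_, h2⟩
  rw [← QuotientGroup.eq_one_iff]
  exact eq_one_of hcard (mem_map_of_mem _ hk) (j := j) (congrArg Subtype.val hj)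

end Faith

variable {G : Type u} [Group G] [Finite G] {p n : ℕ} [Fact p.Prime] {H : Type*} [Group H]
  [Finite H] {ι : G →* H}

omit [Finite G] [Finite H] [Fact p.Prime] in
theorem Md.exists_aut (hM : Md p ι) {g : H} (hg : g ∈ normalizer (ι.range : Set H)) :
    ∃ α : MulAut G, ∀ x, ι (α x) = g * ι x * g⁻¹ := by
  let e : G ≃* ι.range := MonoidHom.ofInjective hM.inj
  refine ⟨(e.trans (ι.range.normalizerMonoidHom ⟨g, hg⟩)).trans e.symm, fun x => ?_⟩
  have h1 : ∀ y : ι.range, ι (e.symm y) = y := fun y => MonoidHom.apply_ofInjective_symm hM.inj y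
  rw [MulEquiv.trans_apply, h1]
  rfl
theorem Md.faithful (hM : Md p ι) (h : MC p G n)
    (hna : ∃ x ∈ C G 1, ∃ y ∈ C G 1, ¬ Commute x y) {a b : ℕ} (hab : a + 2 ≤ b) (ha : a ≤ n)
    (ha' : a ≠ n ∨ C G n = C G 1) (na : ((P G a).map ι).Normal) (nb : ((P G b).map ι).Normal)
    (hR : ∀ x ∈ P G a, ∀ r ∈ C G 1, ⁅x, r⁆ ∈ P G b) {k : H}
    (hk : ∀ x ∈ P G a, (ι x)⁻¹ * (k * ι x * k⁻¹) ∈ (P G b).map ι) : k ∈ (C G 1).map ι := by
  have hn := hM.nR
  set W := (C G 1).map ι with hWdef
  let K := centMod ((P G a).map ι) ((P G b).map ι)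
  have memK : ∀ κ, κ ∈ K ↔ ∀ x ∈ P G a, (ι x)⁻¹ * (κ * ι x * κ⁻¹) ∈ (P G b).map ι := by
    intro κ
    rw [mem_centMod]
    constructor
    · intro hκ x hx
      have := nb.conj_mem _ (hκ _ (mem_map_of_mem ι hx)) (ι x)⁻¹
      convert this using 1
      group
    · rintro hκ _ ⟨x, hx, rfl⟩
      have := nb.conj_mem _ (hκ x hx) (ι x)
      convert this using 1
      group
  obtain ⟨x, hx⟩ := h.exists_lv (j := a) (by omega)
  have hT : IsPGroup p ι.range := by
    rw [MonoidHom.range_eq_map]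
    exact h.pT.map ι
  have hWT : W ≤ ι.range := map_le_range _ _
  have hKT : ι.range ⊓ K = W := by
    refine le_antisymm ?_ (le_inf hWT ?_)
    · rintro _ ⟨⟨s, rfl⟩, hs⟩
      refine mem_map_of_mem ι (by_contra fun hsR => ?_)
      have h1 := (memK _).1 hs x hx.1
      rw [← map_inv, ← map_inv, ← map_mul, ← map_mul, ← map_mul, mem_map_iff_mem hM.inj] at h1
      have hxi : Lv x⁻¹ a := ⟨inv_mem hx.1, fun e => hx.2 (inv_mem_iff.1 e)⟩
      have h2 := h.lv_comm hxi hsR (by
        rcases ha' with e | e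
        · exact Or.inl (by omega)
        · rcases Nat.lt_or_ge a n with e' | e'
          · exact Or.inl e'
          · exact Or.inr ⟨by omega, e ▸ hsR⟩)
      refine h2.2 (P_anti hab ?_)
      convert h1 using 1
      simp only [commutatorElement_def]
      group
    · rintro _ ⟨r, hr, rfl⟩
      refine (memK _).2 fun y hy => ?_
      rw [← map_inv, ← map_inv, ← map_mul, ← map_mul, ← map_mul]
      refine mem_map_of_mem ι ?_
      convert hR y⁻¹ (inv_mem hy) r hr using 1
      simp only [commutatorElement_def]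
      group
  obtain ⟨s, hs⟩ := h.exists_unif
  refine Faith.core (K := K) (s := ι s) (hT.to_le hWT) hM.cR ?_ ?_ ?_ ?_ ((memK k).2 hk)
  · have := Tr.not_dvd_relIndex_sylow_inf_normal (hT.toSylow hM.idx) K
    rwa [IsPGroup.toSylow_coe, hKT] at this
  · rw [← map_pow]
    exact mem_map_of_mem ι (h.pow_mem_R s)
  · intro κ hκ hc
    have hN : κ ∈ normalizer (ι.range : Set H) := by
      refine mem_normalizer_fintype ?_
      rintro _ ⟨g, rfl⟩
      have hg : g ∈ (ι.range.comap (MulAut.conj κ).toMonoidHom).comap ι := by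
        have h1 : C G 1 ⊔ zpowers s ≤ (ι.range.comap (MulAut.conj κ).toMonoidHom).comap ι := by
          refine sup_le (fun r hr => hWT (hn.conj_mem _ (mem_map_of_mem ι hr) κ)) ?_
          rw [zpowers_le]
          have := ι.range.mul_mem (hWT hc) ⟨s, rfl⟩
          rw [inv_mul_cancel_right] at this
          exact this
        exact h1 (h.sup_R hs.1 ▸ mem_top g)
      exact hg
    obtain ⟨α, hα⟩ := hM.exists_aut hN
    obtain ⟨j, hj⟩ := h.w3 α (s := s) (x := x) hs.1 (by
        rw [← mem_map_iff_mem hM.inj, map_mul, map_inv, hα]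
        convert hn.conj_mem _ hc (ι s)⁻¹ using 1
        group) hx ha (by
        refine P_anti (j := b) (by omega) ?_
        rw [← mem_map_iff_mem hM.inj, map_mul, map_inv, hα]
        exact (memK κ).1 hκ x hx.1)
    refine ⟨j, hM.cR (mem_centralizer_iff.2 ?_)⟩
    rintro _ ⟨r, -, rfl⟩
    have it : ∀ m : ℕ, ι ((α ^ m) r) = κ ^ m * ι r * (κ ^ m)⁻¹ := by
      intro m
      induction m with
      | zero => simp
      | succ m ih => rw [pow_succ', MulAut.mul_apply, hα, ih]; group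
    have := it (p ^ j)
    rw [hj, MulAut.one_apply] at this
    exact (mul_inv_eq_iff_eq_mul.1 this.symm).symm
  · rintro _ ⟨r, hr, rfl⟩
    have it : ∀ m : ℕ, ∃ y ∈ P G m, (fun y => ι s * y * (ι s)⁻¹ * y⁻¹)^[m] (ι r) = ι y := by
      intro m
      induction m with
      | zero => exact ⟨r, hr, rfl⟩
      | succ m ih =>
        obtain ⟨y, hy, e⟩ := ih
        refine ⟨⁅y, s⁆⁻¹, inv_mem (cm1 hy s), ?_⟩
        rw [Function.iterate_succ_apply', e]
        simp only [commutatorElement_def, map_mul, map_inv]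
        group
    obtain ⟨y, hy, e⟩ := it (p - 1)
    rw [e, hWdef, ← map_commutator, ← PG.map_powerClosure, ← Subgroup.map_sup]
    exact mem_map_of_mem ι (h.P_le_frattini hna hy)

end Cfsg.Agent.MxD
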