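import Mathlib
import Cfsg.Agent.MxD.Defs
import Cfsg.Agent.MxD.LvA
import Cfsg.Agent.MxD.LvB
import Cfsg.Agent.Fus.ModelExists
import Cfsg.Agent.Fus.Free

/-! The model of the normaliser of the two-step centraliser. -/

set_option autoImplicit false

namespace Cfsg.Agent.MxD

open Subgroup Cfsg.Agent.GT Cfsg.Agent.FG.MxC Cfsg.Agent.Fus Cfsg.Agent.Fus.R3 Cfsg.Agent.MxE
open Cfsg.FusionSystem hiding inv_mem
open scoped commutatorElement

universe u

variable {G : Type u} [Group G] [Finite G] {p n : ℕ} [Fact p.Prime]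
  {F : FusionSystem (⊤ : Subgroup G)} {E : Subgroup G}

theorem MC.exists_md (h : MC p G n) (hF : F.IsSaturated p) :
    ∃ (H : Type u) (_ : Group H) (_ : Finite H) (ι : G →* H), Md p ι ∧
      (∀ k, F.Iso (C G 1) (C G 1) k → ∃ g : H, ∀ x ∈ C G 1, ι (k x) = g * ι x * g⁻¹) ∧
      ∀ g : H, ∃ k, F.Iso (C G 1) (C G 1) k ∧ ∀ x ∈ C G 1, ι (k x) = g * ι x * g⁻¹ := by
  have hn : (⊤ : Subgroup G) ≤ normalizer ((C G 1 : Subgroup G) : Set G) := by
    rw [normalizer_eq_top]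
  obtain ⟨N, hN⟩ := F.exists_isKNormalizer (T := ⊤) (Q := C G 1) le_top ⊤ (by
    rw [preAut_top]
    exact (top_le_iff.1 (le_inf le_rfl hn)).symm)
  have hsat : N.IsSaturated p :=
    hN.isSaturated hF h.pT (hF.kFull_top h.pT (F.isFullyNormalized_of_le_normalizer le_top hn))
  have hnor : N.IsNormal (C G 1) := hN.isNormal le_top
  have hcen : N.IsCentric (C G 1) := ⟨le_top, fun Q hQ =>
    inf_le_right.trans (h.cent_max (hQ.card_eq.symm.trans h.cardR))⟩
  obtain ⟨H, iH, fH, j, hj⟩ := IsConstrained.exists_isModelVia ⟨hsat, _, hnor, hcen⟩ h.pT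
  let ι : G →* H := MonoidHom.mk' j fun a b => hj.mulOn a trivial b trivial
  have e1 : img j (C G 1) = (C G 1).map ι := img_eq_map ι _
  have e2 : img j ⊤ = ι.range := (img_eq_map ι _).trans (MonoidHom.range_eq_map ι).symm
  obtain ⟨ρ, hρ, hρj⟩ := hj.exists_conjHom hnor
  refine ⟨H, iH, fH, ι, ⟨fun a b e => hj.inj a trivial b trivial e, e2 ▸ hj.not_dvd, e1 ▸ hj.normal_img hnor,
    e1 ▸ hj.centralizer_img_le hnor hcen.centralizerIn_le⟩, fun k hk => ?_, fun g => ?_⟩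
  · obtain ⟨α, -, hα⟩ := hk.exists_aut
    obtain ⟨-, -, g, -, hg⟩ := hj.mor_iff.1 (hN.mor_of le_top hk.mor le_rfl le_rfl (fun _ _ => rfl)
      (mem_top α) fun x hx => (hα x hx).symm)
    exact ⟨g, hg⟩
  · have : ρ g ∈ N.autGroup (C G 1) := hρ ▸ ⟨g, rfl⟩
    exact ⟨totA (ρ g), hN.isSubsystemOf.iso (iso_totA le_top this), hρj g⟩

end Cfsg.Agent.MxD
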