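import Mathlib
import Cfsg.Agent.MxD.Defs
import Cfsg.Agent.MxD.LvA
import Cfsg.Agent.MxD.LvB
import Cfsg.Agent.MxE.BigA

/-! The quadratic element. -/

set_option autoImplicit false

namespace Cfsg.Agent.MxD

open Subgroup Cfsg.Agent.GT Cfsg.Agent.FG.MxC Cfsg.Agent.Fus Cfsg.Agent.Fus.R3 Cfsg.Agent.MxE
open Cfsg.FusionSystem hiding inv_mem
open scoped commutatorElement

universe u

variable {G : Type u} [Group G] [Finite G] {p n : ℕ} [Fact p.Prime]

namespace Quad

open Polynomial in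
omit [Finite G] in
/-- the linear algebra behind the quadratic action -/
theorem lin {V : Type*} [AddCommGroup V] [Module (ZMod p) V] {ρ : Representation (ZMod p) G V}
    {s w ζ : G} {d : ℕ} (reg : Reg (ρ s - 1) d) (hd : d ≤ p) (e0 : s * w = w * (ζ * s))
    (cw : Commute (ρ w) (ρ ζ)) (cs : Commute (ρ ζ) (ρ s))
    (hr0 : LinearMap.range (ρ ζ - 1) ≠ ⊤) : (ρ ζ - 1) * (ρ ζ - 1) = 0 := by
  have hc : Commute (ρ ζ - 1) (ρ s - 1) :=
    (cs.sub_right (Commute.one_right _)).sub_left (Commute.one_left _)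
  obtain ⟨k, hk, hr⟩ := reg.exists_eq_Vj (LinearMap.range (ρ ζ - 1)) (by
    rintro _ ⟨v, rfl⟩
    exact ⟨(ρ s - 1) v, by rw [← Module.End.mul_apply, hc.eq, Module.End.mul_apply]⟩)
  have hup : Up (ρ s - 1) k (ρ ζ - 1) := up_of_commute hc hr.le
  by_cases hdk : d ≤ k + k
  · exact BasL.eq_zero_of_up reg ((hup.mul hup).mono hdk)
  exfalso
  obtain ⟨l, rfl⟩ : ∃ l, k = l + 1 := by
    refine ⟨k - 1, ?_⟩
    rcases Nat.eq_zero_or_pos k with e | e
    · rw [e, Vj_zero] at hr
      exact absurd hr hr0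
    · omega
  obtain ⟨q, hq, eq⟩ := reg.exists_aeval_of_range hc (by omega) hr
  obtain ⟨r, hr1, er⟩ := BigA.expand q (q * (1 + X)) l
  have eY : aeval (ρ s - 1) (X ^ (l + 1) * q) = ρ ζ - 1 := by rw [eq, map_mul, map_pow, aeval_X]
  have e1 : ρ w * aeval (ρ s - 1) (X + X ^ (l + 1) * (q * (1 + X))) = (ρ s - 1) * ρ w := by
    rw [← mul_assoc, map_add, map_mul, eY, map_add, aeval_X, map_one, sub_mul (ρ s), ← map_mul, e0,
      map_mul, map_mul]
    noncomm_ring
  have e2 := BigA.semiconj e1 (X ^ (l + 1) * q)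
  rw [← aeval_comp, er, map_add, eY, mul_add, (cw.sub_right (Commute.one_right _)).eq,
    add_eq_left] at e2
  have e3 : (ρ s - 1) ^ (2 * l + 1) * aeval (ρ s - 1) r = 0 := by
    have := congrArg (ρ w⁻¹ * ·) e2
    simpa only [← mul_assoc, ← map_mul ρ, inv_mul_cancel, map_one, one_mul, mul_zero,
      map_mul (aeval _), map_pow, aeval_X] using this
  have hr2 : r.coeff 0 ≠ 0 := by
    rw [hr1]
    simpa using ⟨by simpa using BigA.cast_ne (p := p) l.succ_pos (by omega), hq⟩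
  refine BigA.Vj_ne_bot reg (j := 2 * l + 1) (by omega) ?_
  rw [← reg.range_aeval hr2, e3, LinearMap.range_zero]

omit [Finite G] in
theorem sq_pow {A : Type*} [Ring A] {a : A} (h : (a - 1) * (a - 1) = 0) (k : ℕ) :
    (a ^ k - 1) * (a ^ k - 1) = 0 := by
  nth_rewrite 1 [← geom_sum_mul]
  rw [← mul_geom_sum, mul_assoc, ← mul_assoc (a - 1), h, zero_mul, mul_zero]

omit [Finite G] in
theorem val_sub {E : Subgroup G} [E.Normal] (hE : IsElementaryAbelian p E) (g : G) (x : EAV hE) :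
    ((cRep hE g - 1) x).val = ⁅g, x.val⁆ := by
  rw [LinearMap.sub_apply, EAV.val_sub, val_cRep, commutatorElement_def]
  rfl

omit [Finite G] [Fact p.Prime] in
theorem lv_inv {x : G} {j : ℕ} (hx : Lv x j) : Lv x⁻¹ j :=
  ⟨inv_mem hx.1, fun e => hx.2 (by simpa using inv_mem e)⟩

omit [Finite G] in
theorem cm1' {a : ℕ} {x : G} (hx : x ∈ P G a) (g : G) : ⁅g, x⁆ ∈ P G (a + 1) := by
  rw [← commutatorElement_inv]
  exact inv_mem (cm1 hx g)

theorem elem (h : MC p G n) {i : ℕ} (hc : ∀ x ∈ P G i, ∀ x' ∈ P G i, Commute x x') {u₀ : G}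
    (hu₀ : Lv u₀ i) (hp : u₀ ^ p = 1) : IsElementaryAbelian p (P G i) := by
  let N : Subgroup G :=
    { carrier := {x | x ∈ P G i ∧ x ^ p = 1}
      one_mem' := ⟨one_mem _, one_pow _⟩
      mul_mem' := fun {a b} ha hb => ⟨mul_mem ha.1 hb.1, by
        rw [(hc a ha.1 b hb.1).mul_pow, ha.2, hb.2, one_mul]⟩
      inv_mem' := fun {a} ha => ⟨inv_mem ha.1, by rw [inv_pow, ha.2, inv_one]⟩ }
  have : N.Normal := ⟨fun x hx g => ⟨Normal.conj_mem inferInstance x hx.1 g, by
    rw [conj_pow, hx.2, mul_one, mul_inv_cancel]⟩⟩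
  have hle : P G i ≤ N := h.P_le_of_normal (N := N) ⟨hu₀.1, hp⟩ hu₀
  exact ⟨⟨⟨fun a b => Subtype.ext (hc a a.2 b b.2).eq⟩⟩, fun a ha => (hle ha).2⟩

theorem reg (h : MC p G n) {i : ℕ} (hi : i ≤ n + 1) (hE : IsElementaryAbelian p (P G i)) {s : G}
    (hs : Unif n s) : Reg (cRep hE s - 1) (n + 2 - i) := by
  have hp : p.Prime := Fact.out
  refine ⟨?_, ?_, ?_⟩
  · have h1 : Nat.card (EAV hE) = p ^ (n + 2 - i) := by
      rw [EAV.card_eq, h.cardP (by omega)]
    rw [Module.natCard_eq_pow_finrank (K := ZMod p), Nat.card_zmod] at h1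
    exact Nat.pow_right_injective hp.two_le h1
  · have key : ∀ k, ∀ x : EAV hE, (((cRep hE s - 1) ^ k) x).val ∈ P G (i + k) := fun k x => by
      induction k with
      | zero => exact x.val_mem
      | succ k ih =>
        rw [pow_succ', Module.End.mul_apply, val_sub]
        exact cm1' ih s
    refine LinearMap.ext fun x => EAV.val_eq_one_iff.1 ?_
    have := key (n + 2 - i) x
    rwa [show i + (n + 2 - i) = n + 2 by omega, h.P_bot, mem_bot] at this
  · obtain ⟨x, hx⟩ := h.exists_lv hi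
    have key : ∀ k, i + k ≤ n + 1 →
        Lv (((cRep hE s - 1) ^ k) (EAV.mk hE x hx.1)).val (i + k) := fun k hk => by
      induction k with
      | zero => exact hx
      | succ k ih =>
        rw [pow_succ', Module.End.mul_apply, val_sub, ← commutatorElement_inv]
        refine lv_inv (h.lv_comm (ih (by omega)) hs.1 ?_)
        by_cases e : i + k = n
        · exact Or.inr ⟨e, hs.2⟩
        · exact Or.inl (show i + k + 1 ≤ n by omega)
    intro e
    have := (key (n + 2 - i - 1) (by omega)).2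
    rw [e, LinearMap.zero_apply, EAV.val_zero] at this
    exact this (one_mem _)

theorem le_p (h : MC p G n) {i d : ℕ} (hE : IsElementaryAbelian p (P G i)) {s : G}
    (hs : Unif n s) (hr : Reg (cRep hE s - 1) d) : d ≤ p := by
  have : Nontrivial (Module.End (ZMod p) (EAV hE)) := nontrivial_of_ne _ _ hr.ne
  have : CharP (Module.End (ZMod p) (EAV hE)) p :=
    charP_of_injective_algebraMap (algebraMap (ZMod p) (Module.End (ZMod p) (EAV hE))).injective p
  by_contra hlt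
  refine hr.pow_ne_zero (j := p) (by omega) ?_
  rw [sub_pow_char_of_commute p (Commute.one_right _), one_pow, sub_eq_zero, ← map_pow]
  refine LinearMap.ext fun x => EAV.ext ?_
  rw [val_cRep, Module.End.one_apply, ← mem_center_iff.1 (h.pow_unif hs) x.val,
    mul_inv_cancel_right]

end Quad

theorem MC.quad (h : MC p G n) {i j : ℕ} (hj : 2 ≤ j)
    (hc : ∀ x ∈ P G i, ∀ x' ∈ P G j, Commute x x') {u₀ y : G} (hu₀ : Lv u₀ i) (hp : u₀ ^ p = 1)
    (hy : Lv y (j - 1)) {u : G} (hu : u ∈ P G i) : Commute ⁅u, y⁆ y := by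
  obtain ⟨a, rfl⟩ : ∃ a, j = a + 2 := ⟨j - 2, by omega⟩
  replace hy : Lv y (a + 1) := hy
  by_cases hij : i ≤ a + 1
  · exact (hc y (P_anti hij hy.1) _ (Quad.cm1' hy.1 u)).symm
  have hij' : a + 2 ≤ i := by omega
  have hi := h.lv_le hu₀
  have hE := Quad.elem h (fun x hx x' hx' => hc x hx x' (P_anti hij' hx')) hu₀ hp
  obtain ⟨s, hs⟩ := h.exists_unif
  have hreg := Quad.reg h hi hE hs
  have hd := Quad.le_p h hE hs hreg
  obtain ⟨y', hy'⟩ := h.exists_lv (j := a) (by omega)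
  have hy1 : Lv ⁅y', s⁆ (a + 1) := h.lv_comm hy' hs.1 (Or.inl (by omega))
  have triv : ∀ g ∈ P G (a + 2), cRep hE g = 1 := fun g hg =>
    LinearMap.ext fun x => EAV.ext (by
      rw [val_cRep, Module.End.one_apply, ← (hc _ x.val_mem g hg).eq, mul_inv_cancel_right])
  have cen : ∀ g, Commute (cRep hE ⁅y', s⁆) (cRep hE g) := fun g => by
    have e : ⁅y', s⁆ * g = ⁅⁅y', s⁆, g⁆ * (g * ⁅y', s⁆) := by
      rw [commutatorElement_def ⁅y', s⁆]
      group
    have := congrArg (cRep hE) e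
    rwa [map_mul, map_mul, map_mul, triv _ (cm1 hy1.1 g), one_mul] at this
  have hθ := Quad.lin (w := y'⁻¹) (ζ := ⁅y', s⁆) hreg hd
    (by rw [commutatorElement_def]; group) (cen _).symm (cen _) (fun e => by
      have : EAV.mk hE u₀ hu₀.1 ∈ LinearMap.range (cRep hE ⁅y', s⁆ - 1) := by
        rw [e]; trivial
      obtain ⟨v, hv⟩ := this
      have h1 := congrArg EAV.val hv
      rw [Quad.val_sub, EAV.val_mk] at h1
      exact hu₀.2 (h1 ▸ Quad.cm1' v.val_mem _))
  have hy2 := hy.1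
  rw [← h.sup_lv hy1, mem_sup_of_normal_left] at hy2
  obtain ⟨w, hw, z, hz, e⟩ := hy2
  obtain ⟨k, rfl⟩ := BasL.exists_nat hz
  have e1 : cRep hE y = cRep hE ⁅y', s⁆ ^ k := by
    rw [← e, map_mul, triv w hw, one_mul, map_pow]
  have h2 := Quad.sq_pow hθ k
  rw [← e1] at h2
  have h3 := congrArg EAV.val (LinearMap.congr_fun h2 (EAV.mk hE u hu))
  rw [Module.End.mul_apply, Quad.val_sub, Quad.val_sub, EAV.val_mk, LinearMap.zero_apply,
    EAV.val_zero, commutatorElement_eq_one_iff_commute] at h3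
  rw [← commutatorElement_inv]
  exact h3.symm.inv_left

end Cfsg.Agent.MxD
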