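import Mathlib
import Cfsg.Agent.MxD.Defs
import Cfsg.Agent.MxD.LvA
import Cfsg.Agent.MxD.LvB
import Cfsg.Agent.MxD.Quad
import Cfsg.Agent.MxD.B0

/-! Non-exceptional case: the module and the quadratic element. -/

set_option autoImplicit false

namespace Cfsg.Agent.MxD

open Subgroup Cfsg.Agent.GT Cfsg.Agent.FG.MxC Cfsg.Agent.Fus Cfsg.Agent.Fus.R3 Cfsg.Agent.MxE
open Cfsg.FusionSystem hiding inv_mem
open scoped commutatorElement

universe u

namespace N1a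

variable {G : Type u} [Group G]

/-- The central elements of `E` of order dividing `p`. -/
def om (p : ℕ) (E : Subgroup G) : Subgroup G where
  carrier := {u | u ∈ E ⊓ centralizer (E : Set G) ∧ u ^ p = 1}
  one_mem' := ⟨one_mem _, one_pow p⟩
  mul_mem' := fun {a b} ha hb => ⟨mul_mem ha.1 hb.1, by
    rw [Commute.mul_pow (hb.1.2 a ha.1.1), ha.2, hb.2, one_mul]⟩
  inv_mem' := fun {a} ha => ⟨inv_mem ha.1, by rw [inv_pow, ha.2, inv_one]⟩

theorem norm_of_comm [Finite G] {E : Subgroup G} {y : G} (h : ∀ e ∈ E, ⁅y, e⁆ ∈ E) :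
    y ∈ normalizer (E : Set G) :=
  mem_normalizer_fintype fun e he => by
    simpa [commutatorElement_def] using mul_mem (h e he) he

end N1a

variable {G : Type u} [Group G] [Finite G] {p n : ℕ} [Fact p.Prime]
  {F : FusionSystem (⊤ : Subgroup G)} {E : Subgroup G}

theorem CB.exists_U (h : CB F p n E) : ∃ (U : Subgroup G) (y : G), IsElementaryAbelian p U ∧
    InvA (F.autGroup E) U ∧ (∀ u ∈ U, ∀ x ∈ E, Commute u x) ∧ (∀ v, InY p v → v ∈ U) ∧
    y ∈ C G 1 ∧ y ∉ E ∧ y ∈ normalizer (E : Set G) ∧ ∀ u ∈ U, Commute ⁅u, y⁆ y := by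
  classical
  have mc := h.mc
  have hR : E ≤ C G 1 := h.lt_R.le
  obtain ⟨u, hu, hup, huz, huc⟩ := h.exists_u
  have huU : u ∈ N1a.om p E := ⟨⟨hu, fun x hx => (huc x).2 hx⟩, hup⟩
  have ex1 : ∃ i, ∃ v ∈ N1a.om p E, Lv v i := by
    obtain ⟨i, -, hi⟩ := mc.exists_lv_of (hR hu) fun e => huz (e ▸ one_mem _)
    exact ⟨i, u, huU, hi⟩
  have ex2 : ∃ j, P G j ≤ E := ⟨n + 2, by rw [mc.P_bot]; exact bot_le⟩
  obtain ⟨u₀, hu₀, hl⟩ := Nat.find_spec ex1
  have hj := Nat.find_spec ex2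
  have h2 : 2 ≤ Nat.find ex2 := by
    by_contra hlt
    obtain ⟨s, hs⟩ := mc.exists_unif
    refine hs.1 (h.nz_le (N1a.norm_of_comm fun e he => ?_))
    rw [← commutatorElement_inv]
    exact inv_mem (hj (P_anti (by omega) (cm1 (a := 0) (hR he) s)))
  obtain ⟨y, hy, hyE⟩ := SetLike.not_le_iff_exists.1 (Nat.find_min ex2 (show Nat.find ex2 - 1 < _ by omega))
  have e1 : Nat.find ex2 - 1 + 1 = Nat.find ex2 := by omega
  have hc : P G (Nat.find ex1) ≤ centralizer (P G (Nat.find ex2) : Set G) :=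
    mc.P_le_of_normal (fun x hx => hu₀.1.2 x (hj hx)) hl
  refine ⟨N1a.om p E, y, ⟨⟨⟨fun a b => Subtype.ext (b.2.1.2 a a.2.1.1)⟩⟩, fun a ha => ha.2⟩,
    ⟨fun a ha => ha.1.1, fun α hα x hx => ⟨((invA_top _).inf_centralizer (invA_top _)).mem hα hx.1,
      pow_totA hx.1.1 hx.2⟩⟩, fun a ha x hx => (ha.1.2 x hx).symm, fun v hv => ?_,
    P_anti (Nat.zero_le _) hy, hyE, N1a.norm_of_comm fun e _ => hj (e1 ▸ cm1 hy e), fun v hv => ?_⟩
  · exact ⟨⟨(huc v).1 (hv.2.1 u (hR hu)), fun x hx => (hv.2.1 x (hR hx)).symm⟩, hv.2.2⟩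
  · refine mc.quad h2 (fun x hx x' hx' => (hc hx x' hx').symm) hl hu₀.2 ⟨hy, fun k => hyE (hj (e1 ▸ k))⟩ ?_
    by_cases h1 : v = 1
    · exact h1 ▸ one_mem _
    · obtain ⟨k, -, hk⟩ := mc.exists_lv_of (hR hv.1.1) h1
      exact P_anti (Nat.find_min' ex1 ⟨v, hv, hk⟩) hk.1

end Cfsg.Agent.MxD
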