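import Mathlib
import Cfsg.Agent.MxD.Defs
import Cfsg.Agent.MxE.QB

/-! A good conjugate of a quadratic element. -/

set_option autoImplicit false

namespace Cfsg.Agent.MxD

open Subgroup Cfsg.Agent.GT Cfsg.Agent.FG.MxC Cfsg.Agent.Fus Cfsg.Agent.Fus.R3 Cfsg.Agent.MxE
open Cfsg.FusionSystem hiding inv_mem
open scoped commutatorElement

universe u

variable {p : ℕ} [Fact p.Prime] {H : Type*} [Group H] [Finite H] {V : Type*} [AddCommGroup V]
  [Module (ZMod p) V] [Finite V]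

namespace TorA

theorem wS_eq {K : Type*} [CommRing K] : QB.wS K = slUp 1 * (slLo 1)⁻¹ * slUp 1 := by
  rw [← slLo_neg]
  ext i j
  fin_cases i <;> fin_cases j <;> simp [QB.coe_wS, Matrix.mul_apply, Fin.sum_univ_two]

theorem sq_val {K : Type*} [CommRing K] :
    (((slUp (1 : K) * slLo (-1) ^ 2) ^ 2 : Matrix.SpecialLinearGroup (Fin 2) K) :
      Matrix (Fin 2) (Fin 2) K) = -1 := by
  ext i j
  fin_cases i <;> fin_cases j <;> simp [sq, Matrix.mul_apply, Fin.sum_univ_two]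

theorem core (hp : 5 ≤ p) (ρ : Representation (ZMod p) H V) (hρ : Function.Injective ρ)
    {T : Subgroup H} (hT : IsPGroup p T)
    (hU : ∀ U : Subgroup H, IsPGroup p U → ∀ x ∈ U, x ∈ T → x ≠ 1 → U ≤ T)
    {a b : H} (hgen : closure {a, b} = ⊤) (haT : a ∈ T) (ha : (ρ a - 1) * (ρ a - 1) = 0)
    (hb : (ρ b - 1) * (ρ b - 1) = 0) (hH : ¬ IsPGroup p H) :
    ∃ w₀ : H, w₀ * a * w₀⁻¹ ∉ T ∧ Commute ((a * (w₀ * a * w₀⁻¹) ^ 2) ^ 2) a := by
  have hpp : p.Prime := Fact.out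
  have hp2 : p ≠ 2 := by omega
  have hap := QB.pow_p_eq_one ρ hρ ha
  have hnp : ¬ ∀ g, ∃ k : ℕ, ρ g ^ p ^ k = 1 := fun h => hH fun g => (h g).imp fun k hk => by
    rw [← map_pow] at hk
    exact hρ (hk.trans (map_one ρ).symm)
  obtain ⟨K, _, _, _, l, φ, hl, h1, h2, -⟩ := exists_sl2_hom_finiteField ρ hgen ha hb hnp
  have hφa : φ a ≠ 1 := by rw [h1, Ne, slUp_eq_one_iff]; exact one_ne_zero
  have ha1 : a ≠ 1 := by rintro rfl; exact hφa (map_one φ)
  obtain ⟨c, hc⟩ : slLo (1 : K) ∈ φ.range := QB.slLo_one_mem hp hl ⟨a, h1⟩ ⟨b, h2⟩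
  have hw : φ (a * c⁻¹ * a) = QB.wS K := by
    rw [wS_eq, map_mul, map_mul, map_inv, h1, hc]
  generalize a * c⁻¹ * a = w₀ at hw
  have hb' : φ (w₀ * a * w₀⁻¹) = slLo (-1) := by
    rw [map_mul, map_mul, map_inv, hw, h1, QB.wS_mul_slUp, mul_inv_cancel_right]
  have noT : ∀ x ∈ T, φ x ≠ slLo (-1) := by
    intro x hx e
    obtain ⟨k, hk⟩ := hT ⟨a * x ^ 2, mul_mem haT (pow_mem hx 2)⟩
    have hk' : (a * x ^ 2) ^ p ^ k = 1 := congrArg Subtype.val hk
    have h3 : ((a * x ^ 2) ^ 2) ^ p ^ k = 1 := by rw [← pow_mul, mul_comm, pow_mul, hk', one_pow]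
    have h4 := congrArg (fun y => ((φ y : Matrix.SpecialLinearGroup (Fin 2) K) :
      Matrix (Fin 2) (Fin 2) K)) h3
    simp only [map_pow φ, map_mul φ, map_one φ, h1, e] at h4
    rw [Matrix.SpecialLinearGroup.coe_pow, sq_val, (hpp.odd_of_ne_two hp2).pow.neg_one_pow] at h4
    have h5 := congrFun (congrFun h4 0) 0
    simp only [Matrix.neg_apply, Matrix.one_apply_eq, Matrix.SpecialLinearGroup.coe_one] at h5
    have h6 : ((2 : ℕ) : K) = 0 := by push_cast; linear_combination -h5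
    have := Nat.le_of_dvd two_pos ((CharP.cast_eq_zero_iff K p 2).1 h6)
    omega
  have hker : ∀ u ∈ φ.ker, u ∈ T → u = 1 := by
    intro u hu huT
    by_contra hu1
    have hz : IsPGroup p (zpowers (⟨u, hu⟩ : φ.ker)) := by
      obtain ⟨k, hk⟩ := hT ⟨u, huT⟩
      have hk0 : u ^ p ^ k = 1 := congrArg Subtype.val hk
      have hk' : (⟨u, hu⟩ : φ.ker) ^ p ^ k = 1 := Subtype.ext hk0
      rintro ⟨_, n, rfl⟩
      refine ⟨k, Subtype.ext ?_⟩
      change ((⟨u, hu⟩ : φ.ker) ^ n) ^ p ^ k = 1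
      rw [← zpow_natCast, ← zpow_mul, mul_comm, zpow_mul, zpow_natCast, hk', one_zpow]
    obtain ⟨P, hP⟩ := hz.exists_le_sylow
    have huP : u ∈ (P : Subgroup φ.ker).map φ.ker.subtype := ⟨_, hP (mem_zpowers _), rfl⟩
    have hPT := hU _ (P.2.map φ.ker.subtype) u huP huT hu1
    have hF := Sylow.normalizer_sup_eq_top P
    have hw₀ : w₀ ∈ normalizer (((P : Subgroup φ.ker).map φ.ker.subtype : Subgroup H) : Set H) ⊔
      φ.ker := hF ▸ mem_top w₀
    obtain ⟨n, hn, y, hy, rfl⟩ := mem_sup_of_normal_right.1 hw₀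
    have h3 : n * u * n⁻¹ ∈ T := hPT ((mem_normalizer_iff.1 hn u).1 huP)
    have h4 := hU _ (hT.map (MulAut.conj n).toMonoidHom) (n * u * n⁻¹) ⟨u, huT, rfl⟩ h3
      (by simpa [mul_inv_eq_one] using hu1)
    refine noT (n * a * n⁻¹) (h4 ⟨a, haT, rfl⟩) ?_
    rw [← hb']
    simp only [map_mul, map_inv, show φ y = 1 from hy, mul_one]
  have hk : ¬ p ∣ Nat.card φ.ker := QB.not_dvd_card hap fun u hu hup hc => by
    refine hker u hu ?_
    have hpg : IsPGroup p (zpowers u ⊔ zpowers a : Subgroup H) :=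
      IsPGroup.to_sup_of_normal_left' (IsElementaryAbelian.zpowers hup).isPGroup
        (IsElementaryAbelian.zpowers hap).isPGroup (by
          rw [zpowers_le]
          exact centralizer_le_normalizer _ (by
            rw [mem_centralizer_iff]
            rintro _ ⟨n, rfl⟩
            exact (hc.zpow_left n).eq))
    exact hU _ hpg a (mem_sup_right (mem_zpowers a)) haT ha1 (mem_sup_left (mem_zpowers u))
  refine ⟨w₀, fun h => noT _ h hb', ?_⟩
  generalize w₀ * a * w₀⁻¹ = b' at hb'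
  set κ := (a * b' ^ 2) ^ 2 with hκ
  have hφκ : φ κ * φ a = φ a * φ κ := by
    rw [hκ, map_pow, map_mul, map_pow, h1, hb', slLo_pow]
    have := QB.sq_slUp_slLo (K := K)
    rwa [show (-2 : K) = ((2 : ℕ) : K) * -1 by push_cast; ring] at this
  have hφ' : φ (κ * a * κ⁻¹ * a⁻¹) = 1 := by
    rw [map_mul, map_mul, map_mul, hφκ, map_inv, map_inv, mul_inv_cancel_right, mul_inv_cancel]
  have hsol : IsPSolvable p (zpowers a ⊔ φ.ker : Subgroup H) :=
    IsPSolvable.sup_of_le_normalizer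
      (isPSolvable_of_isPGroup (IsElementaryAbelian.zpowers hap).isPGroup)
      (isPSolvable_of_not_dvd hk) (by rw [normalizer_eq_top]; exact le_top)
  have hle : closure ({a, κ * a * κ⁻¹} : Set H) ≤ zpowers a ⊔ φ.ker := by
    rw [closure_le]
    rintro x (rfl | rfl)
    · exact mem_sup_left (mem_zpowers _)
    · have e : κ * a * κ⁻¹ = (κ * a * κ⁻¹ * a⁻¹) * a := by group
      rw [e]
      exact mul_mem (mem_sup_right hφ') (mem_sup_left (mem_zpowers _))
  have hpg : IsPGroup p (closure ({a, κ * a * κ⁻¹} : Set H)) := by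
    by_contra hn
    exact not_involves_sl2_of_isPSolvable hp (hsol.of_le hle)
      (involves_sl2_closure_of_quadratic hp2 ρ hρ ha (quadratic_conj ρ ha κ) hn)
  have ha' : κ * a * κ⁻¹ ∈ T :=
    hU _ hpg a (subset_closure (by simp)) haT ha1 (subset_closure (by simp))
  have hone := hker _ hφ' (mul_mem ha' (inv_mem haT))
  rw [mul_inv_eq_one, mul_inv_eq_iff_eq_mul] at hone
  exact hone

end TorA

theorem tor_a (hp : 5 ≤ p) (ρ : Representation (ZMod p) H V) (hρ : Function.Injective ρ)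
    (T : Sylow p H)
    (hTI : ∀ h : H, ∀ x ∈ (T : Subgroup H), x ≠ 1 → h * x * h⁻¹ ∈ (T : Subgroup H) →
      h ∈ normalizer ((T : Subgroup H) : Set H))
    {a g : H} (haT : a ∈ (T : Subgroup H)) (ha1 : a ≠ 1) (ha : (ρ a - 1) * (ρ a - 1) = 0)
    (hg : g ∉ normalizer ((T : Subgroup H) : Set H)) :
    ∃ w₀ : H, w₀ * a * w₀⁻¹ ∉ (T : Subgroup H) ∧
      Commute ((a * (w₀ * a * w₀⁻¹) ^ 2) ^ 2) a := by
  have hU : ∀ U : Subgroup H, IsPGroup p U → ∀ x ∈ U, x ∈ (T : Subgroup H) → x ≠ 1 →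
      U ≤ (T : Subgroup H) := by
    intro U hU x hxU hxT hx1
    obtain ⟨Q, hQ⟩ := hU.exists_le_sylow
    obtain ⟨h, rfl⟩ := MulAction.exists_smul_eq H Q T
    have hm : ∀ y ∈ U, h * y * h⁻¹ ∈ ((h • Q : Sylow p H) : Subgroup H) := fun y hy =>
      ⟨y, hQ hy, rfl⟩
    have hn := hTI h x hxT hx1 (hm x hxU)
    exact fun y hy => (mem_normalizer_iff.1 hn y).2 (hm y hy)
  let D := closure ({a, g * a * g⁻¹} : Set H)
  have hD : ¬ IsPGroup p D := fun h =>
    hg (hTI g a haT ha1 (hU D h a (subset_closure (by simp)) haT ha1 (subset_closure (by simp))))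
  obtain ⟨w₀, h1, h2⟩ := TorA.core hp (ρ.comp D.subtype) (hρ.comp Subtype.val_injective)
    (T := (T : Subgroup H).comap D.subtype) (T.2.comap_of_injective _ Subtype.val_injective)
    (fun U hU' x hxU hxT hx1 => map_le_iff_le_comap.1
      (hU _ (hU'.map D.subtype) x ⟨x, hxU, rfl⟩ hxT fun e => hx1 (Subtype.ext e)))
    (closure_pair_subtype_eq_top a (g * a * g⁻¹)) haT ha (quadratic_conj ρ ha g) hD
  exact ⟨w₀, h1, h2.map D.subtype⟩

end Cfsg.Agent.MxD
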