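import Mathlib
import Cfsg.Agent.MxD.Defs
import Cfsg.Agent.MxE.QA

/-! The torus of a quadratic pair. -/

set_option autoImplicit false

namespace Cfsg.Agent.MxD

open Subgroup Cfsg.Agent.GT Cfsg.Agent.FG.MxC Cfsg.Agent.Fus Cfsg.Agent.Fus.R3 Cfsg.Agent.MxE
open Cfsg.FusionSystem hiding inv_mem
open scoped commutatorElement

universe u

namespace TorB

section abs

variable {A R : Type*} [CommRing A] [Ring R] [Algebra A R] {θ φ : R}

/-- the relations of `e₁₂, -e₂₁` -/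
structure Rel (θ φ : R) : Prop where
  aa : θ * θ = 0
  bb : φ * φ = 0
  aba : θ * φ * θ = -θ
  bab : φ * θ * φ = -φ

namespace Rel

variable (h : Rel θ φ)
include h

theorem aa' (x : R) : θ * (θ * x) = 0 := by rw [← mul_assoc, h.aa, zero_mul]

theorem bb' (x : R) : φ * (φ * x) = 0 := by rw [← mul_assoc, h.bb, zero_mul]

theorem aba₁ : θ * (φ * θ) = -θ := by rw [← mul_assoc, h.aba]

theorem bab₁ : φ * (θ * φ) = -φ := by rw [← mul_assoc, h.bab]

theorem aba' (x : R) : θ * (φ * (θ * x)) = -(θ * x) := by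
  rw [← mul_assoc, ← mul_assoc, h.aba, neg_mul]

theorem bab' (x : R) : φ * (θ * (φ * x)) = -(φ * x) := by
  rw [← mul_assoc, ← mul_assoc, h.bab, neg_mul]

theorem w_eq {l m : A} (hm : m * l = 1) :
    (1 + l • θ) * (1 + m • φ) * (1 + l • θ) = 1 + l • θ + m • φ + θ * φ + φ * θ := by
  simp only [mul_add, add_mul, smul_mul_assoc, mul_smul_comm, mul_assoc, h.aa, h.aba₁, mul_one,
    one_mul, smul_zero]
  linear_combination (norm := module) hm • (θ * φ) + hm • (φ * θ) - l • hm • θ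

theorem t_mul (l m : A) :
    (1 + (1 - l) • (θ * φ) + (1 - m) • (φ * θ)) * (1 + θ + φ + θ * φ + φ * θ) =
      1 + l • θ + m • φ + θ * φ + φ * θ := by
  simp only [mul_add, add_mul, smul_mul_assoc, mul_assoc, h.aa, h.bb, h.aa', h.bb', h.aba₁, h.bab₁,
    mul_one, one_mul, mul_zero, smul_zero, mul_neg]
  module

theorem t_a (l m : A) : (1 + (1 - l) • (θ * φ) + (1 - m) • (φ * θ)) * θ = l • θ := by
  simp only [add_mul, smul_mul_assoc, mul_assoc, h.aa, h.aba₁, one_mul, mul_zero, smul_zero]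
  module

theorem a_t (l m : A) : θ * (1 + (1 - l) • (θ * φ) + (1 - m) • (φ * θ)) = m • θ := by
  simp only [mul_add, mul_smul_comm, h.aa', h.aba₁, mul_one, smul_zero]
  module

theorem t_b (l m : A) : (1 + (1 - l) • (θ * φ) + (1 - m) • (φ * θ)) * φ = m • φ := by
  simp only [add_mul, smul_mul_assoc, mul_assoc, h.bb, h.bab₁, one_mul, mul_zero, smul_zero]
  module

theorem w_a : (1 + θ + φ + θ * φ + φ * θ) * θ = φ * θ := by
  simp only [add_mul, mul_assoc, h.aa, h.aba₁, one_mul, mul_zero]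
  abel

theorem b_w : φ * (1 + θ + φ + θ * φ + φ * θ) = φ * θ := by
  simp only [mul_add, h.bb, h.bb', h.bab₁, mul_one]
  abel

end Rel

end abs

end TorB

variable {p : ℕ} [Fact p.Prime] {H : Type*} [Group H] [Finite H] {V : Type*} [AddCommGroup V]
  [Module (ZMod p) V] [Finite V]

namespace TorB

omit [Finite H] [Finite V] in
theorem rho_pow (ρ : Representation (ZMod p) H V) {a : H} (ha : (ρ a - 1) * (ρ a - 1) = 0)
    (n : ℕ) : ρ (a ^ n) = 1 + (n : ZMod p) • (ρ a - 1) := by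
  induction n with
  | zero => simp
  | succ n ih =>
    have e : ρ a = 1 + (ρ a - 1) := by abel
    rw [pow_succ, map_mul, ih]
    generalize ρ a - 1 = θ at ha e ⊢
    rw [e]
    simp only [mul_add, add_mul, mul_one, one_mul, smul_mul_assoc, ha, smul_zero]
    push_cast
    module

omit [Finite H] [Finite V] in
theorem alg (ρ : Representation (ZMod p) H V) {a b : H}
    (ha : (ρ a - 1) * (ρ a - 1) = 0) (hb : (ρ b - 1) * (ρ b - 1) = 0)
    (h1 : (ρ a - 1) * (ρ b - 1) * (ρ a - 1) = -(ρ a - 1))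
    (h2 : (ρ b - 1) * (ρ a - 1) * (ρ b - 1) = -(ρ b - 1)) {l m : ℕ} (hm : (m : ZMod p) * l = 1) :
    ρ (a * b * a * a * (a * b * a)⁻¹) = ρ b ∧
      Tor ρ a (a ^ l * b ^ m * a ^ l * (a * b * a)⁻¹) (a * b * a) l m := by
  have h : Rel (ρ a - 1) (ρ b - 1) := ⟨ha, hb, h1, h2⟩
  have pa := rho_pow ρ ha
  have pb := rho_pow ρ hb
  have ea : ρ a = 1 + (ρ a - 1) := by abel
  have eb : ρ b = 1 + (ρ b - 1) := by abel
  unfold Tor
  generalize ρ a - 1 = θ at h pa ea ⊢
  generalize ρ b - 1 = φ at h pb eb ⊢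
  have hw : ρ (a * b * a) = 1 + θ + φ + θ * φ + φ * θ := by
    have := h.w_eq (A := ZMod p) (l := 1) (m := 1) (one_mul 1)
    simp only [one_smul] at this
    rw [map_mul, map_mul, ea, eb, this]
  have hinv : ∀ x : H, ρ x * ρ x⁻¹ = 1 := fun x => by rw [← map_mul, mul_inv_cancel, map_one]
  have ht : ρ (a ^ l * b ^ m * a ^ l * (a * b * a)⁻¹) =
      1 + (1 - (l : ZMod p)) • (θ * φ) + (1 - (m : ZMod p)) • (φ * θ) := by
    rw [map_mul, map_mul, map_mul, pa, pb, h.w_eq hm, ← h.t_mul, ← hw, mul_assoc, hinv, mul_one]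
  generalize a ^ l * b ^ m * a ^ l * (a * b * a)⁻¹ = τ at ht ⊢
  generalize a * b * a = w at hw ⊢
  refine ⟨?_, ?_, fun v hv => ?_⟩
  · have : ρ w * ρ a = ρ b * ρ w := by
      rw [ea, eb, mul_add, add_mul, mul_one, one_mul, hw, h.w_a, h.b_w]
    rw [map_mul, map_mul, this, mul_assoc, hinv, mul_one]
  · have : ρ τ * ρ a = ρ (a ^ l ^ 2) * ρ τ := by
      rw [pa, ea, mul_add, add_mul, mul_one, one_mul, smul_mul_assoc, ht, h.t_a, h.a_t, smul_smul]
      congr 2
      push_cast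
      linear_combination (-(l : ZMod p)) * hm
    rw [map_mul, map_mul, this, mul_assoc, hinv, mul_one]
  · have hv' : θ v = 0 := by
      rw [ea] at hv
      simpa using hv
    have a0 : θ (v + θ (φ v)) = 0 := by
      rw [map_add, hv', ← Module.End.mul_apply, h.aa, LinearMap.zero_apply, add_zero]
    have b0 : φ (v + θ (φ v)) = 0 := by
      rw [map_add, ← Module.End.mul_apply, ← Module.End.mul_apply, h.bab, LinearMap.neg_apply,
        add_neg_cancel]
    refine ⟨v + θ (φ v), θ (-φ v), by simp, ?_, ?_, ⟨_, rfl⟩, ?_, ?_⟩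
    · generalize v + θ (φ v) = x at a0 b0
      simp [ht, a0, b0]
    · generalize v + θ (φ v) = x at a0 b0
      simp [hw, a0, b0]
    · rw [← Module.End.mul_apply, ht, h.t_a, LinearMap.smul_apply]
    · rw [← Module.End.mul_apply (ρ w), hw, h.w_a, Module.End.mul_apply, ← Module.End.mul_apply, ht,
        h.t_b, LinearMap.smul_apply]

omit [Finite H] [Finite V] in
open QA in
theorem zeta (hp : 5 ≤ p) (ρ : Representation (ZMod p) H V) {a b : H}
    (ha : (ρ a - 1) * (ρ a - 1) = 0) (hb : (ρ b - 1) * (ρ b - 1) = 0)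
    (hc : Commute ((a * b ^ 2) ^ 2) a) : qc ρ a b ^ 2 * qc ρ a b = -qc ρ a b ^ 2 := by
  have pp : p.Prime := Fact.out
  have h := qp ha hb
  obtain ⟨i, hi⟩ := exists_inv_cast (p_eq (ρ := ρ) (z := a) (z' := b)) (n := 2) fun e => by
    have := Nat.le_of_dvd two_pos ((ZMod.natCast_eq_zero_iff 2 p).1 e)
    omega
  have e1 : (1 + eb a hb) ^ 2 = 1 + ((2 : ℕ) : Subring.center (RR ρ a b)) • eb a hb := by
    simpa using pow_lin (A := Subring.center (RR ρ a b)) h.bb 1 1 1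
  have e : ρ ((a * b ^ 2) ^ 2) = (RR ρ a b).subtype
      (((1 + ea b ha) * (1 + ((2 : ℕ) : Subring.center (RR ρ a b)) • eb a hb)) ^ 2) := by
    rw [← e1, map_pow, map_mul, map_pow, map_pow, map_mul, map_pow, ← rz, ← rz']
  have k1 := h.core₂ hi ((RR ρ a b).subtype_injective (by
    rw [map_mul, map_mul, ← e]
    change ρ _ * (ρ a - 1) = (ρ a - 1) * ρ _
    rw [mul_sub, sub_mul, ← map_mul, ← map_mul, hc.eq, mul_one, one_mul]))
  have k2 : eγ ρ a b ^ 2 * eγ ρ a b = -eγ ρ a b ^ 2 := by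
    push_cast at hi k1
    generalize eγ ρ a b = γ at k1 ⊢
    linear_combination i * k1 - (γ ^ 2 + γ ^ 3) * hi
  exact congrArg (fun x => x.1.1) k2

omit [Finite H] [Finite V] in
/-- the part of `ρ` on the image of a central idempotent -/
def part (ρ : Representation (ZMod p) H V) (e : Module.End (ZMod p) V) (he : e * e = e)
    (hc : ∀ d, Commute (ρ d) e) : Representation (ZMod p) H V where
  toFun d := 1 + e * (ρ d - 1)
  map_one' := by rw [map_one, sub_self, mul_zero, add_zero]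
  map_mul' x y := by
    have : e * (ρ x - 1) * (e * (ρ y - 1)) = e * ((ρ x - 1) * (ρ y - 1)) := by
      rw [mul_assoc, ← mul_assoc _ e, ((hc x).sub_left (Commute.one_left e)).eq, mul_assoc,
        ← mul_assoc e e, he]
    rw [map_mul, add_mul, one_mul, mul_add, mul_one, this]
    noncomm_ring

end TorB

theorem tor_b (hp : 5 ≤ p) (ρ : Representation (ZMod p) H V) (hρ : Function.Injective ρ)
    {a b : H} (hgen : closure {a, b} = ⊤) (ha : (ρ a - 1) * (ρ a - 1) = 0)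
    (hb : (ρ b - 1) * (ρ b - 1) = 0) (hO : pCore p H = ⊥) (hc : Commute ((a * b ^ 2) ^ 2) a) :
    (ρ a - 1) * (ρ b - 1) * (ρ a - 1) = -(ρ a - 1) ∧
      (ρ b - 1) * (ρ a - 1) * (ρ b - 1) = -(ρ b - 1) := by
  have pp : p.Prime := Fact.out
  have hm : ∀ d : H, d ∈ closure ({a, b} : Set H) := fun d => hgen ▸ mem_top d
  have hz := TorB.zeta hp ρ ha hb hc
  have cz : ∀ d, Commute (ρ d) (qc ρ a b) := fun d => commute_qc ha hb (hm d)
  obtain ⟨j, hj⟩ := pow_fix ha hb 2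
  have za : (ρ a - 1) * (ρ b - 1) * (ρ a - 1) = qc ρ a b * (ρ a - 1) := by
    rw [qc, add_mul, mul_assoc (ρ b - 1), ha, mul_zero, add_zero]
  have zb : (ρ b - 1) * (ρ a - 1) * (ρ b - 1) = qc ρ a b * (ρ b - 1) := by
    rw [qc, add_mul, mul_assoc (ρ a - 1), hb, mul_zero, zero_add]
  have he : qc ρ a b ^ 2 * qc ρ a b ^ 2 = qc ρ a b ^ 2 := by
    conv_lhs => rw [sq (qc ρ a b), ← mul_assoc, ← sq, hz, neg_mul, hz, neg_neg]
  have ce : ∀ d, Commute (ρ d) (qc ρ a b ^ 2) := fun d => (cz d).pow_right 2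
  have cze : Commute (qc ρ a b) (qc ρ a b ^ 2) := Commute.self_pow _ _
  generalize qc ρ a b ^ 2 = e at hz hj he ce cze
  generalize qc ρ a b = ζ at hz cz za zb cze
  have ce' : ∀ d, Commute (ρ d - 1) e := fun d => (ce d).sub_left (Commute.one_left e)
  have hj' : ∀ d, ρ (d ^ p ^ j) * (1 - e) = 1 - e := fun d => LinearMap.ext fun v =>
    hj d (hm d) _ (by rw [← Module.End.mul_apply, mul_sub, mul_one, he, sub_self,
      LinearMap.zero_apply])
  let σ := TorB.part ρ e he ce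
  have hσ : ∀ d, σ d - 1 = e * (ρ d - 1) := fun d => add_sub_cancel_left _ _
  have hσi : Function.Injective σ := by
    rw [← MonoidHom.ker_eq_bot_iff, eq_bot_iff, ← hO]
    refine le_pCore fun d => ⟨j, Subtype.ext (hρ ?_)⟩
    have h1 := hσ (d ^ p ^ j)
    rw [show σ (d ^ p ^ j) = 1 from pow_mem d.2 _, sub_self, mul_sub, mul_one, ← (ce _).eq] at h1
    have h2 := hj' d
    rw [mul_sub, mul_one, sub_eq_zero.1 h1.symm, sub_left_inj] at h2
    exact h2.trans (map_one ρ).symm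
  have e2 : ∀ x y : H, e * (ρ x - 1) * (e * (ρ y - 1)) = e * ((ρ x - 1) * (ρ y - 1)) :=
    fun x y => by rw [mul_assoc, ← mul_assoc _ e, (ce' x).eq, mul_assoc, ← mul_assoc e e, he]
  have e3 : ∀ x y : H, e * (ρ x - 1) * (e * (ρ y - 1)) * (e * (ρ x - 1)) =
      e * ((ρ x - 1) * (ρ y - 1) * (ρ x - 1)) := fun x y => by
    rw [mul_assoc, e2, mul_assoc, ← mul_assoc _ e, (ce' x).eq, mul_assoc, ← mul_assoc e e, he,
      mul_assoc]
  have h20 : (2 : ZMod p) ≠ 0 := fun h => by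
    have := Nat.le_of_dvd two_pos ((ZMod.natCast_eq_zero_iff 2 p).1 (by exact_mod_cast h))
    omega
  have h30 : (3 : ZMod p) ≠ 0 := fun h => by
    have := Nat.le_of_dvd three_pos ((ZMod.natCast_eq_zero_iff 3 p).1 (by exact_mod_cast h))
    omega
  obtain ⟨t1, t2, -⟩ := TorB.alg σ (a := a) (b := b) (by rw [hσ, e2, ha, mul_zero])
    (by rw [hσ, e2, hb, mul_zero]) (by rw [hσ, hσ, e3, za, ← mul_assoc, hz, neg_mul])
    (by rw [hσ, hσ, e3, zb, ← mul_assoc, hz, neg_mul]) (l := 2) (m := (2 : ZMod p)⁻¹.val)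
    (by rw [ZMod.natCast_zmod_val]; exact_mod_cast inv_mul_cancel₀ h20)
  replace t1 := hσi t1
  replace t2 := hσi t2
  generalize a ^ 2 * b ^ (2 : ZMod p)⁻¹.val * a ^ 2 * (a * b * a)⁻¹ = τ at t2
  generalize a * b * a = w at t1
  have t3 : ∀ n : ℕ, τ ^ n * a = a ^ (2 ^ 2) ^ n * τ ^ n := fun n => by
    induction n with
    | zero => simp
    | succ n ih =>
      rw [pow_succ' τ, mul_assoc, ih, pow_succ' (2 ^ 2), pow_mul, ← t2, conj_pow]
      group
  have fa : (ρ a - 1) * (1 - e) = 0 := by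
    have h1 := congrArg ρ (t3 (p ^ j))
    rw [map_mul, map_mul, TorB.rho_pow ρ ha] at h1
    have h2 : ρ a * (1 - e) = (1 - e) * ρ a := ((Commute.one_right _).sub_right (ce a)).eq
    have h3 := congrArg (· * (1 - e)) h1
    simp only [mul_assoc] at h3
    rw [h2, ← mul_assoc, hj', ← h2, Nat.cast_pow, ZMod.pow_card_pow] at h3
    have h4 : (3 : ZMod p) • ((ρ a - 1) * (1 - e)) = 0 := by
      rw [← sub_eq_zero.2 h3.symm]
      simp only [add_mul, sub_mul, smul_mul_assoc, one_mul]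
      push_cast
      module
    exact (smul_eq_zero.1 h4).resolve_left h30
  have fb : (ρ b - 1) * (1 - e) = 0 := by
    have h1 : ρ b - 1 = ρ w * (ρ a - 1) * ρ w⁻¹ := by
      rw [← t1, mul_sub, sub_mul, mul_one, ← map_mul, ← map_mul, ← map_mul, mul_inv_cancel, map_one]
    rw [h1, mul_assoc, ((Commute.one_right _).sub_right (ce w⁻¹)).eq, ← mul_assoc, mul_assoc (ρ w),
      fa, mul_zero, zero_mul]
  have key : ∀ x, (ρ x - 1) * (1 - e) = 0 → ζ * (ρ x - 1) = -(ρ x - 1) := fun x hx => by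
    rw [mul_sub, mul_one, sub_eq_zero, (ce' x).eq] at hx
    rw [hx, ← mul_assoc, cze.eq, hz, neg_mul]
  exact ⟨za.trans (key a fa), zb.trans (key b fb)⟩

omit [Finite H] [Finite V] in
theorem tor_alg (ρ : Representation (ZMod p) H V) {a b : H}
    (ha : (ρ a - 1) * (ρ a - 1) = 0) (hb : (ρ b - 1) * (ρ b - 1) = 0)
    (h1 : (ρ a - 1) * (ρ b - 1) * (ρ a - 1) = -(ρ a - 1))
    (h2 : (ρ b - 1) * (ρ a - 1) * (ρ b - 1) = -(ρ b - 1)) {l m : ℕ} (hm : (m : ZMod p) * l = 1) :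
    ρ (a * b * a * a * (a * b * a)⁻¹) = ρ b ∧
      Tor ρ a (a ^ l * b ^ m * a ^ l * (a * b * a)⁻¹) (a * b * a) l m :=
  TorB.alg ρ ha hb h1 h2 hm

end Cfsg.Agent.MxD
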