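import Mathlib
import Cfsg.Agent.MxD.Defs
import Cfsg.Agent.MxD.TorA
import Cfsg.Agent.MxD.TorB

/-! The torus element, general form. -/

set_option autoImplicit false

namespace Cfsg.Agent.MxD

open Subgroup Cfsg.Agent.GT Cfsg.Agent.FG.MxC Cfsg.Agent.Fus Cfsg.Agent.Fus.R3 Cfsg.Agent.MxE
open Cfsg.FusionSystem hiding inv_mem
open scoped commutatorElement

universe u

variable {p : ℕ} [Fact p.Prime] {H : Type*} [Group H] [Finite H] {V : Type*} [AddCommGroup V]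
  [Module (ZMod p) V] [Finite V]

namespace TorC

theorem faithful (hp : 5 ≤ p) (ρ : Representation (ZMod p) H V) (hρ : Function.Injective ρ)
    (T : Sylow p H)
    (hTI : ∀ h : H, ∀ x ∈ (T : Subgroup H), x ≠ 1 → h * x * h⁻¹ ∈ (T : Subgroup H) →
      h ∈ normalizer ((T : Subgroup H) : Set H))
    {a g : H} (haT : a ∈ (T : Subgroup H)) (ha1 : a ≠ 1) (ha : (ρ a - 1) * (ρ a - 1) = 0)
    (hg : g ∉ normalizer ((T : Subgroup H) : Set H)) :
    ∃ w₀ : H, w₀ * a * w₀⁻¹ ∉ (T : Subgroup H) ∧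
      (ρ a - 1) * (ρ (w₀ * a * w₀⁻¹) - 1) * (ρ a - 1) = -(ρ a - 1) ∧
      (ρ (w₀ * a * w₀⁻¹) - 1) * (ρ a - 1) * (ρ (w₀ * a * w₀⁻¹) - 1) =
        -(ρ (w₀ * a * w₀⁻¹) - 1) := by
  have hU : ∀ U : Subgroup H, IsPGroup p U → ∀ x ∈ U, x ∈ (T : Subgroup H) → x ≠ 1 →
      U ≤ (T : Subgroup H) := by
    intro U hU x hxU hxT hx1
    obtain ⟨Q, hQ⟩ := hU.exists_le_sylow
    obtain ⟨h, rfl⟩ := MulAction.exists_smul_eq H Q T
    have hm : ∀ y ∈ U, h * y * h⁻¹ ∈ ((h • Q : Sylow p H) : Subgroup H) := fun y hy =>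
      ⟨y, hQ hy, rfl⟩
    have hn := hTI h x hxT hx1 (hm x hxU)
    exact fun y hy => (mem_normalizer_iff.1 hn y).2 (hm y hy)
  obtain ⟨w₀, h1, h2⟩ := tor_a hp ρ hρ T hTI haT ha1 ha hg
  refine ⟨w₀, h1, ?_⟩
  have hb := quadratic_conj ρ ha w₀
  generalize w₀ * a * w₀⁻¹ = b at h1 h2 hb
  let L := closure ({a, b} : Set H)
  have haL : a ∈ L := subset_closure (by simp)
  have hbL : b ∈ L := subset_closure (by simp)
  have hpg : ∀ x : L, (x : H) ^ p = 1 →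
      IsPGroup p ((pCore p L ⊔ zpowers x : Subgroup L).map L.subtype) := fun x hx =>
    (IsPGroup.to_sup_of_normal_left (isPGroup_pCore p)
      (IsElementaryAbelian.zpowers (Subtype.ext hx : x ^ p = 1)).isPGroup).map L.subtype
  have hO : pCore p L = ⊥ := by
    rw [eq_bot_iff]
    intro x hx
    by_contra hx1
    have k1 := hU _ (hpg ⟨a, haL⟩ (QB.pow_p_eq_one ρ hρ ha)) a
      ⟨_, mem_sup_right (mem_zpowers _), rfl⟩ haT ha1 ⟨x, mem_sup_left hx, rfl⟩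
    exact h1 (hU _ (hpg ⟨b, hbL⟩ (QB.pow_p_eq_one ρ hρ hb)) x ⟨x, mem_sup_left hx, rfl⟩ k1
      (fun e => hx1 (mem_bot.2 (Subtype.ext e))) ⟨_, mem_sup_right (mem_zpowers _), rfl⟩)
  exact tor_b hp (ρ.comp L.subtype) (hρ.comp Subtype.val_injective)
    (closure_pair_subtype_eq_top a b) ha hb hO (Subtype.ext h2.eq)

end TorC

theorem torus (hp : 5 ≤ p) (ρ : Representation (ZMod p) H V) {T M : Subgroup H}
    (hT : IsPGroup p T) (hi : ¬ p ∣ T.index) (hTM : T ≤ M) (hM : M ≤ normalizer (T : Set H))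
    (hk : ∀ h, ρ h = 1 → h ∈ M)
    (hSE : ∀ h : H, ∀ x ∈ T, ρ x ≠ 1 → h * x * h⁻¹ ∈ M → h ∈ M)
    {a g : H} (haT : a ∈ T) (ha1 : ρ a ≠ 1) (ha : (ρ a - 1) * (ρ a - 1) = 0) (hg : g ∉ M)
    {l m : ℕ} (hm : (m : ZMod p) * l = 1) : ∃ τ ∈ M, ∃ w ∉ M, Tor ρ a τ w l m := by
  let N : Subgroup H := MonoidHom.ker ρ
  let π : H →* H ⧸ N := QuotientGroup.mk' N
  let σ : Representation (ZMod p) (H ⧸ N) V := QuotientGroup.lift N ρ le_rfl
  have hπ : Function.Surjective π := QuotientGroup.mk'_surjective N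
  have hσπ : ∀ x, σ (π x) = ρ x := fun x => rfl
  have hσ : Function.Injective σ := by
    rw [injective_iff_map_eq_one]
    intro x hx
    obtain ⟨x, rfl⟩ := hπ x
    exact (QuotientGroup.eq_one_iff x).2 hx
  have hMe : ∀ x y, ρ x = ρ y → y ∈ M → x ∈ M := fun x y e hy => by
    have : x * y⁻¹ ∈ M := hk _ (by rw [map_mul, e, ← map_mul, mul_inv_cancel, map_one])
    simpa using mul_mem this hy
  have hMT : ∀ x, π x ∈ T.map π → x ∈ M := fun x ⟨y, hy, e⟩ =>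
    hMe x y (by rw [← hσπ, ← hσπ, e]) (hTM hy)
  let Tb : Sylow p (H ⧸ N) := (hT.map π).toSylow fun h => hi (h.trans (T.index_map_dvd hπ))
  have hTb : (Tb : Subgroup (H ⧸ N)) = T.map π := rfl
  obtain ⟨w₀, h1, h2, h3⟩ := TorC.faithful hp σ hσ Tb (a := π a) (g := π g)
    (by
      rintro h _ ⟨x, hx, rfl⟩ hx1 hh
      obtain ⟨h, rfl⟩ := hπ h
      rw [← map_inv, ← map_mul, ← map_mul] at hh
      have := hSE h x hx (fun e => hx1 (hσ (by rw [hσπ, e, map_one]))) (hMT _ hh)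
      exact T.le_normalizer_map π ⟨h, hM this, rfl⟩)
    ⟨a, haT, rfl⟩ (fun e => ha1 (by rw [← hσπ, e, map_one])) ha
    (fun h => hg (hSE g a haT ha1 (hMT _ (by
      rw [map_mul, map_mul, map_inv]
      exact (mem_normalizer_iff.1 h _).1 ⟨a, haT, rfl⟩))))
  obtain ⟨w₀, rfl⟩ := hπ w₀
  rw [← map_inv, ← map_mul, ← map_mul] at h1 h2 h3
  obtain ⟨t1, t2⟩ := tor_alg ρ ha (quadratic_conj ρ ha w₀) h2 h3 hm
  refine ⟨_, hSE _ a haT ha1 (hMe _ _ t2.1 (hTM (pow_mem haT _))), _, fun hw => h1 ?_, t2⟩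
  exact ⟨_, (mem_normalizer_iff.1 (hM hw) a).1 haT, hσ t1⟩

end Cfsg.Agent.MxD
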