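import Mathlib
import Cfsg.Agent.MxD.Defs
import Cfsg.Agent.MxD.B0
import Cfsg.Agent.MxD.B1
import Cfsg.Agent.MxD.N1a
import Cfsg.Agent.MxD.TorC

/-! Non-exceptional case: the torus element. -/

set_option autoImplicit false

namespace Cfsg.Agent.MxD

open Subgroup Cfsg.Agent.GT Cfsg.Agent.FG.MxC Cfsg.Agent.Fus Cfsg.Agent.Fus.R3 Cfsg.Agent.MxE
open Cfsg.FusionSystem hiding inv_mem
open scoped commutatorElement

universe u

variable {G : Type u} [Group G] [Finite G] {p n : ℕ} [Fact p.Prime]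
  {F : FusionSystem (⊤ : Subgroup G)} {E : Subgroup G}

namespace N1b

theorem prim (p : ℕ) [Fact p.Prime] :
    ∃ l m : ℕ, orderOf (l : ZMod p) = p - 1 ∧ (m : ZMod p) * l = 1 := by
  obtain ⟨g, hg⟩ := IsCyclic.exists_ofOrder_eq_natCard (α := (ZMod p)ˣ)
  refine ⟨(g : ZMod p).val, ((g⁻¹ : (ZMod p)ˣ) : ZMod p).val, ?_, ?_⟩
  · rw [ZMod.natCast_zmod_val, orderOf_units, hg, Nat.card_eq_fintype_card, ZMod.card_units]
  · rw [ZMod.natCast_zmod_val, ZMod.natCast_zmod_val, Units.inv_mul]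

theorem inY (h : CB F p n E) {z : G} (hz : z ∈ center G) : InY p z :=
  ⟨h.lt_R.le (center_le_ess h.bad.1 hz), fun x _ => (mem_center_iff.1 hz x).symm,
    h.mc.pow_center hz⟩

theorem tor (h : CB F p n E) {U : Subgroup G} {y : G} (hU : IsElementaryAbelian p U)
    (hI : InvA (F.autGroup E) U) (hc : ∀ u ∈ U, ∀ x ∈ E, Commute u x)
    (hY : ∀ v, InY p v → v ∈ U) (hyE : y ∉ E) (hy : y ∈ normalizer (E : Set G))
    (hq : ∀ u ∈ U, Commute ⁅u, y⁆ y) {l m : ℕ} (hm : (m : ZMod p) * l = 1) :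
    ∃ τ w : F.autGroup E, τ.1 ∈ F.extAut E ∧ w.1 ∉ F.extAut E ∧
      Tor (autRep hU hI) ⟨cAut E y, F.cAut_mem_autGroup le_top ⟨trivial, hy⟩⟩ τ w l m := by
  have ess := h.b0_ess
  obtain ⟨g, hg, hM⟩ := ess.exists_not_mem
  obtain ⟨z, hz, z1⟩ := h.b0_z
  have hzU := hY z (inY h hz)
  have hT : IsPGroup p ((autInducedBy ⊤ E).subgroupOf (F.autGroup E)) :=
    (isPGroup_autInducedBy h.mc.pT E).comap_subtype
  obtain ⟨τ, hτ, w, hw, k⟩ := torus h.hp (autRep hU hI)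
    (M := (F.extAut E).subgroupOf (F.autGroup E)) hT
    ((h.bad.1.fullyAutomized h.sat h.mc.pT).not_dvd h.mc.pT) (comap_mono ess.autS_le)
    (fun α hα => mem_normalizer_iff.2 fun β => mem_normalizer_iff.1 (h.norm hα) β.1)
    (fun α e => h.fix_z hz z1 α α.2 (by
      have := val_autRep hU hI α (EAV.mk hU z hzU)
      rw [e] at this
      exact this.symm))
    (fun α β hβ h1 h2 => ess.mem_of_conj α α.2 β (ess.autS_le hβ)
      (let ⟨k, e⟩ := hT ⟨β, hβ⟩; ⟨k, congrArg (fun x => x.1.1) e⟩)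
      (fun hi => h1 (LinearMap.ext fun x => EAV.ext (by
        obtain ⟨e, he, hh⟩ := mem_inn_iff.1 hi
        rw [val_autRep, totA_apply _ (hI.le x.val_mem), hh]
        show e * x.val * e⁻¹ = x.val
        rw [← (hc _ x.val_mem e he).eq, mul_inv_cancel_right]))) h2)
    (a := ⟨cAut E y, F.cAut_mem_autGroup le_top ⟨trivial, hy⟩⟩) (g := ⟨g, hg⟩)
    (cAut_mem_autInducedBy ⟨trivial, hy⟩) (fun e => hyE (by
      have hu := hI.mem hg hzU
      have := val_autRep hU hI ⟨cAut E y, F.cAut_mem_autGroup le_top ⟨trivial, hy⟩⟩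
        (EAV.mk hU _ hu)
      rw [e] at this
      have e2 : totA g z = y * totA g z * y⁻¹ := this.trans (totA_cAut hy (hI.le hu))
      exact (h.cent hg hM (hI.le hzU) (hc z hzU) (h.fix_z hz z1) y).1
        (eq_mul_inv_iff_mul_eq.1 e2).symm))
    (LinearMap.ext fun x => EAV.ext (by
      have e : ∀ x : EAV hU, ((autRep hU hI ⟨cAut E y, F.cAut_mem_autGroup le_top ⟨trivial, hy⟩⟩ -
          1 : Module.End (ZMod p) (EAV hU)) x).val = ⁅x.val, y⁆⁻¹ := fun x => by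
        rw [LinearMap.sub_apply, EAV.val_sub, val_autRep, totA_cAut hy (hI.le x.val_mem),
          commutatorElement_inv, commutatorElement_def]
        rfl
      rw [Module.End.mul_apply, e, e, (hq _ x.val_mem).inv_left.commutator_eq, inv_one]
      rfl)) hM hm
  exact ⟨τ, w, hτ, hw, k⟩

end N1b

theorem CB.exists_nd (h : CB F p n E) : ∃ (t : G → G) (l m : ℕ), ND F p E t l m := by
  obtain ⟨U, y, hU, hI, hc, hY, hyR, hyE, hy, hq⟩ := h.exists_U
  obtain ⟨l, m, hl, hm⟩ := N1b.prim p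
  obtain ⟨τ, w, hτ, hw, k1, k2⟩ := N1b.tor h hU hI hc hY hyE hy hq hm
  obtain ⟨t, ht, et⟩ := h.mem_ext.1 hτ
  have hl1 : (l : ZMod p) - 1 ≠ 0 := fun e => by
    rw [sub_eq_zero.1 e, orderOf_one] at hl
    have := h.hp
    omega
  have tv : ∀ x : EAV hU, t x.val = (autRep hU hI τ x).val := fun x => et _ (hI.le x.val_mem)
  have av : ∀ x : EAV hU, (autRep hU hI
      ⟨cAut E y, F.cAut_mem_autGroup le_top ⟨trivial, hy⟩⟩ x).val = y * x.val * y⁻¹ := fun x =>
    totA_cAut hy (hI.le x.val_mem)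
  have dec := fun (v : G) (hv : InY p v) => k2 (EAV.mk hU v (hY v hv)) (EAV.ext (by
    rw [av, EAV.val_mk, ← (hv.2.1 y hyR).eq, mul_inv_cancel_right]))
  refine ⟨t, l, m, ht, hl, hm, fun x hx => et x hx ▸ totA_mem _ hx, fun v hv => ?_,
    fun k hk z hz z1 => ?_, y, hyR, hyE, ?_⟩
  · obtain ⟨v₀, v₁, e, h0, -, ⟨u, hu⟩, h1, -⟩ := dec v hv
    have ev : v = (v₀ + v₁).val := congrArg EAV.val e
    have e1 : t v * (v ^ l)⁻¹ = (v₀ - (l : ZMod p) • v₀).val := by
      rw [ev, tv, ← EAV.val_natCast_smul, ← EAV.val_sub, map_add, h0, h1, smul_add]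
      congr 1; abel
    have e2 : t v * v⁻¹ = v₁.val ^ l * v₁.val⁻¹ := by
      rw [ev, tv, ← EAV.val_natCast_smul, ← EAV.val_sub, ← EAV.val_sub, map_add, h0, h1]
      congr 1; abel
    have e3 : v₁.val ∈ ⁅C G 1, C G 1⁆ := by
      rw [← hu, LinearMap.sub_apply, EAV.val_sub, av]
      exact commutator_mem_commutator hyR (h.lt_R.le (hI.le u.val_mem))
    refine ⟨?_, e2 ▸ mul_mem (pow_mem e3 l) (inv_mem e3)⟩
    rw [e1, tv, map_sub, map_smul, h0]
  · obtain ⟨hkE, hkc, hfix⟩ := h.fix_k hk hz z1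
    have hzR := (N1b.inY h hz).1
    have hv : InY p (k z) := ⟨hk.maps z hzR, hkc, by
      rw [← hk.mor.mulOn.map_pow hzR, h.mc.pow_center hz, hk.mor.mulOn.map_one]⟩
    obtain ⟨v₀, v₁, e, h0, h0', -, h1, h2⟩ := dec _ hv
    have ev : k z = (v₀ + v₁).val := congrArg EAV.val e
    refine ⟨fun e1 => hw (hfix w w.2 ?_), fun e1 => ?_⟩
    · rw [ev, tv, map_add, h0, h1] at e1
      have e2 : ((l : ZMod p) - 1) • v₁ = 0 := by
        rw [sub_smul, one_smul, add_left_cancel (EAV.ext e1), sub_self]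
      rw [ev, (smul_eq_zero.1 e2).resolve_left hl1, add_zero, ← val_autRep hU hI, h0']
    · rw [ev, tv, map_add, h0, h1, ← EAV.val_natCast_smul, smul_add] at e1
      have e2 : ((l : ZMod p) - 1) • v₀ = 0 := by
        rw [sub_smul, one_smul, ← add_right_cancel (EAV.ext e1), sub_self]
      rw [(smul_eq_zero.1 e2).resolve_left hl1, zero_add] at ev
      refine ⟨(autRep hU hI w v₁).val, h.lt_R.le (hI.le (EAV.val_mem _)), hU.2 _ (EAV.val_mem _),
        by rw [tv, h2, EAV.val_natCast_smul], fun x => ?_⟩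
      rw [val_autRep, ← ev]
      exact h.cent w.2 hw hkE (fun x hx => hkc x (h.lt_R.le hx)) hfix x
  · obtain ⟨hn, e⟩ := ht.mor.aut_mul_cAut h.lt_R.le (fun x hx => (et x hx).symm) hyR hy
    obtain ⟨z, hz, z1⟩ := h.b0_z
    have hzU := hY z (N1b.inY h hz)
    have hu := hI.mem w.2 hzU
    have e1 := congrArg (fun f : Module.End (ZMod p) (EAV hU) => (f (EAV.mk hU _ hu)).val) k1
    simp only [val_autRep, EAV.val_mk, Subgroup.coe_mul, Subgroup.coe_inv, Subgroup.coe_pow] at e1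
    rw [e, ← (mulOn_cAut E).map_pow hy, totA_cAut hn (hI.le hu),
      totA_cAut (pow_mem hy _) (hI.le hu)] at e1
    have e2 : (y ^ l ^ 2)⁻¹ * t y ∈ E :=
      (h.cent w.2 hw (hI.le hzU) (hc z hzU) (h.fix_z hz z1) _).1 (by
        show _ * _ = _ * _
        calc (y ^ l ^ 2)⁻¹ * t y * totA w.1 z
            = (y ^ l ^ 2)⁻¹ * (t y * totA w.1 z * (t y)⁻¹) * t y := by group
          _ = _ := by rw [e1]; group)
    have := (mem_normalizer_iff.1 (pow_mem hy (l ^ 2)) _).1 e2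
    rwa [mul_inv_cancel_left] at this

end Cfsg.Agent.MxD
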