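import Mathlib
import Cfsg.Agent.MxD.Defs
import Cfsg.Agent.MxD.LvA
import Cfsg.Agent.MxD.LvB
import Cfsg.Agent.MxD.Faith

/-! Non-exceptional case: a small configuration. -/

set_option autoImplicit false

namespace Cfsg.Agent.MxD

open Subgroup Cfsg.Agent.GT Cfsg.Agent.FG.MxC Cfsg.Agent.Fus Cfsg.Agent.Fus.R3 Cfsg.Agent.MxE
open Cfsg.FusionSystem hiding inv_mem
open scoped commutatorElement

universe u

variable {G : Type u} [Group G] [Finite G] {p n : ℕ} [Fact p.Prime] {H : Type*} [Group H]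
  [Finite H] {ι : G →* H}

namespace N2c

/-- `Ω₁ Z(C G 1)` -/
def Y (p : ℕ) (G : Type u) [Group G] : Subgroup G where
  carrier := {v | InY p v}
  one_mem' := ⟨one_mem _, fun x _ => Commute.one_left x, one_pow p⟩
  mul_mem' := fun {a b} ha hb => ⟨mul_mem ha.1 hb.1, fun x hx => (ha.2.1 x hx).mul_left (hb.2.1 x hx), by
    rw [(ha.2.1 b hb.1).mul_pow, ha.2.2, hb.2.2, one_mul]⟩
  inv_mem' := fun {a} ha => ⟨inv_mem ha.1, fun x hx => (ha.2.1 x hx).inv_left, by rw [inv_pow, ha.2.2, inv_one]⟩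

theorem conj_commute {X : Type*} [Group X] {g v x : X} (h : Commute v (g⁻¹ * x * g)) : Commute (g * v * g⁻¹) x := by
  have : g * v * g⁻¹ * x = g * (v * (g⁻¹ * x * g)) * g⁻¹ := by group
  rw [Commute, SemiconjBy, this, h.eq]
  group

instance Y_normal (p : ℕ) (G : Type u) [Group G] : (Y p G).Normal :=
  ⟨fun v hv g => ⟨Normal.conj_mem inferInstance v hv.1 g,
    fun x hx => conj_commute (hv.2.1 _ (Normal.conj_mem' inferInstance x hx g)), by
      rw [conj_pow, hv.2.2, mul_one, mul_inv_cancel]⟩⟩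

/-- the elements of `R` whose commutator with `b` lies in `K` -/
def S {X : Type*} [Group X] {R K : Subgroup X} (h : ∀ r ∈ R, ∀ k ∈ K, Commute k r) (b : X) : Subgroup X where
  carrier := {a | a ∈ R ∧ ⁅a, b⁆ ∈ K}
  one_mem' := ⟨one_mem _, by simp⟩
  mul_mem' := fun {a c} ha hc => ⟨mul_mem ha.1 hc.1, by
    rw [show ⁅a * c, b⁆ = a * ⁅c, b⁆ * a⁻¹ * ⁅a, b⁆ by simp only [commutatorElement_def]; group,
      ← (h a ha.1 _ hc.2).eq, mul_inv_cancel_right]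
    exact mul_mem hc.2 ha.2⟩
  inv_mem' := fun {a} ha => ⟨inv_mem ha.1, by
    rw [show ⁅a⁻¹, b⁆ = a⁻¹ * (⁅a, b⁆⁻¹ * a) by simp only [commutatorElement_def]; group,
      (h a ha.1 _ (inv_mem ha.2)).eq, inv_mul_cancel_left]
    exact inv_mem ha.2⟩

theorem der_le {X : Type*} [Group X] {R B : Subgroup X} {x0 x1 : X} (e : R = B ⊔ zpowers x1 ⊔ zpowers x0)
    (hB : ∀ y ∈ B, ∀ r ∈ R, Commute y r) (hc : ⁅x0, x1⁆ ∈ B) : ⁅R, R⁆ ≤ zpowers ⁅x0, x1⁆ := by
  have r0 : x0 ∈ R := e ▸ mem_sup_right (mem_zpowers x0)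
  have r1 : x1 ∈ R := e ▸ mem_sup_left (mem_sup_right (mem_zpowers x1))
  have hK : ∀ r ∈ R, ∀ k ∈ zpowers ⁅x0, x1⁆, Commute k r := by
    rintro r hr _ ⟨i, rfl⟩
    exact (hB _ hc r hr).zpow_left i
  have gen : ∀ b ∈ R, ⁅x1, b⁆ ∈ zpowers ⁅x0, x1⁆ → ⁅x0, b⁆ ∈ zpowers ⁅x0, x1⁆ →
      ∀ a ∈ R, ⁅a, b⁆ ∈ zpowers ⁅x0, x1⁆ := by
    intro b hb k1 k0 a ha
    have e' : B ⊔ zpowers x1 ⊔ zpowers x0 ≤ S hK b := by
      refine sup_le (sup_le (fun y hy => ⟨e ▸ mem_sup_left (mem_sup_left hy), ?_⟩) (zpowers_le.2 ⟨r1, k1⟩))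
        (zpowers_le.2 ⟨r0, k0⟩)
      rw [commutatorElement_eq_one_iff_commute.2 (hB y hy b hb)]
      exact one_mem _
    exact (e' (e ▸ ha)).2
  have inv : ∀ a b : X, ⁅a, b⁆ ∈ zpowers ⁅x0, x1⁆ → ⁅b, a⁆ ∈ zpowers ⁅x0, x1⁆ := fun a b k =>
    commutatorElement_inv a b ▸ inv_mem k
  have g0 := gen x0 r0 (inv _ _ (mem_zpowers _)) (by simp)
  have g1 := gen x1 r1 (by simp) (mem_zpowers _)
  exact commutator_le.2 fun a ha b hb => gen b hb (inv _ _ (g1 b hb)) (inv _ _ (g0 b hb)) a ha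

theorem der_le' (h : MC p G 3) (hY : ∀ x ∈ P G 2, InY p x) : Nat.card (⁅C G 1, C G 1⁆ : Subgroup G) ≤ p := by
  obtain ⟨x0, h0⟩ := h.exists_lv (j := 0) (by omega)
  obtain ⟨x1, h1⟩ := h.exists_lv (j := 1) (by omega)
  have e0 : P G 1 ⊔ zpowers x0 = C G 1 := h.sup_lv h0
  have e1 : P G 2 ⊔ zpowers x1 = P G 1 := h.sup_lv h1
  have hc : ⁅x0, x1⁆ ∈ P G 2 := cmP (a := 0) (b := 1) h0.1 h1.1
  have hle : ⁅C G 1, C G 1⁆ ≤ zpowers ⁅x0, x1⁆ :=
    der_le (B := P G 2) (by rw [e1, e0]) (fun y hy r hr => (hY y hy).2.1 r hr) hc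
  have hp := (Fact.out : p.Prime)
  refine (card_le_of_le hle).trans ?_
  rw [Nat.card_zpowers]
  exact orderOf_le_of_pow_eq_one hp.pos (hY _ hc).2.2

theorem der_eq (h : MC p G 3) (hna : ∃ x ∈ C G 1, ∃ y ∈ C G 1, ¬ Commute x y)
    (hY : ∀ x ∈ P G 2, InY p x) : ⁅C G 1, C G 1⁆ = P G 4 := by
  obtain ⟨j, hj, e⟩ := h.eq_P_of_normal (N := ⁅C G 1, C G 1⁆) (commutator_le_left _ _)
  have hp := (Fact.out : p.Prime)
  have c1 := der_le' h hY
  rw [e, h.cardP hj] at c1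
  have c3 : 3 + 2 - j ≤ 1 := (Nat.pow_le_pow_iff_right hp.one_lt).1 (c1.trans_eq (pow_one p).symm)
  have c4 : j ≠ 3 + 2 := by
    intro ej
    obtain ⟨x, hx, y, hy, hn⟩ := hna
    have := commutator_mem_commutator hx hy
    rw [e, ej, h.P_bot, mem_bot] at this
    exact hn (commutatorElement_eq_one_iff_commute.1 this)
  have c5 : j = 4 := by omega
  rw [e, c5]

end N2c

theorem Md.exists_Y (hM : Md p ι) (h : MC p G n) :
    ∃ a ≤ n + 1, (∀ v, v ∈ P G a ↔ InY p v) ∧ ((P G a).map ι).Normal := by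
  obtain ⟨a, ha, e⟩ := h.eq_P_of_normal (N := N2c.Y p G) fun v hv => hv.1
  refine ⟨a, ?_, fun v => by rw [← e]; rfl, ?_⟩
  · obtain ⟨x, hx⟩ := h.exists_lv (j := n + 1) le_rfl
    have hz : x ∈ center G := h.P_center ▸ hx.1
    have hx' : x ∈ N2c.Y p G :=
      ⟨P_anti (Nat.zero_le _) hx.1, fun y _ => (mem_center_iff.1 hz y).symm, h.pow_center hz⟩
    by_contra hc
    rw [e, show a = n + 1 + 1 by omega] at hx'
    exact hx.2 hx'
  · rw [← e]
    refine ⟨?_⟩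
    rintro _ ⟨v, hv, rfl⟩ g
    obtain ⟨v', hv', e'⟩ := hM.nR.conj_mem _ (mem_map_of_mem ι hv.1) g
    refine ⟨v', ⟨hv', fun x hx => hM.inj ?_, hM.inj ?_⟩, e'⟩
    · obtain ⟨x', hx', e2⟩ := hM.nR.conj_mem' _ (mem_map_of_mem ι hx) g
      rw [map_mul, map_mul, e']
      exact (N2c.conj_commute (e2 ▸ (hv.2.1 x' hx').map ι)).eq
    · rw [map_pow, e', conj_pow, ← map_pow, hv.2.2, map_one, mul_one, mul_inv_cancel]

theorem Md.five (hM : Md p ι) (h : MC p G 3) (hna : ∃ x ∈ C G 1, ∃ y ∈ C G 1, ¬ Commute x y)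
    (hY : ∀ x ∈ P G 2, InY p x) {τ : H} {t : G → G} (ht : ∀ x ∈ C G 1, ι (t x) = τ * ι x * τ⁻¹)
    (d2 : ∀ v, InY p v → t v * v⁻¹ ∈ ⁅C G 1, C G 1⁆) {z : G} (hz : z ∈ center G) : t z = z := by
  have hd := N2c.der_eq h hna hY
  obtain ⟨a, -, ea, na⟩ := hM.exists_Y h
  have a2 : a = 2 := by
    by_contra hne
    rcases Nat.lt_or_gt_of_ne hne with k | k
    · obtain ⟨x0, h0⟩ := h.exists_lv (j := 0) (by omega)
      have h1 : ∀ y ∈ P G 1, InY p y := fun y hy => (ea y).1 (P_anti (by omega) hy)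
      have c0 : P G 0 ≤ centralizer {x0} := by
        rw [← h.sup_lv h0]
        exact sup_le (fun y hy => mem_centralizer_singleton_iff.2 ((h1 y hy).2.1 x0 h0.1).eq)
          (zpowers_le.2 (mem_centralizer_singleton_iff.2 rfl))
      obtain ⟨x, hx, y, hy, hn⟩ := hna
      have c1 : P G 0 ≤ centralizer {y} := by
        rw [← h.sup_lv h0]
        exact sup_le (fun v hv => mem_centralizer_singleton_iff.2 ((h1 v hv).2.1 y hy).eq)
          (zpowers_le.2 (mem_centralizer_singleton_iff.2 (mem_centralizer_singleton_iff.1 (c0 hy)).symm))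
      exact hn (mem_centralizer_singleton_iff.1 (c1 hx))
    · obtain ⟨x, hx⟩ := h.exists_lv (j := 2) (by omega)
      exact hx.2 (P_anti (by omega) ((ea x).2 (hY x hx.1)))
  subst a2
  have nb : ((P G 4).map ι).Normal := by
    have := hM.nR
    rw [← hd, map_commutator]
    infer_instance
  have hτ : τ ∈ (C G 1).map ι := by
    refine hM.faithful h hna (a := 2) (b := 4) le_rfl (by omega) (Or.inl (by omega)) na nb
      (fun x hx r hr => ?_) fun x hx => ?_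
    · rw [commutatorElement_eq_one_iff_commute.2 ((hY x hx).2.1 r hr)]
      exact one_mem _
    · rw [← ht x (hY x hx).1, ← map_inv, ← map_mul]
      refine mem_map_of_mem ι ?_
      have := Normal.conj_mem' inferInstance _ (d2 x (hY x hx)) x
      rw [hd] at this
      rwa [show x⁻¹ * (t x * x⁻¹) * x = x⁻¹ * t x by group] at this
  obtain ⟨r, -, rfl⟩ := hτ
  have zR : z ∈ C G 1 := P_anti (Nat.zero_le _) (h.P_center ▸ hz : z ∈ P G (3 + 1))
  refine hM.inj ?_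
  rw [ht z zR, ← map_inv, ← map_mul, ← map_mul, mem_center_iff.1 hz r, mul_inv_cancel_right]

end Cfsg.Agent.MxD
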