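import Mathlib
import Cfsg.Agent.MxD.Defs

/-! Two projections, p dividing the order. -/

set_option autoImplicit false

namespace Cfsg.Agent.MxD

open Subgroup Cfsg.Agent.GT Cfsg.Agent.FG.MxC Cfsg.Agent.Fus Cfsg.Agent.Fus.R3 Cfsg.Agent.MxE
open Cfsg.FusionSystem hiding inv_mem
open scoped commutatorElement

universe u

variable {p : ℕ} [Fact p.Prime] {H : Type*} [Group H] [Finite H] {V : Type*} [AddCommGroup V]
  [Module (ZMod p) V] [Finite V]

namespace PairA

omit [Finite H] in
theorem basis (ρ : Representation (ZMod p) H V) (hρ : Function.Injective ρ)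
    (hd : Module.finrank (ZMod p) V = 2) {s : H} (hs : orderOf s = p) :
    ∃ x y : V, x ≠ 0 ∧ ρ s x = x ∧ (∀ k : ℕ, ρ (s ^ k) y = y + (k : ZMod p) • x) ∧
      ∀ w, ∃ a b : ZMod p, a • x + b • y = w := by
  have hp : p.Prime := Fact.out
  have : Nontrivial V := Module.nontrivial_of_finrank_pos (R := ZMod p) (by omega)
  have : CharP (Module.End (ZMod p) V) p := charP_of_injective_algebraMap (algebraMap (ZMod p) _).injective p
  have h1 : IsNilpotent (ρ s - 1) := ⟨p, by
    rw [sub_pow_char_of_commute p (Commute.one_right _), ← map_pow, orderOf_dvd_iff_pow_eq_one.1 hs.dvd, map_one,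
      one_pow, sub_self]⟩
  have h2 := LinearMap.aeval_self_charpoly (ρ s - 1)
  rw [h1.charpoly_eq_X_pow_finrank, hd, map_pow, Polynomial.aeval_X, pow_two] at h2
  have h3 : ρ s - 1 ≠ 0 := fun e => hp.ne_one (by
    rw [← hs, orderOf_eq_one_iff]
    exact hρ (by rw [map_one, sub_eq_zero.1 e]))
  obtain ⟨y, hy⟩ : ∃ y, (ρ s - 1) y ≠ 0 := by
    by_contra hn
    push Not at hn
    exact h3 (LinearMap.ext hn)
  have h4 : (ρ s - 1) ((ρ s - 1) y) = 0 := by rw [← Module.End.mul_apply, h2]; rfl
  have h5 : ρ s ((ρ s - 1) y) = (ρ s - 1) y := sub_eq_zero.1 h4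
  refine ⟨(ρ s - 1) y, y, hy, h5, fun k => ?_, fun w => ?_⟩
  · induction k with
    | zero => simp
    | succ k ih =>
      rw [pow_succ', map_mul, Module.End.mul_apply, ih, map_add, map_smul, h5, Nat.cast_succ, add_smul, one_smul]
      simp only [LinearMap.sub_apply, Module.End.one_apply]
      abel
  · have h6 : LinearIndependent (ZMod p) ![(ρ s - 1) y, y] := LinearIndependent.pair_iff.2 fun a b e => by
      have e1 := DFunLike.congr_arg (ρ s - 1) e
      rw [map_add, map_smul, map_smul, h4, smul_zero, zero_add, map_zero] at e1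
      have hb := (smul_eq_zero.1 e1).resolve_right hy
      rw [hb, zero_smul, add_zero] at e
      exact ⟨(smul_eq_zero.1 e).resolve_right hy, hb⟩
    have h7 := h6.span_eq_top_of_card_eq_finrank' (by simp [hd])
    rw [← Submodule.mem_span_pair]
    simpa [← h7, Set.pair_comm] using (Submodule.mem_top : w ∈ (⊤ : Submodule (ZMod p) V))

theorem norm_one (ρ : Representation (ZMod p) H V) (hρ : Function.Injective ρ)
    (hd : Module.finrank (ZMod p) V = 2) {s τ : H} (hs : orderOf s = p) {v : V} (hv : v ≠ 0)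
    {c : ZMod p} (hc : ρ τ v = c • v) (hf : ρ s v = v) : τ ∈ normalizer (zpowers s : Set H) := by
  obtain ⟨x, y, hx, h1, h2, h3⟩ := basis ρ hρ hd hs
  have hy : ρ s y = y + x := by simpa using h2 1
  have hxk : ∀ k : ℕ, ρ (s ^ k) x = x := fun k => by
    induction k with
    | zero => simp
    | succ k ih => rw [pow_succ', map_mul, Module.End.mul_apply, ih, h1]
  have hs' : ∀ a b : ZMod p, ρ s (a • x + b • y) = a • x + b • y + b • x := fun a b => by
    rw [map_add, map_smul, map_smul, h1, hy, smul_add, add_assoc]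
  have hτ : ρ τ x = c • x := by
    obtain ⟨a, b, rfl⟩ := h3 v
    rw [hs', add_eq_left] at hf
    rw [(smul_eq_zero.1 hf).resolve_right hx, zero_smul, add_zero] at hv hc
    rw [map_smul, smul_comm] at hc
    exact smul_right_injective V (left_ne_zero_of_smul hv) hc
  have hi : ∀ w, ρ τ (ρ τ⁻¹ w) = w := fun w => by
    rw [← Module.End.mul_apply, ← map_mul, mul_inv_cancel, map_one]; rfl
  have hi' : ∀ w, ρ τ⁻¹ (ρ τ w) = w := fun w => by
    rw [← Module.End.mul_apply, ← map_mul, inv_mul_cancel, map_one]; rfl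
  have hc0 : c ≠ 0 := fun e => hx (by rw [← hi' x, hτ, e, zero_smul, map_zero])
  have hτ' : ρ τ⁻¹ x = c⁻¹ • x := by
    conv_rhs => rw [← hi' x, hτ, map_smul, inv_smul_smul₀ hc0]
  obtain ⟨a, b, e⟩ := h3 (ρ τ⁻¹ y)
  have key : τ * s * τ⁻¹ = s ^ (b * c).val := hρ (LinearMap.ext fun w => by
    obtain ⟨a', b', rfl⟩ := h3 w
    rw [map_add, map_add, map_smul, map_smul, map_smul, map_smul, h2, hxk, ZMod.natCast_zmod_val, map_mul,
      map_mul, Module.End.mul_apply, Module.End.mul_apply, Module.End.mul_apply, Module.End.mul_apply, ← e,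
      hs', e, map_add, hi, map_smul, hτ, hτ', map_smul, h1, ← hτ', hi, smul_smul])
  exact mem_normalizer_fintype fun a ha =>
    ((zpowers_le (H := (zpowers s).comap (MulAut.conj τ).toMonoidHom)).2
      (show τ * s * τ⁻¹ ∈ zpowers s from key ▸ npow_mem_zpowers s _)) ha

end PairA

theorem norm_two (ρ : Representation (ZMod p) H V) (hρ : Function.Injective ρ)
    (hd : Module.finrank (ZMod p) V = 2) {s τ : H} (hs : orderOf s = p) {v : V} (hv : v ≠ 0)
    {c : ZMod p} (hc : ρ τ v = c • v) :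
    ∃ g : H, τ ∈ normalizer (zpowers (g * s * g⁻¹) : Set H) := by
  obtain ⟨x, y, hx, h1, h2, h3⟩ := PairA.basis ρ hρ hd hs
  obtain ⟨a, b, e⟩ := h3 (ρ τ x)
  obtain ⟨a', b', e'⟩ := h3 v
  by_cases hb : b = 0
  · refine ⟨1, ?_⟩
    rw [one_mul, inv_one, mul_one]
    exact PairA.norm_one ρ hρ hd hs hx (c := a) (by rw [← e, hb, zero_smul, add_zero]) h1
  by_cases hb' : b' = 0
  · refine ⟨1, ?_⟩
    rw [one_mul, inv_one, mul_one]
    exact PairA.norm_one ρ hρ hd hs hv hc (by rw [← e', hb', zero_smul, add_zero, map_smul, h1])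
  have hxk : ∀ k : ℕ, ρ (s ^ k) x = x := fun k => by
    induction k with
    | zero => simp
    | succ k ih => rw [pow_succ', map_mul, Module.End.mul_apply, ih, h1]
  have hg : ρ (s ^ (a' / b' - a / b).val * τ) x = (b / b') • v := by
    rw [map_mul, Module.End.mul_apply, ← e, ← e', map_add, map_smul, map_smul, h2, hxk, ZMod.natCast_zmod_val]
    match_scalars <;> field_simp <;> ring
  generalize s ^ (a' / b' - a / b).val * τ = g at hg
  refine ⟨g, PairA.norm_one ρ hρ hd ((MulEquiv.orderOf_eq (MulAut.conj g) s).trans hs)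
    (smul_ne_zero (div_ne_zero hb hb') hv) (c := c) (by rw [map_smul, hc, smul_comm]) ?_⟩
  rw [← hg, ← Module.End.mul_apply, ← map_mul, inv_mul_cancel_right, map_mul, Module.End.mul_apply, h1]

end Cfsg.Agent.MxD
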