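import Mathlib
import Cfsg.Agent.MxD.Defs
import Cfsg.Agent.Cl.PSL2Dickson
import Cfsg.Agent.Cl.PSL2A5

/-! Two-by-two core of the coprime pair. -/

set_option autoImplicit false

namespace Cfsg.Agent.MxD

open Subgroup Cfsg.Agent.GT Cfsg.Agent.FG.MxC Cfsg.Agent.Fus Cfsg.Agent.Fus.R3 Cfsg.Agent.MxE
open Cfsg.FusionSystem hiding inv_mem
open scoped commutatorElement

universe u

namespace PairD

open Cfsg.Agent.Cl.L2 Matrix
open scoped MatrixGroups

variable {K : Type} [Field K]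

theorem aff_pow {a : K} (ha : a ≠ 0) (b : K) (k : ℕ) : ∃ b', aff a b ^ k = aff (a ^ k) b' := by
  induction k with
  | zero => exact ⟨0, by rw [pow_zero, pow_zero, aff_one_zero]⟩
  | succ k ih =>
    obtain ⟨b', h⟩ := ih
    exact ⟨_, by rw [pow_succ, h, aff_mul (pow_ne_zero k ha) ha, pow_succ]⟩

theorem core [Finite K] {l c : K} (h0 : l ≠ 0) (hl : ∀ k, 0 < k → k ≤ 5 → l ^ k ≠ 1) (hc : c ≠ 0) (hc' : c ≠ 1)
    (H : Subgroup PGL(2, K)) (hA : aff l ((l - 1) * (1 - c)) ∈ H) (hB : pm !![1, 0; l - 1, l] ∈ H)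
    (hreg : ∀ h ∈ H, h ≠ 1 → tau h ≠ 4) : False := by
  have h1 : l - 1 ≠ 0 := sub_ne_zero.2 (by simpa using hl 1 one_pos (by decide))
  have dB : (!![1, 0; l - 1, l] : M2 K).det ≠ 0 := by simpa [det_fin_two] using h0
  have pw : ∀ k, 0 < k → k ≤ 5 → aff l ((l - 1) * (1 - c)) ^ k ≠ 1 := fun k k0 k5 e => by
    obtain ⟨b, hb⟩ := aff_pow h0 ((l - 1) * (1 - c)) k
    exact hl k k0 k5 ((aff_eq_one_iff (pow_ne_zero k h0)).1 (hb ▸ e)).1
  have nB : pm !![1, 0; l - 1, l] • (inf : P1 K) ≠ inf := fun e => h1 (by simpa using (pm_smul_inf_eq_inf dB).1 e)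
  have tr : ∀ {X : Type} [Group X] (e : H ≃* X) (k : ℕ), 0 < k → k ≤ 5 → e ⟨_, hA⟩ ^ k ≠ 1 := fun e k k0 k5 h =>
    pw k k0 k5 (congrArg Subtype.val (e.injective ((map_pow e _ k).trans (h.trans (map_one e).symm))))
  rcases dickson_regular H hreg with ⟨x, hx⟩ | ⟨g, -, ht, hg⟩ | ⟨⟨e⟩⟩ | ⟨⟨e⟩⟩ | ⟨⟨e⟩⟩
  · rcases eq_inf_or_pt x with rfl | ⟨a, rfl⟩
    · exact nB (hx _ hB)
    have e1 := hx _ hA
    have e2 := (pm_smul_pt_eq_pt dB).1 (hx _ hB)
    rw [aff_smul_pt h0, pt_inj] at e1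
    simp only [of_apply, cons_val', cons_val_zero, cons_val_one, cons_val_fin_one] at e2
    have e3 : a = c - 1 := mul_left_cancel₀ h1 (by linear_combination e1)
    subst e3
    exact mul_ne_zero h1 (mul_ne_zero hc (sub_ne_zero.2 hc')) (by linear_combination -e2)
  · have tA : aff l ((l - 1) * (1 - c)) ∈ tor g := by_contra fun k =>
      pw 2 two_pos (by decide) ((sq _).trans (mul_self_of_mem_ntor ht (hg hA) k))
    have tB : pm !![1, 0; l - 1, l] ∈ tor g := by_contra fun k => by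
      have := (tau_pm_eq_iff dB).1 (tau_eq_zero_of_mem_ntor ht (hg hB) k)
      rw [zero_mul, sq_eq_zero_iff, trace_fin_two_of] at this
      exact hl 2 two_pos (by decide) (by linear_combination (l - 1) * this)
    exact nB (smul_eq_of_mem_tor (by simpa using pw 1 one_pos (by decide))
      (mem_tor_of_mem_tor (ne_one_of_tau ht) tA tB) (aff_smul_inf h0 _))
  · exact (A4_pow _).elim (tr e 2 two_pos (by decide)) (tr e 3 three_pos (by decide))
  · exact (S4_pow _).elim (tr e 3 three_pos (by decide)) (tr e 4 four_pos (by decide))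
  · exact (A5_pow _).elim (tr e 2 two_pos (by decide))
      fun h => h.elim (tr e 3 three_pos (by decide)) (tr e 5 (by decide) le_rfl)

end PairD

theorem pair_core {p : ℕ} [Fact p.Prime] (hp : 7 ≤ p) {K : Type} [Field K] [Finite K] [CharP K p]
    {μ c : K} (hμ : orderOf (μ ^ 2) = p - 1) (hc : c ≠ 0) (hc' : c ≠ 1)
    {A B : Matrix.SpecialLinearGroup (Fin 2) K}
    (hA : (A : Matrix (Fin 2) (Fin 2) K) = μ⁻¹ • (1 + (μ ^ 2 - 1) • !![1, 1 - c; 0, 0]))
    (hB : (B : Matrix (Fin 2) (Fin 2) K) = μ⁻¹ • (1 + (μ ^ 2 - 1) • !![0, 0; 1, 1]))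
    {N : ℕ} (hN : ¬ p ∣ N)
    (hg : ∀ g ∈ closure ({A, B} : Set (Matrix.SpecialLinearGroup (Fin 2) K)), g ^ N ∈ Subgroup.center _) :
    False := by
  have h0 : μ ^ 2 ≠ 0 := fun e => by
    have := pow_orderOf_eq_one (μ ^ 2)
    rw [hμ, e, zero_pow (by omega)] at this
    exact zero_ne_one this
  have h1 : μ⁻¹ ≠ 0 := inv_ne_zero fun e => h0 (by rw [e]; ring)
  let φ := (Cl.L2.emb (F := K)).comp (QuotientGroup.mk' (Subgroup.center (Matrix.SpecialLinearGroup (Fin 2) K)))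
  have hφ : ∀ X, φ X = Cl.L2.pm X.1 := Cl.L2.emb_mk
  refine PairD.core h0 (fun k k0 k5 e => absurd (orderOf_le_of_pow_eq_one k0 e) (by omega)) hc hc'
    ((closure {A, B}).map φ) ⟨A, subset_closure (.inl rfl), ?_⟩ ⟨B, subset_closure (.inr rfl), ?_⟩ ?_
  · rw [hφ, hA, Cl.L2.pm_smul h1, Cl.L2.aff]
    congr 1
    ext i j
    fin_cases i <;> fin_cases j <;> simp
  · rw [hφ, hB, Cl.L2.pm_smul h1]
    congr 1
    ext i j
    fin_cases i <;> fin_cases j <;> simp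
  · rintro _ ⟨g, hg', rfl⟩ k ht
    obtain ⟨x, hx⟩ := Cl.L2.exists_mem_uni ht
    refine hN (Cl.L2.orderOf_of_mem_uni p hx k ▸ orderOf_dvd_of_pow_eq_one ?_)
    rw [← map_pow, MonoidHom.comp_apply, (QuotientGroup.eq_one_iff _).2 (hg g hg') |> (QuotientGroup.mk'_apply _ _).trans,
      map_one]

end Cfsg.Agent.MxD
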