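import Mathlib
import Cfsg.Agent.MxD.Defs
import Cfsg.Agent.MxD.PairD
import Cfsg.Agent.Cl.FormRep

/-! Two projections, order prime to p. -/

set_option autoImplicit false

namespace Cfsg.Agent.MxD

open Subgroup Cfsg.Agent.GT Cfsg.Agent.FG.MxC Cfsg.Agent.Fus Cfsg.Agent.Fus.R3 Cfsg.Agent.MxE
open Cfsg.FusionSystem hiding inv_mem
open scoped commutatorElement

universe u

namespace PairB

open Polynomial Matrix

section Ring

variable {R : Type*} [Ring R] {a b : R}

theorem z_left (ha : a * a = a) (hb : b * b = b) : (a - b) * (a - b) * a = a * ((a - b) * (a - b)) := by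
  have ha' : ∀ x, a * (a * x) = a * x := fun x => by rw [← mul_assoc, ha]
  have hb' : ∀ x, b * (b * x) = b * x := fun x => by rw [← mul_assoc, hb]
  simp only [mul_sub, sub_mul, mul_assoc, ha, hb, ha', hb']
  abel

theorem z_right (ha : a * a = a) (hb : b * b = b) : (a - b) * (a - b) * b = b * ((a - b) * (a - b)) := by
  have ha' : ∀ x, a * (a * x) = a * x := fun x => by rw [← mul_assoc, ha]
  have hb' : ∀ x, b * (b * x) = b * x := fun x => by rw [← mul_assoc, hb]
  simp only [mul_sub, sub_mul, mul_assoc, ha, hb, ha', hb']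
  abel

theorem aba (ha : a * a = a) (hb : b * b = b) : a * b * a = a - (a - b) * (a - b) * a := by
  have ha' : ∀ x, a * (a * x) = a * x := fun x => by rw [← mul_assoc, ha]
  have hb' : ∀ x, b * (b * x) = b * x := fun x => by rw [← mul_assoc, hb]
  simp only [mul_sub, sub_mul, mul_assoc, ha, ha', hb']
  abel

theorem z_eq (ha : a * a = a) (hb : b * b = b) : (a - b) * (a - b) = a - a * b - b * a + b := by
  simp only [mul_sub, sub_mul, ha, hb]
  abel

theorem k_sq (ha : a * a = a) (hb : b * b = b) :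
    (a * b - b * a) * (a * b - b * a) = -((a - b) * (a - b) * (1 - (a - b) * (a - b))) := by
  have ha' : ∀ x, a * (a * x) = a * x := fun x => by rw [← mul_assoc, ha]
  have hb' : ∀ x, b * (b * x) = b * x := fun x => by rw [← mul_assoc, hb]
  simp only [mul_sub, sub_mul, mul_assoc, ha, hb, ha', hb', mul_one]
  abel

theorem k_left (ha : a * a = a) : (a * b - b * a) * a = (1 - a) * (a * b - b * a) := by
  have ha' : ∀ x, a * (a * x) = a * x := fun x => by rw [← mul_assoc, ha]
  simp only [mul_sub, sub_mul, mul_assoc, ha, ha', one_mul]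
  abel

theorem k_right (hb : b * b = b) : (a * b - b * a) * b = (1 - b) * (a * b - b * a) := by
  have hb' : ∀ x, b * (b * x) = b * x := fun x => by rw [← mul_assoc, hb]
  simp only [mul_sub, sub_mul, mul_assoc, hb, hb', one_mul]
  abel

end Ring

variable {p : ℕ} [Fact p.Prime] {H : Type*} [Group H] [Finite H]

theorem proj {k : Type*} [Field k] {A : Type*} [Ring A] [Algebra k A] {x : A} {l : k} (hl : l ≠ 1)
    (h : (x - 1) * (x - l • 1) = 0) : ∃ π : A, π * π = π ∧ x = 1 + (l - 1) • π := by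
  have h0 : l - 1 ≠ 0 := sub_ne_zero.2 hl
  have e : (x - 1) * (x - 1) = (l - 1) • (x - 1) := by
    have : x - l • (1 : A) = (x - 1) - (l - 1) • 1 := by module
    rwa [this, mul_sub, mul_smul_comm, mul_one, sub_eq_zero] at h
  refine ⟨(l - 1)⁻¹ • (x - 1), ?_, by rw [smul_smul, mul_inv_cancel₀ h0, one_smul, add_sub_cancel]⟩
  rw [smul_mul_smul_comm, e, smul_smul, mul_assoc, inv_mul_cancel₀ h0, mul_one]

theorem core (hp : 7 ≤ p) {K : Type} [Field K] [Finite K] [CharP K p] {W : Type*} [AddCommGroup W] [Module K W]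
    (R : H →* Module.End K W) {τ τ' : H} {μ c : K} (hμ : orderOf (μ ^ 2) = p - 1) {π π' : Module.End K W}
    (hπ : π * π = π) (hπ' : π' * π' = π') (e : R τ = 1 + (μ ^ 2 - 1) • π) (e' : R τ' = 1 + (μ ^ 2 - 1) • π')
    (hD : ¬ p ∣ Nat.card (closure ({τ, τ'} : Set H))) {w : W} (hw : w ≠ 0)
    (hζ : ((π - π') * (π - π')) w = c • w) (hc : c ≠ 0) (hc' : c ≠ 1) : False := by
  have μ0 : μ ≠ 0 := by
    rintro rfl
    rw [zero_pow two_ne_zero, orderOf_zero] at hμ
    omega
  have c1 : 1 - c ≠ 0 := sub_ne_zero.2 hc'.symm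
  have ap : ∀ x, π (π x) = π x := fun x => LinearMap.congr_fun hπ x
  have ap' : ∀ x, π' (π' x) = π' x := fun x => LinearMap.congr_fun hπ' x
  have zl : ∀ x, ((π - π') * (π - π')) x = c • x → ((π - π') * (π - π')) (π x) = c • π x := fun x hx => by
    rw [← Module.End.mul_apply, z_left hπ hπ', Module.End.mul_apply, hx, map_smul]
  have zr : ∀ x, ((π - π') * (π - π')) x = c • x → ((π - π') * (π - π')) (π' x) = c • π' x := fun x hx => by
    rw [← Module.End.mul_apply, z_right hπ hπ', Module.End.mul_apply, hx, map_smul]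
  obtain ⟨v, v0, hv, hz⟩ : ∃ v, v ≠ 0 ∧ π v = v ∧ ((π - π') * (π - π')) v = c • v := by
    by_cases h1 : π w = 0
    swap
    · exact ⟨π w, h1, ap w, zl w hζ⟩
    by_cases h2 : π (π' w) = 0
    swap
    · exact ⟨π (π' w), h2, ap _, zl _ (zr w hζ)⟩
    exfalso
    rw [z_eq hπ hπ'] at hζ
    simp only [LinearMap.add_apply, LinearMap.sub_apply, Module.End.mul_apply, h1, h2, map_zero, sub_zero,
      zero_add] at hζ
    have := ap' w
    rw [hζ, map_smul, hζ, smul_smul] at this
    exact hc' (mul_left_cancel₀ hc ((smul_left_injective K hw this).trans (mul_one c).symm))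
  have hv' : π (π' v) = (1 - c) • v := by
    have := LinearMap.congr_fun (aba hπ hπ') v
    rw [Module.End.mul_apply, Module.End.mul_apply, LinearMap.sub_apply, Module.End.mul_apply, hv, hz] at this
    rw [this]; module
  let φ : (Fin 2 → K) → W := fun u => u 0 • v + u 1 • π' v
  have inj : ∀ u u', φ u = φ u' → u = u' := fun u u' h => by
    have h0 : (u 0 - u' 0) • v + (u 1 - u' 1) • π' v = 0 := by
      simp only [φ] at h
      linear_combination (norm := module) h
    have h1 := congrArg π h0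
    have h2 := congrArg (fun x => π (π' x)) h0
    simp only [map_add, map_smul, map_zero, hv, hv', ap', smul_smul, ← add_smul, smul_eq_zero, v0, or_false] at h1 h2
    have h3 : (u 1 - u' 1) * (c * (1 - c)) = 0 := by linear_combination h2 - (1 - c) * h1
    have h4 : u 1 - u' 1 = 0 := (mul_eq_zero.1 h3).resolve_right (mul_ne_zero hc c1)
    have h5 : u 0 - u' 0 = 0 := by linear_combination h1 - (1 - c) * h4
    funext i
    fin_cases i
    exacts [sub_eq_zero.1 h5, sub_eq_zero.1 h4]
  let A : SpecialLinearGroup (Fin 2) K := ⟨μ⁻¹ • (1 + (μ ^ 2 - 1) • !![1, 1 - c; 0, 0]), by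
    simp [det_fin_two]; field_simp; ring⟩
  let B : SpecialLinearGroup (Fin 2) K := ⟨μ⁻¹ • (1 + (μ ^ 2 - 1) • !![0, 0; 1, 1]), by
    simp [det_fin_two]; field_simp; ring⟩
  refine pair_core hp hμ hc hc' (A := A) (B := B) rfl rfl hD fun g hg => ?_
  obtain ⟨d, hd, ν, -, h⟩ : ∃ d ∈ closure ({τ, τ'} : Set H), ∃ ν : K, ν ≠ 0 ∧
      ∀ u, φ ((g : Matrix (Fin 2) (Fin 2) K) *ᵥ u) = ν • R d (φ u) := by
    induction hg using closure_induction with
    | mem x hx =>
      rcases hx with rfl | rfl
      · refine ⟨τ, subset_closure (by simp), μ⁻¹, inv_ne_zero μ0, fun u => ?_⟩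
        simp [φ, A, e, hv, hv', mulVec, dotProduct, Fin.sum_univ_two, Matrix.one_apply]
        module
      · refine ⟨τ', subset_closure (by simp), μ⁻¹, inv_ne_zero μ0, fun u => ?_⟩
        simp [φ, B, e', ap', mulVec, dotProduct, Fin.sum_univ_two, Matrix.one_apply]
        module
    | one => exact ⟨1, one_mem _, 1, one_ne_zero, fun u => by simp⟩
    | mul x y _ _ h1 h2 =>
      obtain ⟨d, hd, ν, n0, h⟩ := h1
      obtain ⟨d', hd', ν', n0', h'⟩ := h2
      refine ⟨d * d', mul_mem hd hd', ν * ν', mul_ne_zero n0 n0', fun u => ?_⟩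
      rw [Matrix.SpecialLinearGroup.coe_mul, ← mulVec_mulVec, h, h', map_smul, smul_smul, map_mul, Module.End.mul_apply]
    | inv x _ h1 =>
      obtain ⟨d, hd, ν, n0, h⟩ := h1
      refine ⟨d⁻¹, inv_mem hd, ν⁻¹, inv_ne_zero n0, fun u => ?_⟩
      have := h (((x⁻¹ : SpecialLinearGroup (Fin 2) K) : Matrix (Fin 2) (Fin 2) K) *ᵥ u)
      rw [mulVec_mulVec, ← Matrix.SpecialLinearGroup.coe_mul, mul_inv_cancel, Matrix.SpecialLinearGroup.coe_one, one_mulVec] at this
      rw [this, map_smul, smul_smul, inv_mul_cancel₀ n0, one_smul, ← Module.End.mul_apply, ← map_mul,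
        inv_mul_cancel, map_one, Module.End.one_apply]
  have hn : ∀ n : ℕ, ∀ u, φ (((g ^ n : SpecialLinearGroup (Fin 2) K) : Matrix (Fin 2) (Fin 2) K) *ᵥ u) =
      ν ^ n • R (d ^ n) (φ u) := fun n => by
    induction n with
    | zero => intro u; simp
    | succ n ih =>
      intro u
      rw [pow_succ', Matrix.SpecialLinearGroup.coe_mul, ← mulVec_mulVec, h, ih, map_smul, smul_smul, pow_succ', pow_succ',
        map_mul, Module.End.mul_apply]
  have dN : d ^ Nat.card (closure ({τ, τ'} : Set H)) = 1 :=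
    congrArg Subtype.val (pow_card_eq_one' (x := (⟨d, hd⟩ : closure ({τ, τ'} : Set H))))
  generalize Nat.card (closure ({τ, τ'} : Set H)) = N at dN
  have hs : ((g ^ N : SpecialLinearGroup (Fin 2) K) : Matrix (Fin 2) (Fin 2) K) = ν ^ N • 1 := by
    refine Matrix.toLin'.injective (LinearMap.ext fun u => inj _ _ ?_)
    rw [toLin'_apply, toLin'_apply, hn, dN, map_one, Module.End.one_apply, smul_mulVec, one_mulVec]
    simp only [φ, Pi.smul_apply, smul_eq_mul]
    module
  refine Subgroup.mem_center_iff.2 fun x => Matrix.SpecialLinearGroup.ext _ _ fun i j => ?_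
  rw [Matrix.SpecialLinearGroup.coe_mul, Matrix.SpecialLinearGroup.coe_mul, hs, Matrix.mul_smul, Matrix.smul_mul, mul_one, one_mul]

variable {V : Type*} [AddCommGroup V] [Module (ZMod p) V] [Finite V]

theorem nil {K : Type*} [Field K] [Algebra (ZMod p) K] (ζ : Module.End (ZMod p) V)
    (hs : (ζ.charpoly.map (algebraMap (ZMod p) K)).Splits)
    (h : ∀ c : K, (ζ.charpoly.map (algebraMap (ZMod p) K)).IsRoot c → c = 0 ∨ c = 1) :
    IsNilpotent (ζ * (1 - ζ)) := by
  have hm := ζ.charpoly_monic.map (algebraMap (ZMod p) K)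
  have h1 := Multiset.prod_dvd_prod_of_dvd (S := (ζ.charpoly.map (algebraMap (ZMod p) K)).roots)
    (fun a => X - C a) (fun _ => X * (1 - X)) fun a ha => by
      rw [dvd_iff_isRoot]
      rcases h a (isRoot_of_mem_roots ha) with rfl | rfl <;> simp
  rw [← hs.eq_prod_roots_of_monic hm, Multiset.map_const', Multiset.prod_replicate] at h1
  generalize Multiset.card _ = n at h1
  have h2 : ζ.charpoly ∣ (X * (1 - X)) ^ n := by
    rw [← map_dvd_map' (algebraMap (ZMod p) K)]
    simpa using h1
  obtain ⟨r, hr⟩ := h2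
  have := congrArg (aeval ζ) hr
  rw [map_mul, LinearMap.aeval_self_charpoly, zero_mul] at this
  exact ⟨n, by simpa using this⟩

theorem comm_of_nil (ρ : Representation (ZMod p) H V) {τ τ' : H} {l : ZMod p} (hl : l ≠ 1)
    {π π' : Module.End (ZMod p) V} (hπ : π * π = π) (hπ' : π' * π' = π') (e : ρ τ = 1 + (l - 1) • π)
    (e' : ρ τ' = 1 + (l - 1) • π') (hD : ¬ p ∣ Nat.card (closure ({τ, τ'} : Set H)))
    (hn : IsNilpotent ((π - π') * (π - π') * (1 - (π - π') * (π - π')))) : π * π' = π' * π := by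
  have h0 : l - 1 ≠ 0 := sub_ne_zero.2 hl
  set κ := π * π' - π' * π with hκ
  have nk : IsNilpotent κ := IsNilpotent.of_pow (m := 2) (by rw [pow_two, hκ, k_sq hπ hπ']; exact hn.neg)
  let D := closure ({τ, τ'} : Set H)
  let ρ' : Representation (ZMod p) D V := ρ.comp D.subtype
  have hU : Cl.RepInv ρ' (LinearMap.ker κ) := by
    rintro ⟨g, hg⟩
    change ∀ u ∈ LinearMap.ker κ, ρ g u ∈ LinearMap.ker κ
    replace hg : g ∈ Submonoid.closure ({τ, τ'} : Set H) := closure_toSubmonoid_of_finite (s := {τ, τ'}) ▸ hg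
    induction hg using Submonoid.closure_induction_left with
    | one => intro u hu; simpa using hu
    | mul_left x hx y _ ih =>
      intro u hu
      have := ih u hu
      rw [map_mul, Module.End.mul_apply]
      rw [LinearMap.mem_ker] at this ⊢
      rcases hx with rfl | rfl
      · rw [e, LinearMap.add_apply, LinearMap.smul_apply, map_add, map_smul, Module.End.one_apply, this,
          ← Module.End.mul_apply κ, hκ, k_left hπ, Module.End.mul_apply, ← hκ, this, map_zero, smul_zero, add_zero]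
      · rw [e', LinearMap.add_apply, LinearMap.smul_apply, map_add, map_smul, Module.End.one_apply, this,
          ← Module.End.mul_apply κ, hκ, k_right hπ', Module.End.mul_apply, ← hκ, this, map_zero, smul_zero, add_zero]
  obtain ⟨X, hX, hc⟩ := hU.exists_isCompl (by rwa [Ne, ZMod.natCast_eq_zero_iff])
  have inv : ∀ {t : H} {a : Module.End (ZMod p) V}, t ∈ D → ρ t = 1 + (l - 1) • a → ∀ x ∈ X, a x ∈ X := by
    intro t a ht ea x hx
    have h1 : ρ t x ∈ X := hX ⟨t, ht⟩ x hx
    rw [ea, LinearMap.add_apply, LinearMap.smul_apply, Module.End.one_apply, add_mem_cancel_left hx] at h1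
    exact (X.smul_mem_iff h0).1 h1
  have i1 := inv (subset_closure (by simp)) e
  have i2 := inv (subset_closure (by simp)) e'
  have ik : ∀ x ∈ X, κ x ∈ X := fun x hx => sub_mem (i1 _ (i2 x hx)) (i2 _ (i1 x hx))
  have key : ∀ n : ℕ, ∀ x ∈ X, (κ ^ n) x = 0 → x = 0 := fun n => by
    induction n with
    | zero => intro x _ h; simpa using h
    | succ n ih =>
      intro x hx h
      rw [pow_succ, Module.End.mul_apply] at h
      exact (Submodule.disjoint_def.1 hc.disjoint) x (ih _ (ik x hx) h) hx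
  obtain ⟨n, hn⟩ := nk
  refine sub_eq_zero.1 (LinearMap.ext fun x => ?_)
  obtain ⟨u, hu, y, hy, rfl⟩ := Submodule.mem_sup.1 (hc.sup_eq_top ▸ Submodule.mem_top : x ∈ LinearMap.ker κ ⊔ X)
  rw [key n y hy (by rw [hn]; rfl), add_zero]
  exact hu

end PairB

variable {p : ℕ} [Fact p.Prime] {H : Type*} [Group H] [Finite H] {V : Type*} [AddCommGroup V]
  [Module (ZMod p) V] [Finite V]

open Polynomial in
theorem commute_pair (hp : 7 ≤ p) (ρ : Representation (ZMod p) H V) (hρ : Function.Injective ρ)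
    {τ τ' : H} {l : ZMod p} (hl : orderOf l = p - 1) (h1 : (ρ τ - 1) * (ρ τ - l • 1) = 0)
    (h2 : (ρ τ' - 1) * (ρ τ' - l • 1) = 0)
    (hD : ¬ p ∣ Nat.card (closure ({τ, τ'} : Set H))) : Commute τ τ' := by
  have l1 : l ≠ 1 := by
    rintro rfl
    rw [orderOf_one] at hl
    omega
  obtain ⟨π, hπ, e⟩ := PairB.proj (A := Module.End (ZMod p) V) l1 h1
  obtain ⟨π', hπ', e'⟩ := PairB.proj (A := Module.End (ZMod p) V) l1 h2
  set ζ : Module.End (ZMod p) V := (π - π') * (π - π') with hζ
  have m2 : (X ^ 2 - Polynomial.C l : (ZMod p)[X]).Monic := monic_X_pow_sub_C l two_ne_zero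
  let f : (ZMod p)[X] := ζ.charpoly * (X ^ 2 - Polynomial.C l)
  let K := f.SplittingField
  have : Finite K := Module.finite_of_finite (ZMod p)
  have : CharP K p := charP_of_injective_algebraMap (algebraMap (ZMod p) K).injective p
  have hs : (f.map (algebraMap (ZMod p) K)).Splits := SplittingField.splits f
  have f0 : f.map (algebraMap (ZMod p) K) ≠ 0 := ((ζ.charpoly_monic.mul m2).map _).ne_zero
  have s1 := hs.of_dvd f0 (Polynomial.map_dvd _ (dvd_mul_right _ _))
  have s2 := hs.of_dvd f0 (Polynomial.map_dvd _ (dvd_mul_left _ _))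
  obtain ⟨μ, hμ⟩ := s2.exists_eval_eq_zero (by rw [degree_map, degree_X_pow_sub_C two_pos]; norm_num)
  have hμ' : μ ^ 2 = algebraMap (ZMod p) K l := by simpa [sub_eq_zero] using hμ
  have hc : π * π' = π' * π := by
    refine PairB.comm_of_nil ρ l1 hπ hπ' e e' hD (PairB.nil (K := K) ζ s1 fun c hc => ?_)
    by_contra hn
    push Not at hn
    let Φ := Module.End.baseChangeHom (ZMod p) K V
    rw [← LinearMap.charpoly_baseChange, ← Module.End.hasEigenvalue_iff_isRoot_charpoly] at hc
    obtain ⟨w, hw⟩ := hc.exists_hasEigenvector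
    have ee : ∀ {t : H} {a : Module.End (ZMod p) V}, ρ t = 1 + (l - 1) • a →
        (Φ.toRingHom.toMonoidHom.comp ρ) t = 1 + (μ ^ 2 - 1) • Φ a := by
      intro t a h
      change Φ (ρ t) = _
      rw [h, map_add, map_one, map_smul, hμ', ← map_one (algebraMap (ZMod p) K), ← map_sub, algebraMap_smul]
    refine PairB.core hp (Φ.toRingHom.toMonoidHom.comp ρ) (μ := μ) (c := c) (π := Φ π) (π' := Φ π') ?_
      (by rw [← map_mul, hπ]) (by rw [← map_mul, hπ']) (ee e) (ee e') hD hw.2 ?_ hn.1 hn.2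
    · rw [hμ', ← hl]
      exact orderOf_injective (algebraMap (ZMod p) K).toMonoidHom (algebraMap (ZMod p) K).injective l
    · have : Φ ζ = (Φ π - Φ π') * (Φ π - Φ π') := by simp only [hζ, map_mul, map_sub]
      rw [← this]
      exact hw.apply_eq_smul
  apply hρ
  rw [map_mul, map_mul, e, e']
  simp only [mul_add, add_mul, mul_one, one_mul, smul_mul_smul_comm, hc]
  abel

end Cfsg.Agent.MxD
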