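import Mathlib
import Cfsg.Agent.MxD.Defs
import Cfsg.Agent.MxD.PairA
import Cfsg.Agent.MxE.Bas

/-! Two projections, p dividing the order. -/

set_option autoImplicit false

namespace Cfsg.Agent.MxD

open Subgroup Cfsg.Agent.GT Cfsg.Agent.FG.MxC Cfsg.Agent.Fus Cfsg.Agent.Fus.R3 Cfsg.Agent.MxE
open Cfsg.FusionSystem hiding inv_mem
open scoped commutatorElement

universe u

namespace PairE

section Lin

variable {K : Type*} [Field K] {V : Type*} [AddCommGroup V] [Module K V] {π π' : Module.End K V}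
  {W : Submodule K V} {c : K} {u v : V}

theorem idem (h : π * π = π) (v : V) : π (π v) = π v := by
  rw [← Module.End.mul_apply, h]

theorem compl (h : π * π = π) : (1 - π) * (1 - π) = 1 - π := by
  rw [sub_mul, one_mul, mul_sub, mul_one, h, sub_self, sub_zero]

theorem compl_sq : (1 - π - (1 - π')) * (1 - π - (1 - π')) = (π - π') * (π - π') := by
  noncomm_ring

theorem comm_left (h : π * π = π) (h' : π' * π' = π') : Commute ((π - π') * (π - π')) π := by
  have e1 : (π - π') * (π - π') * π = π * π * π - π * π' * π - π' * (π * π) + π' * π' * π := by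
    noncomm_ring
  have e2 : π * ((π - π') * (π - π')) = π * π * π - π * π * π' - π * π' * π + π * (π' * π') := by
    noncomm_ring
  show _ * _ = _ * _
  rw [e1, e2, h, h']
  abel

theorem comm_right (h : π * π = π) (h' : π' * π' = π') : Commute ((π - π') * (π - π')) π' := by
  have e : (π - π') * (π - π') = (π' - π) * (π' - π) := by noncomm_ring
  rw [e]
  exact comm_left h' h

theorem core (h' : π' * π' = π') (hv : π v = v) :
    ((π - π') * (π - π')) v - c • v = -(π (π' v) - (1 - c) • v) := by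
  simp only [Module.End.mul_apply, LinearMap.sub_apply, map_sub, hv, idem h', sub_smul, one_smul]
  abel

theorem eig0 (h' : π' * π' = π') (hc : c = 0 ∨ c = 1) (hW : v ∉ W) (hv : π v = v)
    (hz : ((π - π') * (π - π')) v - c • v ∈ W) :
    ∃ w, w ∉ W ∧ ∃ a b : K, π w - a • w ∈ W ∧ π' w - b • w ∈ W := by
  rw [core h' hv, neg_mem_iff] at hz
  rcases hc with rfl | rfl
  · rw [sub_zero, one_smul] at hz
    by_cases hd : π' v - v ∈ W
    · exact ⟨v, hW, 1, 1, by simp [hv], by simpa using hd⟩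
    · exact ⟨π' v - v, hd, 0, 0, by simpa [hv] using hz, by simp [idem h']⟩
  · rw [sub_self, zero_smul, sub_zero] at hz
    by_cases hd : π' v ∈ W
    · exact ⟨v, hW, 1, 0, by simp [hv], by simpa using hd⟩
    · exact ⟨π' v, hd, 0, 1, by simpa using hz, by simp [idem h']⟩

theorem proj_z (h : π * π = π) (h' : π' * π' = π') (u : V) :
    ((π - π') * (π - π')) (π u) - c • π u = π (((π - π') * (π - π')) u - c • u) := by
  rw [map_sub, map_smul, ← Module.End.mul_apply, (comm_left h h').eq, Module.End.mul_apply]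

theorem eig (h : π * π = π) (h' : π' * π' = π') (hc : c = 0 ∨ c = 1) (hi : ∀ v ∈ W, π v ∈ W)
    (hW : u ∉ W) (hz : ((π - π') * (π - π')) u - c • u ∈ W) :
    ∃ w, w ∉ W ∧ ∃ a b : K, π w - a • w ∈ W ∧ π' w - b • w ∈ W := by
  by_cases h1 : π u ∈ W
  · obtain ⟨w, hw, a, b, ha, hb⟩ := eig0 (π := 1 - π) (π' := 1 - π') (W := W) (v := (1 - π) u)
      (compl h') hc (fun k => hW (by simpa using add_mem k h1)) (idem (compl h) u) (by
        rw [proj_z (compl h) (compl h'), compl_sq]
        exact sub_mem hz (hi _ hz))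
    refine ⟨w, hw, 1 - a, 1 - b, ?_, ?_⟩
    · convert neg_mem ha using 1
      simp only [LinearMap.sub_apply, Module.End.one_apply, sub_smul, one_smul]
      abel
    · convert neg_mem hb using 1
      simp only [LinearMap.sub_apply, Module.End.one_apply, sub_smul, one_smul]
      abel
  · exact eig0 h' hc h1 (idem h u) (by rw [proj_z h h']; exact hi _ hz)

theorem two0 (h' : π' * π' = π') (c0 : c ≠ 0) (c1 : c ≠ 1) (h0 : v ≠ 0) (hv : π v = v)
    (hz : ((π - π') * (π - π')) v - c • v = 0) :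
    ∃ Y : Submodule K V, Module.finrank K Y = 2 ∧ v ∈ Y ∧ (∀ y ∈ Y, π y ∈ Y) ∧
      ∀ y ∈ Y, π' y ∈ Y := by
  rw [core h' hv, neg_eq_zero, sub_eq_zero] at hz
  have li : LinearIndependent K ![v, π' v] := by
    rw [LinearIndependent.pair_iff' h0]
    intro a ha
    have e1 : a = 1 - c := by
      rw [← ha, map_smul, hv] at hz
      exact smul_left_injective K h0 hz
    have e2 : a * a = a := by
      have := idem h' v
      rw [← ha, map_smul, ← ha, smul_smul] at this
      exact smul_left_injective K h0 this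
    have e3 : c * (c - 1) = 0 := by
      rw [e1] at e2
      linear_combination e2
    rcases mul_eq_zero.1 e3 with k | k
    · exact c0 k
    · exact c1 (sub_eq_zero.1 k)
  have m1 : v ∈ Submodule.span K (Set.range ![v, π' v]) := Submodule.subset_span ⟨0, rfl⟩
  have m2 : π' v ∈ Submodule.span K (Set.range ![v, π' v]) := Submodule.subset_span ⟨1, rfl⟩
  refine ⟨Submodule.span K (Set.range ![v, π' v]), by simpa using finrank_span_eq_card li, m1,
    fun y hy => ?_, fun y hy => ?_⟩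
  · refine Submodule.mem_comap.1 (Submodule.span_le.2 ?_ hy)
    rintro _ ⟨i, rfl⟩
    fin_cases i
    · show π v ∈ Submodule.span K _
      rwa [hv]
    · show π (π' v) ∈ Submodule.span K _
      rw [hz]
      exact Submodule.smul_mem _ _ m1
  · refine Submodule.mem_comap.1 (Submodule.span_le.2 ?_ hy)
    rintro _ ⟨i, rfl⟩
    fin_cases i
    · exact m2
    · show π' (π' v) ∈ Submodule.span K _
      rwa [idem h']

theorem two (h : π * π = π) (h' : π' * π' = π') (c0 : c ≠ 0) (c1 : c ≠ 1) (h0 : u ≠ 0)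
    (hz : ((π - π') * (π - π')) u - c • u = 0) :
    ∃ (Y : Submodule K V) (v : V) (a : K), Module.finrank K Y = 2 ∧ v ∈ Y ∧ v ≠ 0 ∧ π v = a • v ∧
      (∀ y ∈ Y, π y ∈ Y) ∧ ∀ y ∈ Y, π' y ∈ Y := by
  by_cases h1 : π u = 0
  · obtain ⟨Y, d, m, i1, i2⟩ := two0 (π := 1 - π) (π' := 1 - π') (v := u) (compl h') c0 c1 h0
      (by simp [h1]) (by rwa [compl_sq])
    exact ⟨Y, u, 0, d, m, h0, by simp [h1], fun y hy => by simpa using sub_mem hy (i1 y hy),
      fun y hy => by simpa using sub_mem hy (i2 y hy)⟩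
  · obtain ⟨Y, d, m, i1, i2⟩ := two0 (π := π) h' c0 c1 h1 (idem h u)
      (by rw [proj_z h h', hz, map_zero])
    exact ⟨Y, π u, 1, d, m, h1, by simp [idem h], i1, i2⟩

theorem exists_idem {t : Module.End K V} {l : K} (hl : l ≠ 1) (h : (t - 1) * (t - l • 1) = 0) :
    ∃ π : Module.End K V, π * π = π ∧ t = 1 + (l - 1) • π := by
  have h0 : l - 1 ≠ 0 := sub_ne_zero.2 hl
  refine ⟨(l - 1)⁻¹ • (t - 1), ?_, by rw [smul_smul, mul_inv_cancel₀ h0, one_smul]; abel⟩
  have e : (t - 1) * (t - 1) = (l - 1) • (t - 1) := by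
    have e1 : t - 1 = (t - l • 1) + (l - 1) • 1 := by rw [sub_smul, one_smul]; abel
    calc (t - 1) * (t - 1) = (t - 1) * ((t - l • 1) + (l - 1) • 1) := by rw [← e1]
      _ = (l - 1) • (t - 1) := by rw [mul_add, h, zero_add, mul_smul_comm, mul_one]
  rw [smul_mul_smul_comm, e, smul_smul, mul_assoc, inv_mul_cancel₀ h0, mul_one]

end Lin

variable {p : ℕ} [Fact p.Prime] {H : Type*} [Group H] [Finite H] {V : Type*} [AddCommGroup V]
  [Module (ZMod p) V] [Finite V] {ρ : Representation (ZMod p) H V} {s τ τ' : H} {e : ℕ}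

omit [Finite V] in
theorem all_of {Q : Module.End (ZMod p) V → Prop} (hD : closure ({τ, τ'} : Set H) = ⊤) (q1 : Q 1)
    (qm : ∀ a b, Q a → Q b → Q (a * b)) (h1 : Q (ρ τ)) (h2 : Q (ρ τ')) (h : H) : Q (ρ h) := by
  have hm : h ∈ Submonoid.closure ({τ, τ'} : Set H) := by
    rw [← closure_toSubmonoid_of_finite, hD]
    trivial
  induction hm using Submonoid.closure_induction with
  | mem x hx =>
    rcases hx with rfl | rfl
    · exact h1
    · exact h2
  | one => rwa [map_one]
  | mul x y _ _ hx hy =>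
    rw [map_mul]
    exact qm _ _ hx hy

omit [Finite H] in
theorem mem_of_dvd (hH : ¬ p ^ 2 ∣ Nat.card H) (hs : orderOf s = p) {N : Subgroup H} [N.Normal]
    (hN : p ∣ Nat.card N) : s ∈ N := by
  have hp : p.Prime := Fact.out
  rw [← QuotientGroup.eq_one_iff, ← orderOf_eq_one_iff]
  have h1 : orderOf (s : H ⧸ N) ∣ p := hs ▸ orderOf_map_dvd (QuotientGroup.mk' N) s
  refine ((Nat.dvd_prime hp).1 h1).resolve_right fun k => hH ?_
  rw [← N.card_mul_index, pow_two]
  exact mul_dvd_mul hN (k ▸ orderOf_dvd_natCard (s : H ⧸ N))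

omit [Finite V] in
/-- An invariant flag: `⟨s⟩` is normal. -/
theorem flag (hρ : Function.Injective ρ) (hH : ¬ p ^ 2 ∣ Nat.card H) (hs : orderOf s = p)
    (hr : Reg (ρ s - 1) e) (hi : ∀ j h, ∀ v ∈ Vj (ρ s - 1) j, ρ h v ∈ Vj (ρ s - 1) j) (g : H) :
    g * s * g⁻¹ ∈ zpowers s := by
  have hp : p.Prime := Fact.out
  let N : Subgroup H :=
    { carrier := {h | ∀ j, ∀ v ∈ Vj (ρ s - 1) j, ρ h v - v ∈ Vj (ρ s - 1) (j + 1)}
      one_mem' := fun j v _ => by simp
      mul_mem' := fun {a b} ha hb j v hv => by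
        simpa using add_mem (hi _ a _ (hb j v hv)) (ha j v hv)
      inv_mem' := fun {a} ha j v hv => by
        simpa using neg_mem (hi _ a⁻¹ _ (ha j v hv)) }
  have hs' : s ∈ N := fun j v hv => apply_mem_Vj hv
  have hg : g * s * g⁻¹ ∈ N := fun j v hv => by
    simpa using hi _ g _ (hs' j _ (hi _ g⁻¹ v hv))
  have hN : IsPGroup p N := fun x => ⟨e, Subtype.ext (hρ (by
    have key : ∀ j v, ((ρ x - 1) ^ j) v ∈ Vj (ρ s - 1) j := fun j => by
      induction j with
      | zero => exact fun v => Bas.mem_zero _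
      | succ j ih =>
        intro v
        rw [pow_succ', Module.End.mul_apply]
        exact x.2 j _ (ih v)
    have h0 : (ρ x - 1) ^ e = 0 := LinearMap.ext fun v => by
      have := key e v
      rwa [hr.Vj_eq_bot le_rfl, Submodule.mem_bot] at this
    have : Nontrivial (Module.End (ZMod p) V) := nontrivial_of_ne _ _ hr.ne
    have : CharP (Module.End (ZMod p) V) p :=
      charP_of_injective_algebraMap (algebraMap (ZMod p) _).injective p
    have h1 := pow_eq_zero_of_le (Nat.lt_pow_self hp.one_lt).le h0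
    rw [sub_pow_char_pow_of_commute _ _ (Commute.one_right _), one_pow, sub_eq_zero] at h1
    simpa using h1))⟩
  obtain ⟨k, hk⟩ := IsPGroup.iff_card.1 hN
  have hk1 : k ≤ 1 := by
    by_contra k2
    exact hH ((pow_dvd_pow p (by omega)).trans (hk ▸ card_subgroup_dvd_card N))
  have e1 : zpowers s = N := eq_of_le_of_card_ge (zpowers_le.2 hs') (by
    rw [Nat.card_zpowers, hs, hk]
    exact (Nat.pow_le_pow_right hp.pos hk1).trans (pow_one p).le)
  rwa [e1]

omit [Finite V] in
/-- The action on a subspace moved by `s` is faithful. -/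
theorem faith (hρ : Function.Injective ρ) (hH : ¬ p ^ 2 ∣ Nat.card H) (hs : orderOf s = p)
    (hr : Reg (ρ s - 1) e) {Y : Submodule (ZMod p) V} (hY : ∀ h, Y ≤ Y.comap (ρ h))
    (hd : Module.finrank (ZMod p) Y = 2) : Function.Injective (ρ.subrepresentation Y hY) := by
  classical
  obtain ⟨j, hj, hV⟩ := hr.exists_eq_Vj Y fun v hv => sub_mem (hY s hv) hv
  have hj2 : j + 2 = e := by
    have := hr.finrank_Vj j
    rw [← hV] at this
    omega
  set D := MonoidHom.ker (ρ.subrepresentation Y hY) with hD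
  have fx : ∀ k ∈ D, ∀ v ∈ Y, ρ k v = v := fun k hk v hv =>
    congrArg Subtype.val (LinearMap.congr_fun (MonoidHom.mem_ker.1 hk) ⟨v, hv⟩)
  have hp : ¬ p ∣ Nat.card D := fun k => by
    obtain ⟨v, v1, v2⟩ := hr.exists_mem (j := j) (by omega)
    refine hr.pow_notMem (r := 1) v1 v2 (by omega) ?_
    have : ((ρ s - 1) ^ 1 : Module.End (ZMod p) V) v = 0 := by
      rw [pow_one, LinearMap.sub_apply, fx s (mem_of_dvd hH hs k) v (hV ▸ v1)]
      simp
    rw [this]
    exact zero_mem _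
  have := Fintype.ofFinite D
  set N : Module.End (ZMod p) V := ∑ k : D, ρ k with hN
  have n1 : ∀ k ∈ D, N * ρ k = N := fun k hk => by
    rw [hN, Finset.sum_mul]
    exact Fintype.sum_equiv (Equiv.mulRight (⟨k, hk⟩ : D)) _ _ fun x => by simp
  have n2 : ρ s * N = N * ρ s := by
    rw [hN, Finset.sum_mul, Finset.mul_sum]
    exact Fintype.sum_equiv (MulAut.conjNormal (H := D) s).toEquiv _ _ fun x => by
      simp [← map_mul]
  have n3 : ∀ v ∈ Y, N v = 0 → v = 0 := fun v hv h0 => by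
    rw [hN, LinearMap.sum_apply, Finset.sum_congr rfl fun (k : D) _ => fx k k.2 v hv,
      Finset.sum_const, Finset.card_univ, ← Nat.cast_smul_eq_nsmul (ZMod p), smul_eq_zero,
      ZMod.natCast_eq_zero_iff, ← Nat.card_eq_fintype_card] at h0
    exact h0.resolve_left hp
  obtain ⟨i, hi, hK⟩ := hr.exists_eq_Vj (LinearMap.ker N) fun v hv => sub_mem (by
    rw [LinearMap.mem_ker] at hv ⊢
    rw [← Module.End.mul_apply, ← n2, Module.End.mul_apply, hv, map_zero]) hv
  have hb : LinearMap.ker N = ⊥ := by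
    rcases hi.eq_or_lt with rfl | hi
    · rw [hK, hr.Vj_eq_bot le_rfl]
    obtain ⟨v, v1, v2⟩ := hr.exists_mem (j := j + 1) (by omega)
    have v3 : v ∈ LinearMap.ker N := hK ▸ Vj_anti (by omega) v1
    have v4 := n3 v (hV ▸ Vj_anti (by omega) v1) v3
    exact (v2 (v4 ▸ zero_mem _)).elim
  rw [← MonoidHom.ker_eq_bot_iff, eq_bot_iff]
  intro k hk
  refine hρ (LinearMap.ext fun v => LinearMap.ker_eq_bot.1 hb ?_)
  rw [← Module.End.mul_apply, n1 k hk, map_one, Module.End.one_apply]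

theorem top (hρ : Function.Injective ρ) (hH : ¬ p ^ 2 ∣ Nat.card H) (hs : orderOf s = p)
    (hr : Reg (ρ s - 1) e) {l : ZMod p} (hl : l ≠ 1) (h1 : (ρ τ - 1) * (ρ τ - l • 1) = 0)
    (h2 : (ρ τ' - 1) * (ρ τ' - l • 1) = 0) (hD : closure ({τ, τ'} : Set H) = ⊤) :
    ∃ g : H, τ * (g * s * g⁻¹) * τ⁻¹ ∈ zpowers (g * s * g⁻¹) := by
  obtain ⟨π, hπ, e1⟩ := exists_idem hl h1
  obtain ⟨π', hπ', e2⟩ := exists_idem hl h2
  have inv : ∀ W : Submodule (ZMod p) V, (∀ v ∈ W, π v ∈ W) → (∀ v ∈ W, π' v ∈ W) →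
      ∀ h, ∀ v ∈ W, ρ h v ∈ W := fun W i1 i2 =>
    all_of (Q := fun a => ∀ v ∈ W, a v ∈ W) hD (fun _ hv => hv)
      (fun _ _ ha hb v hv => ha _ (hb v hv))
      (fun v hv => by rw [e1]; exact add_mem hv (W.smul_mem _ (i1 v hv)))
      (fun v hv => by rw [e2]; exact add_mem hv (W.smul_mem _ (i2 v hv)))
  have hc : Commute ((π - π') * (π - π')) (ρ s - 1) :=
    (all_of (Q := fun a => Commute ((π - π') * (π - π')) a) hD (Commute.one_right _)
      (fun _ _ ha hb => ha.mul_right hb)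
      (by rw [e1]; exact (Commute.one_right _).add_right ((comm_left hπ hπ').smul_right _))
      (by rw [e2]; exact (Commute.one_right _).add_right ((comm_right hπ hπ').smul_right _))
      s).sub_right (Commute.one_right _)
  obtain ⟨q, hq⟩ := hr.exists_aeval hc
  have hz : ∀ j, ∀ u ∈ Vj (ρ s - 1) j,
      ((π - π') * (π - π')) u - q.coeff 0 • u ∈ Vj (ρ s - 1) (j + 1) := fun j u hu => by
    have e3 : Polynomial.aeval (ρ s - 1) q =
        (ρ s - 1) * Polynomial.aeval (ρ s - 1) q.divX + algebraMap _ _ (q.coeff 0) := by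
      conv_lhs => rw [← q.X_mul_divX_add]
      rw [map_add, map_mul, Polynomial.aeval_X, Polynomial.aeval_C]
    rw [hq, e3, LinearMap.add_apply, Module.algebraMap_end_apply, add_sub_cancel_right,
      Module.End.mul_apply]
    exact apply_mem_Vj (up_of_commute (r := 0) (Bas.commute_aeval (Commute.refl _) _).symm
      (fun v _ => Bas.mem_zero v) j u hu)
  by_cases hc : q.coeff 0 = 0 ∨ q.coeff 0 = 1
  · have key : ∀ i ≤ e, (∀ v ∈ Vj (ρ s - 1) (e - i), π v ∈ Vj (ρ s - 1) (e - i)) ∧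
        ∀ v ∈ Vj (ρ s - 1) (e - i), π' v ∈ Vj (ρ s - 1) (e - i) := fun i => by
      induction i with
      | zero =>
        intro _
        rw [Nat.sub_zero, hr.Vj_eq_bot le_rfl]
        simp
      | succ i ih =>
        intro hi
        obtain ⟨i1, i2⟩ := ih (by omega)
        obtain ⟨j, hj⟩ : ∃ j, e - (i + 1) = j := ⟨_, rfl⟩
        rw [show e - i = j + 1 by omega] at i1 i2
        rw [hj]
        obtain ⟨u, u1, u2⟩ := hr.exists_mem (j := j) (by omega)
        obtain ⟨w, hw, a, b, ha, hb⟩ := eig hπ hπ' hc i1 u2 (hz j u u1)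
        have st : ∀ (φ : Module.End (ZMod p) V) (a : ZMod p),
            (∀ v ∈ Vj (ρ s - 1) (j + 1), φ v ∈ Vj (ρ s - 1) (j + 1)) →
            φ w - a • w ∈ Vj (ρ s - 1) (j + 1) →
            ∀ v ∈ Vj (ρ s - 1) (j + 1) ⊔ Submodule.span (ZMod p) {w},
              φ v ∈ Vj (ρ s - 1) (j + 1) ⊔ Submodule.span (ZMod p) {w} := by
          intro φ a f1 f2 v hv
          obtain ⟨y, hy, z, hz, rfl⟩ := Submodule.mem_sup.1 hv
          obtain ⟨t, rfl⟩ := Submodule.mem_span_singleton.1 hz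
          rw [map_add, map_smul, ← sub_add_cancel (φ w) (a • w)]
          exact add_mem (Submodule.mem_sup_left (f1 y hy)) (Submodule.smul_mem _ _
            (add_mem (Submodule.mem_sup_left f2) (Submodule.mem_sup_right
              (Submodule.smul_mem _ _ (Submodule.mem_span_singleton_self w)))))
        obtain ⟨k, hk, hV⟩ := hr.exists_eq_Vj _ fun v hv =>
          sub_mem (inv _ (st π a i1 ha) (st π' b i2 hb) s v hv) hv
        have := hr.bas_fin
        have d1 := Submodule.finrank_sup_span_singleton hw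
        rw [hV, hr.finrank_Vj, hr.finrank_Vj] at d1
        have e4 : k = j := by omega
        rw [← e4, ← hV]
        exact ⟨st π a i1 ha, st π' b i2 hb⟩
    refine ⟨1, ?_⟩
    rw [one_mul, inv_one, mul_one]
    refine flag hρ hH hs hr (fun j => ?_) τ
    rcases le_total j e with hj | hj
    · have := key (e - j) (by omega)
      rw [show e - (e - j) = j by omega] at this
      exact inv _ this.1 this.2
    · rw [hr.Vj_eq_bot hj]
      simp
  push Not at hc
  have e0 := hr.pos
  obtain ⟨u, u1, u2⟩ := hr.exists_mem (j := e - 1) (by omega)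
  have z1 := hz _ u u1
  rw [hr.Vj_eq_bot (by omega), Submodule.mem_bot] at z1 u2
  obtain ⟨Y, v, a, d, m, v0, ha, i1, i2⟩ := two hπ hπ' hc.1 hc.2 u2 z1
  have hY : ∀ h, Y ≤ Y.comap (ρ h) := inv Y i1 i2
  obtain ⟨g, hg⟩ := norm_two (ρ.subrepresentation Y hY) (faith hρ hH hs hr hY d) d (τ := τ) hs
    (v := ⟨v, m⟩) (fun k => v0 (congrArg Subtype.val k)) (c := 1 + (l - 1) * a) (Subtype.ext (by
      show ρ τ v = (1 + (l - 1) * a) • v
      rw [e1, LinearMap.add_apply, LinearMap.smul_apply, ha, add_smul, one_smul, smul_smul,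
        Module.End.one_apply]))
  exact ⟨g, (mem_normalizer_iff.1 hg _).1 (mem_zpowers _)⟩

end PairE

variable {p : ℕ} [Fact p.Prime] {H : Type*} [Group H] [Finite H] {V : Type*} [AddCommGroup V]
  [Module (ZMod p) V] [Finite V]

theorem norm_pair (ρ : Representation (ZMod p) H V) (hρ : Function.Injective ρ)
    (hH : ¬ p ^ 2 ∣ Nat.card H) {s τ τ' : H} {e : ℕ} (hs : orderOf s = p) (hr : Reg (ρ s - 1) e)
    {l : ZMod p} (hl : l ≠ 1) (h1 : (ρ τ - 1) * (ρ τ - l • 1) = 0)
    (h2 : (ρ τ' - 1) * (ρ τ' - l • 1) = 0) (hD : s ∈ closure ({τ, τ'} : Set H)) :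
    ∃ g : H, τ ∈ normalizer (zpowers (g * s * g⁻¹) : Set H) := by
  have m1 : τ ∈ closure ({τ, τ'} : Set H) := subset_closure (by simp)
  have m2 : τ' ∈ closure ({τ, τ'} : Set H) := subset_closure (by simp)
  obtain ⟨g, k, hk⟩ := PairE.top (ρ := ρ.comp (closure ({τ, τ'} : Set H)).subtype) (s := ⟨s, hD⟩)
    (τ := ⟨τ, m1⟩) (τ' := ⟨τ', m2⟩) (hρ.comp Subtype.val_injective)
    (fun k => hH (k.trans (card_subgroup_dvd_card _))) (by rw [← hs, orderOf_mk]) hr hl h1 h2 (by
      rw [← closure_closure_coe_preimage]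
      congr 1
      ext x
      simp [Subtype.ext_iff])
  refine ⟨g, mem_normalizer_fintype ?_⟩
  rintro _ ⟨n, rfl⟩
  have hk' : ((g : H) * s * (g : H)⁻¹) ^ k = τ * (g * s * (g : H)⁻¹) * τ⁻¹ := congrArg Subtype.val hk
  show τ * ((g : H) * s * (g : H)⁻¹) ^ n * τ⁻¹ ∈ zpowers _
  rw [← _root_.conj_zpow, ← hk']
  exact zpow_mem (zpow_mem (mem_zpowers _) k) n

end Cfsg.Agent.MxD
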