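import Mathlib
import Cfsg.Agent.MxD.Defs
import Cfsg.Agent.MxD.PairA
import Cfsg.Agent.MxD.PairB
import Cfsg.Agent.MxD.PairE
import Cfsg.Agent.MxD.Frob
import Cfsg.Agent.MxE.Bas
import Cfsg.Agent.Loc.MssSyl

/-! The torus element normalises a Sylow subgroup. -/

set_option autoImplicit false

namespace Cfsg.Agent.MxD

open Subgroup Cfsg.Agent.GT Cfsg.Agent.FG.MxC Cfsg.Agent.Fus Cfsg.Agent.Fus.R3 Cfsg.Agent.MxE
open Cfsg.FusionSystem hiding inv_mem
open scoped commutatorElement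

universe u

variable {p : ℕ} [Fact p.Prime] {H : Type*} [Group H] [Finite H] {V : Type*} [AddCommGroup V]
  [Module (ZMod p) V] [Finite V]

namespace PairC

open Cfsg.Agent.Loc.Mss

omit [Finite H] [Finite V] in
theorem quad_conj (ρ : Representation (ZMod p) H V) {τ : H} {l : ZMod p}
    (h : (ρ τ - 1) * (ρ τ - l • 1) = 0) (g : H) :
    (ρ (g * τ * g⁻¹) - 1) * (ρ (g * τ * g⁻¹) - l • 1) = 0 := by
  refine LinearMap.ext fun v => ?_
  have := congrArg (fun f : Module.End (ZMod p) V => ρ g (f (ρ g⁻¹ v))) h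
  simpa only [map_mul, Module.End.mul_apply, LinearMap.sub_apply, LinearMap.smul_apply,
    Module.End.one_apply, map_sub, map_smul, Representation.self_inv_apply,
    Representation.inv_self_apply, LinearMap.zero_apply, map_zero] using this

omit [Finite H] [Finite V] in
theorem pow_eq_one (ρ : Representation (ZMod p) H V) (hρ : Function.Injective ρ) {τ : H} {l : ZMod p}
    (hl1 : l ≠ 1) {k : ℕ} (hk : l ^ k = 1) (h : (ρ τ - 1) * (ρ τ - l • 1) = 0) : τ ^ k = 1 := by
  have h1 : ∀ v, ρ τ (ρ τ v - l • v) = ρ τ v - l • v := fun v =>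
    sub_eq_zero.1 (congrArg (fun f : Module.End (ZMod p) V => f v) h)
  have ek : ∀ (k : ℕ) v, ρ (τ ^ k) (ρ τ v - v) = l ^ k • (ρ τ v - v) := fun k v => by
    induction k with
    | zero => simp
    | succ k ih =>
      rw [pow_succ', map_mul, Module.End.mul_apply, ih, map_smul, pow_succ, mul_smul]
      have := h1 v
      rw [map_sub, map_smul] at this
      rw [map_sub]
      linear_combination (norm := module) (l ^ k) • this
  refine hρ (LinearMap.ext fun v => ?_)
  have dec : v = (l - 1)⁻¹ • (ρ τ v - v) - (l - 1)⁻¹ • (ρ τ v - l • v) := by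
    rw [← smul_sub, show ρ τ v - v - (ρ τ v - l • v) = (l - 1) • v by module, smul_smul,
      inv_mul_cancel₀ (sub_ne_zero.2 hl1), one_smul]
  rw [dec, map_sub, map_smul, map_smul, ek, hk, one_smul, map_pow, Module.End.pow_apply,
    Function.iterate_fixed (h1 v), map_one, Module.End.one_apply]

theorem exists_conj (hH : ¬ p ^ 2 ∣ Nat.card H) {s x : H} (hs : orderOf s = p) (hx : orderOf x = p) :
    ∃ (g : H) (i : ℕ), ¬ p ∣ i ∧ x = g * s ^ i * g⁻¹ := by
  have hS : Syl p (zpowers s) ⊤ := ⟨le_top, IsPGroup.of_card (n := 1) (by rw [Nat.card_zpowers, hs, pow_one]),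
    fun h => hH (by
      rw [relIndex_top_right] at h
      rw [← (zpowers s).card_mul_index, Nat.card_zpowers, hs, sq]
      exact Nat.mul_dvd_mul_left p h)⟩
  obtain ⟨g, -, hg⟩ := hS.le_conj (P := zpowers x)
    (IsPGroup.of_card (n := 1) (by rw [Nat.card_zpowers, hx, pow_one])) le_top
  obtain ⟨y, hy, e⟩ := hg (mem_zpowers x)
  obtain ⟨i, rfl⟩ := (mem_powers_iff_mem_zpowers.2 hy :)
  refine ⟨g, i, fun hi => ?_, e.symm⟩
  have h1 : s ^ i = 1 := orderOf_dvd_iff_pow_eq_one.1 (hs ▸ hi)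
  have h2 : x = 1 := by rw [← e]; simp [h1]
  rw [h2, orderOf_one] at hx
  exact (Fact.out : p.Prime).one_lt.ne hx

end PairC

open PairC in
theorem norm_sylow (hp : 5 ≤ p) (ρ : Representation (ZMod p) H V) (hρ : Function.Injective ρ)
    (hH : ¬ p ^ 2 ∣ Nat.card H) {s τ : H} {e : ℕ} (hs : orderOf s = p) (hr : Reg (ρ s - 1) e)
    (he : e < p) (h7 : 7 ≤ p ∨ e = 2) {l : ZMod p} (hl : orderOf l = p - 1)
    (h1 : (ρ τ - 1) * (ρ τ - l • 1) = 0) :
    ∃ g : H, τ ∈ normalizer (zpowers (g * s * g⁻¹) : Set H) := by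
  have hp1 : p.Prime := Fact.out
  have hl1 : l ≠ 1 := by
    rintro rfl
    rw [orderOf_one] at hl
    omega
  rcases h7 with h7 | rfl
  swap
  · have : Nontrivial V := Module.nontrivial_of_finrank_pos (R := ZMod p) (by rw [hr.dim]; omega)
    obtain ⟨v, hv⟩ := exists_ne (0 : V)
    by_cases h0 : ρ τ v - l • v = 0
    · exact norm_two ρ hρ hr.dim hs hv (sub_eq_zero.1 h0)
    · exact norm_two ρ hρ hr.dim hs h0 (c := 1) ((sub_eq_zero.1
        (congrArg (fun f : Module.End (ZMod p) V => f v) h1)).trans (one_smul _ _).symm)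
  by_contra hno
  have hc : ∀ g : H, Commute τ (g * τ * g⁻¹) := fun g => by
    refine commute_pair h7 ρ hρ hl h1 (quad_conj ρ h1 g) fun hd => hno ?_
    obtain ⟨x, hx⟩ := exists_prime_orderOf_dvd_card' p hd
    rw [← orderOf_coe] at hx
    obtain ⟨k, i, hi, e⟩ := exists_conj hH hs hx
    obtain ⟨g', hg'⟩ := norm_pair ρ hρ hH hx (e ▸ reg_conj ρ hr k hi) hl1 h1 (quad_conj ρ h1 g) x.2
    refine ⟨g' * k, ?_⟩
    have e2 : zpowers (g' * x * g'⁻¹) = zpowers (g' * k * s * (g' * k)⁻¹) := by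
      rw [e, show g' * (k * s ^ i * k⁻¹) * g'⁻¹ = (g' * k * s * (g' * k)⁻¹) ^ i by rw [conj_pow]; group]
      refine le_antisymm (zpowers_le.2 (pow_mem (mem_zpowers _) i)) (zpowers_le.2 ?_)
      rw [mem_zpowers_pow_iff, show orderOf (g' * k * s * (g' * k)⁻¹) = p from
        ((MulAut.conj (g' * k)).orderOf_eq s).trans hs]
      exact ((Nat.coprime_or_dvd_of_prime hp1 i).resolve_right hi).symm
    exact e2 ▸ hg'
  let B := closure (Set.range fun g : H => g * τ * g⁻¹)
  have hgen : ∀ x ∈ Set.range fun g : H => g * τ * g⁻¹, ∀ y ∈ Set.range fun g : H => g * τ * g⁻¹,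
      x * y = y * x := by
    rintro _ ⟨a, rfl⟩ _ ⟨b, rfl⟩
    have := (hc (a⁻¹ * b)).map (MulAut.conj a)
    simp only [MulAut.conj_apply] at this
    rw [show a * (a⁻¹ * b * τ * (a⁻¹ * b)⁻¹) * a⁻¹ = b * τ * b⁻¹ by group] at this
    exact this.eq
  have hab : ∀ x ∈ B, ∀ y ∈ B, Commute x y := fun x hx y hy =>
    congrArg Subtype.val ((isMulCommutative_closure hgen).is_comm.comm (⟨x, hx⟩ : B) ⟨y, hy⟩)
  have hτ : τ ^ (p - 1) = 1 := pow_eq_one ρ hρ hl1 (hl ▸ pow_orderOf_eq_one l) h1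
  have hexp : ∀ x ∈ B, x ^ (p - 1) = 1 := fun x hx => by
    induction hx using closure_induction with
    | mem x hx =>
      obtain ⟨g, rfl⟩ := hx
      simp only [conj_pow, hτ, mul_one, mul_inv_cancel]
    | one => exact one_pow _
    | mul x y hx hy ex ey => rw [(hab x hx y hy).mul_pow, ex, ey, one_mul]
    | inv x _ ex => rw [inv_pow, ex, inv_one]
  have hB : ¬ p ∣ Nat.card B := fun hd => by
    obtain ⟨x, hx⟩ := exists_prime_orderOf_dvd_card' p hd
    rw [← orderOf_coe] at hx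
    have := Nat.le_of_dvd (by omega) (hx ▸ orderOf_dvd_of_pow_eq_one (hexp x x.2))
    omega
  have hn : s ∈ normalizer (B : Set H) := by
    refine mem_normalizer_fintype fun x hx => ?_
    refine (closure_le (K := B.comap (MulAut.conj s).toMonoidHom)).2 ?_ hx
    rintro _ ⟨g, rfl⟩
    exact subset_closure ⟨s * g, by simp [mul_assoc]⟩
  have key := comm_of_abelian ρ hρ hn hB (hs ▸ pow_orderOf_eq_one s) hab
    (pow_eq_zero_of_le (by omega) hr.nil) τ (subset_closure ⟨1, by simp⟩)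
  refine hno ⟨1, mem_normalizer_fintype ?_⟩
  rintro _ ⟨k, rfl⟩
  simp only [one_mul, inv_one, mul_one]
  rw [(key.zpow_right k).eq, mul_inv_cancel_right]
  exact zpow_mem (mem_zpowers s) k

end Cfsg.Agent.MxD
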