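import Mathlib
import Cfsg.Agent.MxD.Defs
import Cfsg.Agent.MxD.LvA
import Cfsg.Agent.MxD.LvB
import Cfsg.Agent.MxD.Faith
import Cfsg.Agent.MxD.PairC
import Cfsg.Agent.MxD.N2c

/-! Non-exceptional case: the torus element normalises a Sylow subgroup of the model. -/

set_option autoImplicit false

namespace Cfsg.Agent.MxD

open Subgroup Cfsg.Agent.GT Cfsg.Agent.FG.MxC Cfsg.Agent.Fus Cfsg.Agent.Fus.R3 Cfsg.Agent.MxE
open Cfsg.FusionSystem hiding inv_mem
open scoped commutatorElement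

universe u

variable {G : Type u} [Group G] [Finite G] {p n : ℕ} [Fact p.Prime] {H : Type*} [Group H]
  [Finite H] {ι : G →* H}

namespace N2a

theorem two_le (h : MC p G n) (hna : ∃ x ∈ C G 1, ∃ y ∈ C G 1, ¬ Commute x y) {a : ℕ}
    (hY : ∀ v ∈ P G a, InY p v) : 2 ≤ a := by
  by_contra ha
  obtain ⟨x, hx, y, hy, hxy⟩ := hna
  obtain ⟨w, hw⟩ := h.exists_lv (j := 0) (by omega)
  have key : ∀ u ∈ C G 1, Commute w u → C G 1 ≤ centralizer ({u} : Set G) := fun u hu hc => by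
    change P G 0 ≤ _
    rw [← h.sup_lv hw]
    exact sup_le (fun v hv => mem_centralizer_singleton_iff.2
      ((hY v (P_anti (show a ≤ 0 + 1 by omega) hv)).2.1 u hu).eq) (zpowers_le.2 (mem_centralizer_singleton_iff.2 hc.eq))
  have h1 : Commute y w := mem_centralizer_singleton_iff.1 (key w hw.1 (Commute.refl w) hy)
  exact hxy (mem_centralizer_singleton_iff.1 (key y hy h1.symm hx))

theorem iter (h : MC p G n) {s : G} (hs : Unif n s) {a : ℕ} {y : G} (k : ℕ) :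
    (y ∈ P G a → (fun y => ⁅s, y⁆)^[k] y ∈ P G (a + k)) ∧
      (Lv y a → a + k ≤ n + 1 → Lv ((fun y => ⁅s, y⁆)^[k] y) (a + k)) := by
  induction k with
  | zero => exact ⟨id, fun h _ => h⟩
  | succ k ih =>
    rw [Function.iterate_succ_apply', ← commutatorElement_inv]
    refine ⟨fun hy => inv_mem (cm1 (ih.1 hy) s), fun hy hk => ?_⟩
    have := h.lv_comm (ih.2 hy (by omega)) hs.1 (by
      rcases Nat.lt_or_ge (a + k) n with e | e
      · exact Or.inl e
      · exact Or.inr ⟨by omega, hs.2⟩)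
    exact ⟨inv_mem this.1, fun e => this.2 (inv_mem_iff.1 e)⟩

end N2a

open N2a in
theorem Md.norm (hM : Md p ι) (h : MC p G n) (hp : 5 ≤ p) (hx : C G n = C G 1)
    (hna : ∃ x ∈ C G 1, ∃ y ∈ C G 1, ¬ Commute x y) {τ : H} {t : G → G}
    (ht : ∀ x ∈ C G 1, ι (t x) = τ * ι x * τ⁻¹) {l : ℕ} (ord : orderOf (l : ZMod p) = p - 1)
    (d2 : ∀ v, InY p v → t (t v * (v ^ l)⁻¹) = t v * (v ^ l)⁻¹ ∧ t v * v⁻¹ ∈ ⁅C G 1, C G 1⁆)
    {z : G} (hz : z ∈ center G) (hz1 : t z ≠ z)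
    (h5 : p = 5 → 4 ≤ n → ∃ x ∈ P G (n - 1), ∃ r ∈ C G 1, ¬ Commute x r) :
    ∃ g : H, g⁻¹ * τ * g ∈ normalizer (ι.range : Set H) := by
  have hp1 : p.Prime := Fact.out
  have hn2 : 2 ≤ n := by
    by_contra h2
    obtain rfl : n = 1 := by have := h.h1; omega
    obtain ⟨x, hx, y, hy, hxy⟩ := hna
    exact hxy (h.comm_one hx hy)
  obtain ⟨a, ha, hY, hYn⟩ := hM.exists_Y h
  have ha2 := two_le h hna fun v hv => (hY v).1 hv
  have han : a ≤ n := by
    by_contra hc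
    obtain ⟨x, hx1, hx2⟩ := h.exists_lv (j := n) (by omega)
    exact hx2 (P_anti (show n + 1 ≤ a by omega) ((hY x).2 ⟨P_le_C n hx1, fun r hr => h.mem_Q.1 (hx ▸ hr) x hx1,
      h.pow_P_n (by omega) hn2 hx1⟩))
  obtain ⟨y₀, hy₀⟩ := h.exists_lv ha
  have hep : n + 2 - a < p := by
    by_cases hpn : p ≤ n + 1
    · have h1 := (hY y₀).1 hy₀.1
      have h2 := h.mem_of_pow_eq_one hpn h1.1 h1.2.2
      by_contra hc
      exact hy₀.2 (P_anti (show a + 1 ≤ n + 3 - p by omega) h2)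
    · omega
  by_cases h7 : 7 ≤ p ∨ n + 2 - a = 2
  swap
  · exfalso
    have hp6 : p ≠ 6 := by
      rintro rfl
      exact absurd hp1 (by norm_num)
    by_cases h4 : 4 ≤ n
    · obtain ⟨x, hx, r, hr, hc⟩ := h5 (by omega) h4
      exact hc (((hY x).1 (P_anti (show a ≤ n - 1 by omega) hx)).2.1 r hr)
    · obtain rfl : n = 3 := by omega
      obtain rfl : a = 2 := by omega
      exact hz1 (hM.five h hna (fun x hx => (hY x).1 hx) ht (fun v hv => (d2 v hv).2) hz)
  have hE : IsElementaryAbelian p ((P G a).map ι) := by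
    refine ⟨⟨⟨?_⟩⟩, ?_⟩
    · rintro ⟨_, x, hx, rfl⟩ ⟨_, y, hy, rfl⟩
      exact Subtype.ext ((((hY x).1 hx).2.1 y ((hY y).1 hy).1).map ι).eq
    · rintro _ ⟨x, hx, rfl⟩
      rw [← map_pow, ((hY x).1 hx).2.2, map_one]
  have := hM.nR
  let ρ : Representation (ZMod p) (H ⧸ (C G 1).map ι) (EAV hE) :=
    QuotientGroup.lift _ (cRep hE) (by
      rintro _ ⟨r, hr, rfl⟩
      refine LinearMap.ext fun x => EAV.ext ?_
      obtain ⟨v, hv, e⟩ := x.val_mem
      rw [val_cRep, Module.End.one_apply, ← e, mul_inv_eq_iff_eq_mul]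
      exact ((((hY v).1 hv).2.1 r hr).map ι).symm.eq)
  have hρ : ∀ (g : H) (x : EAV hE), (ρ g x).val = g * x.val * g⁻¹ := fun g x => val_cRep hE g x
  have hinj : Function.Injective ρ := by
    refine (injective_iff_map_eq_one _).2 fun g hg => ?_
    obtain ⟨g, rfl⟩ := QuotientGroup.mk_surjective g
    refine (QuotientGroup.eq_one_iff _).2 (hM.faithful h hna (b := n + 2) (by omega) han (Or.inr hx) hYn
      (by rw [h.P_bot, Subgroup.map_bot]; infer_instance) (fun x hx' r hr => ?_) fun x hx' => ?_)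
    · rw [(((hY x).1 hx').2.1 r hr).commutator_eq]
      exact one_mem _
    · have := hρ g (EAV.mk hE (ι x) ⟨x, hx', rfl⟩)
      rw [hg, Module.End.one_apply] at this
      change ι x = g * ι x * g⁻¹ at this
      rw [← this, inv_mul_cancel]
      exact one_mem _
  have hsq : ¬ p ^ 2 ∣ Nat.card (H ⧸ (C G 1).map ι) := fun hd => by
    have h1 := ((C G 1).map ι).card_mul_index
    have h2 := ι.range.card_mul_index
    rw [card_map_of_injective hM.inj, h.cardR] at h1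
    rw [← Nat.card_congr (MonoidHom.ofInjective hM.inj).toEquiv, h.hn, ← h1, pow_succ, mul_assoc] at h2
    rw [← index_eq_card, ← Nat.eq_of_mul_eq_mul_left (pow_pos hp1.pos _) h2, sq] at hd
    exact hM.idx (Nat.dvd_of_mul_dvd_mul_left hp1.pos hd)
  obtain ⟨s, hs⟩ := h.exists_unif
  have hmk : ∀ x : G, ((ι x : H) : H ⧸ (C G 1).map ι) = 1 ↔ x ∈ C G 1 := fun x =>
    (QuotientGroup.eq_one_iff _).trans (mem_map_iff_mem hM.inj)
  have hso : orderOf ((ι s : H) : H ⧸ (C G 1).map ι) = p :=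
    orderOf_eq_prime (by rw [← QuotientGroup.mk_pow, ← map_pow, hmk]; exact h.pow_mem_R s)
      fun e => hs.1 ((hmk s).1 e)
  have hit : ∀ (k : ℕ) (y : G) (x : EAV hE), x.val = ι y →
      (((ρ (ι s : H) - 1) ^ k) x).val = ι ((fun y => ⁅s, y⁆)^[k] y) := fun k y x e => by
    induction k with
    | zero => exact e
    | succ k ih =>
      rw [pow_succ', Module.End.mul_apply, LinearMap.sub_apply, EAV.val_sub, hρ, Module.End.one_apply, ih,
        Function.iterate_succ_apply', map_commutatorElement, commutatorElement_def]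
  have hreg : Reg (ρ (ι s : H) - 1) (n + 2 - a) := by
    refine Reg.of_vec (v := EAV.mk hE (ι y₀) ⟨y₀, hy₀.1, rfl⟩) ?_ (LinearMap.ext fun x => ?_) fun e => ?_
    · have h1 := Module.natCard_eq_pow_finrank (K := ZMod p) (V := EAV hE)
      rw [EAV.card_eq, card_map_of_injective hM.inj, h.cardP (by omega), Nat.card_zmod] at h1
      exact (Nat.pow_right_injective hp1.two_le h1).symm
    · obtain ⟨v, hv, e⟩ := x.val_mem
      have h1 := (iter h hs (n + 2 - a)).1 hv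
      rw [show a + (n + 2 - a) = n + 2 by omega, h.P_bot, mem_bot] at h1
      exact EAV.val_eq_one_iff.1 (by rw [hit _ v x e.symm, h1, map_one])
    · have h1 := (iter h hs (n + 2 - a - 1)).2 hy₀ (by omega)
      have h2 := hit (n + 2 - a - 1) y₀ (EAV.mk hE (ι y₀) ⟨y₀, hy₀.1, rfl⟩) rfl
      rw [e, EAV.val_zero, eq_comm, map_eq_one_iff _ hM.inj] at h2
      exact h1.2 (h2 ▸ one_mem _)
  have hq : (ρ τ - 1) * (ρ τ - (l : ZMod p) • 1) = 0 := LinearMap.ext fun x => by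
    obtain ⟨v, hv, e⟩ := x.val_mem
    have hv' := (hY v).1 hv
    have h1 : t v ∈ P G a := (mem_map_iff_mem hM.inj).1 (ht v hv'.1 ▸ hYn.conj_mem _ ⟨v, hv, rfl⟩ τ)
    have h2 : ((ρ τ - (l : ZMod p) • 1 : Module.End (ZMod p) (EAV hE)) x).val = ι (t v * (v ^ l)⁻¹) := by
      rw [LinearMap.sub_apply, LinearMap.smul_apply, Module.End.one_apply, EAV.val_sub, hρ,
        EAV.val_natCast_smul, ← e, map_mul, map_inv, map_pow, ht v hv'.1]
    refine EAV.val_eq_one_iff.1 ?_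
    rw [Module.End.mul_apply, LinearMap.sub_apply (ρ τ) 1, EAV.val_sub, hρ, Module.End.one_apply, h2,
      ← ht _ (mul_mem (P_le_C a h1) (inv_mem (pow_mem hv'.1 l))), (d2 v hv').1, mul_inv_cancel]
  obtain ⟨g, hg⟩ := norm_sylow hp ρ hinj hsq hso hreg hep h7 ord hq
  obtain ⟨g, rfl⟩ := QuotientGroup.mk_surjective g
  have hr : ∀ x : H, x ∈ ι.range ↔ (x : H ⧸ (C G 1).map ι) ∈ zpowers ((ι s : H) : H ⧸ (C G 1).map ι) := by
    intro x
    constructor
    · rintro ⟨y, rfl⟩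
      have hy : y ∈ C G 1 ⊔ zpowers s := h.sup_R hs.1 ▸ mem_top y
      refine (sup_le (fun r hr => ?_) (zpowers_le.2 (mem_zpowers _)) :
        C G 1 ⊔ zpowers s ≤ (zpowers ((ι s : H) : H ⧸ (C G 1).map ι)).comap
          ((QuotientGroup.mk' _).comp ι)) hy
      change ((ι r : H) : H ⧸ (C G 1).map ι) ∈ zpowers ((ι s : H) : H ⧸ (C G 1).map ι)
      rw [(hmk r).2 hr]
      exact one_mem _
    · rintro ⟨k, hk⟩
      obtain ⟨r, -, e⟩ := QuotientGroup.eq.1 (show ((ι s ^ k : H) : H ⧸ (C G 1).map ι) = x from hk)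
      exact ⟨s ^ k * r, by rw [map_mul, map_zpow, e, mul_inv_cancel_left]⟩
  refine ⟨g, mem_normalizer_fintype fun x hx => (hr _).2 ?_⟩
  obtain ⟨k, hk⟩ := (hr x).1 hx
  obtain ⟨j, hj⟩ := (mem_normalizer_iff.1 hg _).1 (zpow_mem (mem_zpowers _) k)
  refine ⟨j, ?_⟩
  simp only [_root_.conj_zpow] at hj
  simp only [QuotientGroup.mk_mul, QuotientGroup.mk_inv, ← hk]
  rw [mul_inv_eq_iff_eq_mul, ← eq_inv_mul_iff_mul_eq] at hj
  rw [hj]
  group

end Cfsg.Agent.MxD
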