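import Mathlib
import Cfsg.Agent.MxD.Defs
import Cfsg.Agent.MxD.LvA
import Cfsg.Agent.MxD.LvB
import Cfsg.Agent.MxD.Wt

/-! Weights of the torus element. -/

set_option autoImplicit false

namespace Cfsg.Agent.MxD

open Subgroup Cfsg.Agent.GT Cfsg.Agent.FG.MxC Cfsg.Agent.Fus Cfsg.Agent.Fus.R3 Cfsg.Agent.MxE
open Cfsg.FusionSystem hiding inv_mem
open scoped commutatorElement

universe u

variable {G : Type u} [Group G] [Finite G] {p n : ℕ} [Fact p.Prime]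

namespace Wt4

omit [Finite G] in
theorem wz_nat {τ : G → G} {B : Subgroup G} {x : G} {l : ℕ} (h : (x ^ l)⁻¹ * τ x ∈ B) : Wz τ B x (l : ZMod p) :=
  ⟨l, Int.cast_natCast l, by rwa [R3.Wt, zpow_natCast]⟩

theorem alt (h : MC p G n) {α : MulAut G} {j l : ℕ} {w : ZMod p} (W : ∀ u ∈ P G j, Wz α (P G (j + 1)) u w) {v : G}
    (hv : Lv v j) (e : α (α v * (v ^ l)⁻¹) = α v * (v ^ l)⁻¹) :
    w = 1 ∨ (α v * (v ^ l)⁻¹ ∈ P G (j + 1) ∧ w = l) := by
  have hu := mul_mem (aut_mem_P α hv.1) (inv_mem (pow_mem hv.1 l))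
  by_cases k : α v * (v ^ l)⁻¹ ∈ P G (j + 1)
  · exact .inr ⟨k, (W v hv.1).uniq (wz_nat ((P_normal _).mem_comm k)) hv.2 (h.pow_mem hv.1)⟩
  · exact .inl ((W _ hu).uniq (wz_one (by rw [e, inv_mul_cancel]; exact one_mem _)) k (h.pow_mem hu))

theorem sec (h : MC p G n) {α : MulAut G} {w : ℕ → ZMod p}
    (W : ∀ j ≤ n + 1, ∀ u ∈ P G j, Wz α (P G (j + 1)) u (w j)) {E : Subgroup G} (mem : ∀ x ∈ E, α x ∈ E) {y : G}
    (hy : y ∈ C G 1) (hyE : y ∉ E) {N : ℕ} (d : α y * (y ^ N)⁻¹ ∈ E) : ∃ k, w k = N := by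
  classical
  have h0 : ∃ k, ¬ ∃ e ∈ E, e⁻¹ * y ∈ P G (k + 1) := ⟨n + 1, fun ⟨e, he, k⟩ => hyE (by
    rw [h.P_bot, mem_bot, inv_mul_eq_one] at k; exact k ▸ he)⟩
  have hk : Nat.find h0 ≤ n + 1 := Nat.find_min' h0 fun ⟨e, he, k⟩ => hyE (by
    rw [h.P_bot, mem_bot, inv_mul_eq_one] at k; exact k ▸ he)
  have h1 := Nat.find_spec h0
  have h2 : ∃ e ∈ E, e⁻¹ * y ∈ P G (Nat.find h0) := by
    rcases e : Nat.find h0 with _ | k
    · exact ⟨1, one_mem _, by rwa [inv_one, one_mul]⟩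
    · exact not_not.1 (Nat.find_min h0 (e ▸ k.lt_succ_self))
  generalize Nat.find h0 = k at hk h1 h2
  obtain ⟨e, he, hx⟩ := h2
  obtain ⟨x, rfl⟩ : ∃ x, y = e * x := ⟨e⁻¹ * y, (mul_inv_cancel_left ..).symm⟩
  rw [inv_mul_cancel_left] at hx
  set π := QuotientGroup.mk' (P G (k + 1))
  have le : P G (k + 1) ≤ (E.map π).comap π := fun a ha => by
    rw [mem_comap, show π a = 1 from (QuotientGroup.eq_one_iff a).2 ha]; exact one_mem _
  have c : ∀ g, Commute (π x) (π g) := fun g => by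
    rw [← commutatorElement_eq_one_iff_commute, ← map_commutatorElement]
    exact (QuotientGroup.eq_one_iff _).2 (cm1 hx g)
  refine ⟨k, ((W k hk x hx).mono le).uniq (wz_nat ⟨(α e)⁻¹ * (α (e * x) * ((e * x) ^ N)⁻¹) * e ^ N,
    mul_mem (mul_mem (inv_mem (mem e he)) d) (pow_mem he N), ?_⟩) (fun ⟨f, hf, k⟩ => h1 ⟨e * f, mul_mem he hf, ?_⟩)
    (le (h.pow_mem hx))⟩
  · simp only [map_mul, map_inv, map_pow]
    rw [(c e).symm.mul_pow, ((c (α x)).pow_left N).inv_left.eq]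
    group
  · rw [mul_inv_rev, mul_assoc, inv_mul_cancel_left]
    exact QuotientGroup.eq.1 k

end Wt4

open Wt4

theorem MC.w4 (h : MC p G n) (hp : 5 ≤ p) (h2 : 2 ≤ n) (hx : C G n = C G 1) (α : MulAut G)
    {l m : ℕ} (ord : orderOf (l : ZMod p) = p - 1) (inv : (m : ZMod p) * l = 1) {E : Subgroup G}
    (hE : E ≤ C G 1) (mem : ∀ x ∈ E, α x ∈ E)
    (d2 : ∀ v, InY p v → α (α v * (v ^ l)⁻¹) = α v * (v ^ l)⁻¹)
    {z : G} (hz : z ∈ center G) (hz1 : α z ≠ z)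
    (d3 : α z = z ^ l → ∃ u ∈ C G 1, u ^ p = 1 ∧ α u = u ^ m ∧
      ∀ x ∈ C G 1, Commute x u ↔ x ∈ E)
    {y : G} (hy : y ∈ C G 1) (hyE : y ∉ E) (d4 : α y * (y ^ l ^ 2)⁻¹ ∈ E) : E.Normal := by
  obtain ⟨a, b, c, -, W0, Wc, hc, -⟩ := h.wts α
  have W : ∀ j ≤ n + 1, ∀ u ∈ P G j, Wz α (P G (j + 1)) u (b * a ^ j) := fun j hj u hu => by
    rcases hj.eq_or_lt with rfl | hj
    · rw [← hc hx, h.P_bot]; exact Wc u (h.P_center ▸ hu)
    · exact W0 j (by omega) u hu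
  have l0 : (l : ZMod p) ≠ 0 := right_ne_zero_of_mul_eq_one inv
  have cn : ∀ x ∈ P G n, ∀ r ∈ C G 1, Commute x r := fun x hx' r hr => h.mem_Q.1 (hx ▸ hr) x hx'
  have zl : Lv z (n + 1) := ⟨h.P_center ▸ hz, fun k => hz1 (by rw [h.P_bot, mem_bot] at k; rw [k, map_one])⟩
  obtain ⟨e1, e2⟩ := (alt h (W _ le_rfl) zl (d2 z ⟨P_le_C _ zl.1, fun x _ => (mem_center_iff.1 hz x).symm,
    h.pow_center hz⟩)).resolve_left fun k => hz1 (by
      have := (k ▸ W _ le_rfl z zl.1).one (h.pow_mem zl.1)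
      rw [h.P_bot, mem_bot, inv_mul_eq_one] at this
      exact this.symm)
  rw [h.P_bot, mem_bot, mul_inv_eq_one] at e1
  obtain ⟨x, xl⟩ := h.exists_lv (j := n) (by omega)
  rcases alt h (W n (by omega)) xl (d2 x ⟨P_le_C _ xl.1, cn x xl.1, h.pow_P_n (by omega) h2 xl.1⟩) with e3 | ⟨-, e3⟩
  swap
  · obtain ⟨k, e4⟩ := sec h (w := fun j => b * a ^ j) W mem hy hyE d4
    rw [pow_succ, ← mul_assoc, e3, mul_eq_left₀ l0] at e2
    rw [e2, one_pow, mul_one] at e3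
    rw [e2, one_pow, mul_one, e3, Nat.cast_pow, pow_two, eq_comm, mul_eq_left₀ l0] at e4
    rw [e4, orderOf_one] at ord
    omega
  rw [pow_succ, ← mul_assoc, e3, one_mul] at e2
  subst e2
  obtain ⟨u, hu, up, e4, cu⟩ := d3 e1
  obtain ⟨k, hk, ul⟩ := h.exists_lv_of hu fun k => hyE ((cu y hy).1 (k ▸ Commute.one_right y))
  have e5 := (W k hk u ul.1).uniq (wz_nat (l := m) (by rw [e4, inv_mul_cancel]; exact one_mem _)) ul.2 (h.pow_mem ul.1)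
  have e6 : (l : ZMod p) ^ (k + 1) = (l : ZMod p) ^ n := mul_left_cancel₀ (left_ne_zero_of_mul_eq_one e3) (by
    rw [pow_succ, ← mul_assoc, e5, inv, e3])
  have key : ∀ i j, (l : ZMod p) ^ i = (l : ZMod p) ^ j → i < j → i + (p - 1) ≤ j := fun i j e ij => by
    obtain ⟨d, rfl⟩ := Nat.exists_eq_add_of_le ij.le
    rw [pow_add, eq_comm, mul_eq_left₀ (pow_ne_zero _ l0), ← orderOf_dvd_iff_pow_eq_one, ord] at e
    have := Nat.le_of_dvd (by omega) e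
    omega
  rcases lt_trichotomy (k + 1) n with k1 | rfl | k1
  · have := key _ _ e6 k1
    exact absurd (up ▸ one_mem _) (h.pow_lv (by omega) ul (by omega)).2
  · have : E = C G 1 ⊓ centralizer {u} := by
      ext x
      rw [mem_inf, mem_centralizer_singleton_iff]
      exact ⟨fun k => ⟨hE k, (cu x (hE k)).2 k⟩, fun k => (cu x k.1).1 k.2⟩
    exact this ▸ h.normal_cent ul.1 cn
  · have := key _ _ e6.symm k1
    omega

end Cfsg.Agent.MxD
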