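import Mathlib
import Cfsg.Agent.MxD.Defs
import Cfsg.Agent.MxD.LvA
import Cfsg.Agent.MxD.LvB
import Cfsg.Agent.MxD.Br
import Cfsg.Agent.MxD.B0
import Cfsg.Agent.MxD.B1
import Cfsg.Agent.MxD.Mod
import Cfsg.Agent.MxD.N1b
import Cfsg.Agent.MxD.N2a
import Cfsg.Agent.MxD.Faith
import Cfsg.Agent.MxD.Wt4

/-! Non-exceptional case: the contradiction. -/

set_option autoImplicit false

namespace Cfsg.Agent.MxD

open Subgroup Cfsg.Agent.GT Cfsg.Agent.FG.MxC Cfsg.Agent.Fus Cfsg.Agent.Fus.R3 Cfsg.Agent.MxE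
open Cfsg.FusionSystem hiding inv_mem
open scoped commutatorElement

universe u

variable {G : Type u} [Group G] [Finite G] {p n : ℕ} [Fact p.Prime]
  {F : FusionSystem (⊤ : Subgroup G)} {E : Subgroup G}

namespace N2b

theorem five (h : CB F p n E) (h5 : p = 5) (h4 : 4 ≤ n) : ∃ x ∈ P G (n - 1), ∃ r ∈ C G 1, ¬ Commute x r := by
  by_contra hc
  obtain ⟨u, hu, up, -, cu⟩ := h.exists_u
  have h1 := h.mc.mem_of_pow_eq_one (by omega) (h.lt_R.le hu) up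
  have h2 := h.mc.normal_cent h1 fun x hx r hr => by_contra fun e =>
    hc ⟨x, (show n + 3 - p + 1 = n - 1 by omega) ▸ hx, r, hr, e⟩
  refine h.mc.not_normal h.hp h.sat h.bad ?_
  rwa [show C G 1 ⊓ centralizer ({u} : Set G) = E from le_antisymm
    (fun x hx => (cu x).1 (mem_centralizer_singleton_iff.1 hx.2))
    (le_inf h.lt_R.le fun x hx => mem_centralizer_singleton_iff.2 ((cu x).2 hx))] at h2

end N2b

theorem CB.nexc_false (h : CB F p n E) (hx : C G n = C G 1) : False := by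
  obtain ⟨t, l, m, d⟩ := h.exists_nd
  obtain ⟨H, _, _, ι, hM, e1, e2⟩ := h.mc.exists_md h.sat
  obtain ⟨τ, hτ⟩ := e1 t d.iso
  obtain ⟨z, hz, z1⟩ := h.mc.exists_lv (j := n + 1) le_rfl
  have zR : z ∈ C G 1 := P_anti (Nat.zero_le _) hz
  rw [h.mc.P_center] at hz
  have z1 : z ≠ 1 := fun e => z1 (e ▸ one_mem _)
  obtain ⟨g, hg⟩ := hM.norm h.mc h.hp hx h.nonab hτ d.ord d.d2 hz
    (d.d3 _ (iso_id F le_top) z hz z1).1 (N2b.five h)
  obtain ⟨α, hα⟩ := hM.exists_aut hg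
  obtain ⟨k, hk, ek⟩ := e2 g
  obtain ⟨k', hk', kk, kk'⟩ := hk.inv
  have aR : ∀ x ∈ C G 1, α x ∈ C G 1 := fun x hx => aut_mem_P α (i := 0) hx
  have kR := fun x (hx : x ∈ C G 1) => hk.maps x hx
  have kR' := fun x (hx : x ∈ C G 1) => hk'.maps x hx
  have ka : ∀ x ∈ C G 1, k (α x) = t (k x) := fun x hx => hM.inj (by
    rw [ek _ (aR x hx), hα, hτ _ (kR x hx), ek x hx]; group)
  have mE : ∀ x ∈ C G 1, x ∈ img k' E ↔ k x ∈ E := fun x hx => by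
    rw [← hk'.mor.mem_img_iff h.lt_R.le (kR x hx), kk x hx]
  have c := h.conj hk'
  have kw : ∀ x ∈ C G 1, ∀ j : ℕ, k (α x * (x ^ j)⁻¹) = t (k x) * (k x ^ j)⁻¹ := fun x hx j => by
    rw [hk.mor.map_mul (aR x hx) (inv_mem (pow_mem hx j)), hk.mor.map_inv (pow_mem hx j), hk.mor.map_pow hx, ka x hx]
  have wR : ∀ x ∈ C G 1, ∀ j : ℕ, α x * (x ^ j)⁻¹ ∈ C G 1 := fun x hx j =>
    mul_mem (aR x hx) (inv_mem (pow_mem hx j))
  obtain ⟨y, hy, yE, y4⟩ := d.d4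
  obtain ⟨d31, d32⟩ := d.d3 k hk z hz z1
  refine h.mc.not_normal h.hp h.sat c.bad (h.mc.w4 h.hp (h.mc.two_le h.bad) hx α d.ord d.inv c.lt_R.le
    (fun x hx => ?_) (fun v hv => ?_) hz (fun e => d31 (by rw [← ka z zR, e])) (fun e => ?_) (kR' y hy)
    (fun e => yE ?_) ?_)
  · have h1 := c.lt_R.le hx
    rw [mE _ (aR x h1), ka x h1]
    exact d.mem _ ((mE x h1).1 hx)
  · refine hk.mor.inj (aR _ (wR v hv.1 l)) (wR v hv.1 l) ?_
    rw [ka _ (wR v hv.1 l), kw v hv.1]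
    refine (d.d2 _ ⟨kR v hv.1, fun x hx => ?_, by rw [← hk.mor.map_pow hv.1, hv.2.2, hk.mor.map_one]⟩).1
    rw [← kk' x hx]
    exact (hk.mor.commute_iff hv.1 (kR' x hx)).2 (hv.2.1 _ (kR' x hx))
  · obtain ⟨u, hu, up, tu, cu⟩ := d32 (by rw [← ka z zR, e, hk.mor.map_pow zR])
    refine ⟨k' u, kR' u hu, by rw [← hk'.mor.map_pow hu, up, hk'.mor.map_one], ?_, fun x hx => ?_⟩
    · refine hk.mor.inj (aR _ (kR' u hu)) (pow_mem (kR' u hu) m) ?_
      rw [ka _ (kR' u hu), hk.mor.map_pow (kR' u hu), kk' u hu, tu]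
    · rw [mE x hx, ← cu]
      have := hk.mor.commute_iff hx (kR' u hu)
      rw [kk' u hu] at this
      exact this.symm
  · rwa [mE _ (kR' y hy), kk' y hy] at e
  · rw [mE _ (wR _ (kR' y hy) _), kw _ (kR' y hy), kk' y hy]
    exact y4

end Cfsg.Agent.MxD
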