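import Mathlib
import Cfsg.Agent.MxD.Defs
import Cfsg.Agent.MxD.LvA
import Cfsg.Agent.MxD.LvB
import Cfsg.Agent.MxD.Br

/-! The primes two and three. -/

set_option autoImplicit false

namespace Cfsg.Agent.MxD

open Subgroup Cfsg.Agent.GT Cfsg.Agent.FG.MxC Cfsg.Agent.Fus Cfsg.Agent.Fus.R3 Cfsg.Agent.MxE
open Cfsg.FusionSystem hiding inv_mem
open scoped commutatorElement

universe u

variable {G : Type u} [Group G] [Finite G] {p n : ℕ} [Fact p.Prime]
  {F : FusionSystem (⊤ : Subgroup G)} {E : Subgroup G}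

namespace Small

theorem pow_pow_mem (h : MC p G n) (hpn : p ≤ n + 1) (k : ℕ) {x : G} {j : ℕ} (hx : x ∈ P G j) :
    x ^ p ^ k ∈ P G (j + k * (p - 1)) := by
  induction k with
  | zero => simpa using hx
  | succ k ih => rw [pow_succ, pow_mul, add_mul, one_mul, ← add_assoc]; exact h.pow_mem' hpn ih

theorem mem_of_pow (h : MC p G n) (hpn : p ≤ n + 1) (k : ℕ) {x : G} (hx : x ∈ C G 1) (e : x ^ p ^ k = 1) :
    x ∈ P G (n + 2 - k * (p - 1)) := by
  have h2 := (Fact.out : p.Prime).two_le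
  induction k generalizing x with
  | zero =>
    rw [pow_zero, pow_one] at e
    rw [e]; exact one_mem _
  | succ k ih =>
    by_cases h1 : x = 1
    · rw [h1]; exact one_mem _
    obtain ⟨j, hj, hl⟩ := h.exists_lv_of hx h1
    have h3 := ih (pow_mem hx p) (by rw [← pow_mul, ← pow_succ', e])
    refine P_anti ?_ hl.1
    rw [add_mul, one_mul]
    by_cases hc : j + p ≤ n + 2
    · by_contra hn
      exact (h.pow_lv hpn hl hc).2 (P_anti (by omega) h3)
    · omega

theorem invA (h : MC p G n) (hpn : p ≤ n + 1) (hE : E ≤ C G 1) (A : Subgroup (MulAut E)) (k : ℕ) :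
    InvA A (E ⊓ P G (n + 2 - k * (p - 1))) := by
  refine ⟨inf_le_left, fun α _ x hx => ?_⟩
  obtain ⟨h1, h2⟩ := mem_inf.1 hx
  refine mem_inf.2 ⟨totA_mem α h1, mem_of_pow h hpn k (hE (totA_mem α h1)) ?_⟩
  have h3 : x ^ p ^ k ∈ P G (n + 2) := P_anti (by omega) (pow_pow_mem h hpn k h2)
  rw [h.P_bot, mem_bot] at h3
  rw [← (mulOn_totA α).map_pow h1, h3, (mulOn_totA α).map_one]

end Small

theorem MC.small (h : MC p G n) (hp : p ≤ 3) (hF : F.IsSaturated p) : ¬ Bad F p n E := fun hE => by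
  have h2 := h.two_le hE
  have hp2 := (Fact.out : p.Prime).two_le
  have hpn : p ≤ n + 1 := by omega
  have hQ : C G n = C G 1 := by
    by_contra hx
    have := h.exc hx
    omega
  have hlt : E < C G 1 := hE.2.elim id fun e => hQ ▸ e
  obtain ⟨w, hw, hwE⟩ := SetLike.exists_of_lt (lt_normalizerIn (h.pG.to_subgroup _) hlt)
  obtain ⟨hwR, hwN⟩ := mem_normalizerIn.1 hw
  refine hwE (hE.1.mem_of_chain h.pT (fun i => E ⊓ P G (n + 2 - (n + 2 - i) * (p - 1))) (n + 2) ?_ ?_
    (fun i hi => inf_le_inf_left _ (P_anti ?_)) (fun i _ => Small.invA h hpn hlt.le _ _)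
    (mem_normalizerIn.2 ⟨trivial, hwN⟩) fun i hi x hx => ?_)
  · have : n + 2 - (n + 2 - 0) * (p - 1) = 0 :=
      Nat.sub_eq_zero_of_le (Nat.le_mul_of_pos_right _ (by omega))
    simp only [this]
    exact inf_eq_left.2 hlt.le
  · simp only [Nat.sub_self, zero_mul, Nat.sub_zero, h.P_bot]
    exact inf_le_right.trans bot_le
  · exact Nat.sub_le_sub_left (Nat.mul_le_mul_right _ (by omega)) _
  · obtain ⟨h1, h3⟩ := mem_inf.1 hx
    refine mem_inf.2 ⟨mul_mem (inv_mem h1) ((mem_normalizer_iff.1 hwN x).1 h1), ?_⟩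
    have h4 := h.cm2 (inv_mem h3) hwR (Or.inr hQ)
    rw [commutatorElement_def, inv_inv, mul_assoc, mul_assoc, ← mul_assoc w] at h4
    refine P_anti ?_ h4
    rw [show n + 2 - i = n + 2 - (i + 1) + 1 by omega, add_mul, one_mul]
    omega

end Cfsg.Agent.MxD
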