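import Mathlib
import Cfsg.Agent.MxD.Defs
import Cfsg.Agent.MxD.LvA
import Cfsg.Agent.MxD.Exc
import Cfsg.Agent.MxD.B0
import Cfsg.Agent.MxE.QB

/-! Exceptional case: the transvection. -/

set_option autoImplicit false

namespace Cfsg.Agent.MxD

open Subgroup Cfsg.Agent.GT Cfsg.Agent.FG.MxC Cfsg.Agent.Fus Cfsg.Agent.Fus.R3 Cfsg.Agent.MxE
open Cfsg.FusionSystem hiding inv_mem
open scoped commutatorElement

universe u

variable {G : Type u} [Group G] [Finite G] {p n : ℕ} [Fact p.Prime]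
  {F : FusionSystem (⊤ : Subgroup G)} {E : Subgroup G}

namespace XA

theorem lv_le (h : MC p G n) {x : G} {j : ℕ} (hx : Lv x j) (hc : x ∉ center G) : j ≤ n := by
  have := h.lv_le hx
  by_contra hj
  rw [show j = n + 1 by omega] at hx
  exact hc (h.P_center ▸ hx.1)

omit [Finite G] in
theorem totA_cm (g : MulAut E) {x y : G} (hx : x ∈ E) (hy : y ∈ E) : totA g ⁅x, y⁆ = ⁅totA g x, totA g y⁆ := by
  rw [show x = ((⟨x, hx⟩ : E) : G) from rfl, show y = ((⟨y, hy⟩ : E) : G) from rfl, totA_coe, totA_coe]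
  exact (totA_coe g ⁅(⟨x, hx⟩ : E), ⟨y, hy⟩⁆).trans (by rw [map_commutatorElement]; rfl)

omit [Finite G] in
theorem totA_zp (g : MulAut E) {z c : G} (hz : z ∈ E) (hc : c ∈ zpowers z) : totA g c ∈ zpowers (totA g z) := by
  obtain ⟨k, rfl⟩ := hc
  rw [totA_apply g hz]
  exact ⟨k, ((totA_coe g ((⟨z, hz⟩ : E) ^ k)).trans (by rw [map_zpow]; rfl)).symm⟩

end XA

open XA

theorem CB.exc_y (h : CB F p n E) (hx : C G n ≠ C G 1) {g : MulAut E} (hg : g ∈ F.autGroup E)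
    (hM : g ∉ F.extAut E) {z : G} (hz : z ∈ center G) (h1 : z ≠ 1) :
    ∃ (y : G) (a : ℕ), a ≤ n ∧ Lv y (n - a) ∧ y ∉ E ∧ y ∈ normalizer (E : Set G) ∧ E ≤ P G a ∧
      (∀ x ∈ E, ⁅x, y⁆ ∈ zpowers z) ∧ (∀ x ∈ E, Commute x y ↔ x ∈ P G (a + 1)) ∧
      ¬ Commute (totA g z) y ∧ ¬ Commute (totA g⁻¹ z) y := by
  classical
  have mc := h.mc
  have hR := h.lt_R
  have cz : ∀ {w : G}, w ∈ center G → ∀ x, Commute w x := fun hw x => (mem_center_iff.1 hw x).symm
  have ZE : center G ≤ E := by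
    obtain ⟨u, -, -, -, hu⟩ := h.exists_u
    exact fun w hw => (hu w).1 (cz hw u)
  have zE := ZE hz
  have cu := h.cent hg hM zE (fun x _ => cz hz x) (h.fix_z hz h1)
  have cu' := h.cent (inv_mem hg) (fun k => hM (by simpa using inv_mem k)) zE (fun x _ => cz hz x) (h.fix_z hz h1)
  have uE := totA_mem g zE
  have uZ : totA g z ∉ center G := fun k => hR.not_ge fun x _ => (cu x).1 (cz k x).symm
  have up := pow_totA (α := g) zE (mc.pow_center hz)
  have ex : ∃ a, ∃ x ∈ E, Lv x a := by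
    obtain ⟨j, -, hj⟩ := mc.exists_lv_of (hR.le zE) h1
    exact ⟨j, z, zE, hj⟩
  obtain ⟨x3, x3E, x3l⟩ := Nat.find_spec ex
  have hmin : ∀ x ∈ E, ∀ j, Lv x j → Nat.find ex ≤ j := fun x hx j hj => Nat.find_min' ex ⟨x, hx, hj⟩
  generalize Nat.find ex = a at x3l hmin
  have EP : E ≤ P G a := fun x hx => by
    by_cases e : x = 1
    · rw [e]; exact one_mem _
    obtain ⟨j, -, hj⟩ := mc.exists_lv_of (hR.le hx) e
    exact P_anti (hmin x hx j hj) hj.1
  have an : a ≤ n := by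
    obtain ⟨j, -, hj⟩ := mc.exists_lv_of (hR.le uE) fun e => uZ (e ▸ one_mem _)
    exact (hmin _ uE j hj).trans (lv_le mc hj uZ)
  obtain ⟨y, yl⟩ := mc.exists_lv (j := n - a) (by omega)
  have cy : ∀ x ∈ E, ⁅x, y⁆ ∈ center G := fun x hx => mc.cm_center (EP hx) yl.1 (by omega)
  have cy' : ∀ x ∈ E, ⁅x, y⁆ ∈ zpowers z := fun x hx => mc.center_eq hz h1 ▸ cy x hx
  have yE : y ∉ E := fun yE => by
    have k : ∀ x ∈ E, ⁅x, totA g y⁆ ∈ zpowers (totA g z) := fun x hx => by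
      rw [← totA_totA_inv g hx, ← totA_cm g (totA_mem _ hx) yE]
      exact totA_zp g zE (cy' _ (totA_mem _ hx))
    have k1 : ⁅totA g x3, totA g y⁆ ≠ 1 := fun e => by
      rw [← totA_cm g x3E yE, totA_eq_one_iff g (ZE (cy x3 x3E))] at e
      exact mc.x2 hx x3l yl (by omega) (commutatorElement_eq_one_iff_commute.1 e)
    have yZ : totA g y ∉ center G := fun e => k1 (commutatorElement_eq_one_iff_commute.2 (cz e _).symm)
    obtain ⟨b, -, hb⟩ := mc.exists_lv_of (hR.le (totA_mem g yE)) fun e => yZ (e ▸ one_mem _)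
    have bn := lv_le mc hb yZ
    have uP : totA g z ∈ P G (b + 1) :=
      zpowers_le.2 (cm_swap (cm1 hb.1 _)) (QB.mem_zpowers_of_ne_one up (k _ (totA_mem g x3E)) k1)
    obtain ⟨x4, x4l⟩ := mc.exists_lv (j := n - b) (by omega)
    have x4E := (cu x4).1 (mc.commute_of_add x4l.1 uP (by omega))
    exact uZ (zpowers_le.2 (mc.cm_center x4l.1 hb.1 (by omega)) (QB.mem_zpowers_of_ne_one up (k _ x4E) fun e =>
      mc.x2 hx x4l hb (by omega) (commutatorElement_eq_one_iff_commute.1 e)))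
  refine ⟨y, a, an, yl, yE, mem_normalizer_fintype fun x hx => ?_, EP, cy', fun x hx' => ⟨fun c => ?_, fun k =>
    mc.commute_of_add k yl.1 (by omega)⟩, fun c => yE ((cu y).1 c.symm), fun c => yE ((cu' y).1 c.symm)⟩
  · rw [show y * x * y⁻¹ = ⁅x, y⁆⁻¹ * x by simp only [commutatorElement_def]; group]
    exact mul_mem (inv_mem (ZE (cy x hx))) hx
  · by_contra k
    exact mc.x2 hx ⟨EP hx', k⟩ yl (by omega) c

end Cfsg.Agent.MxD
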