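import Mathlib
import Cfsg.Agent.MxD.Defs

/-! Exceptional case: the central involution of two transvections. -/

set_option autoImplicit false

namespace Cfsg.Agent.MxD

open Subgroup Cfsg.Agent.GT Cfsg.Agent.FG.MxC Cfsg.Agent.Fus Cfsg.Agent.Fus.R3 Cfsg.Agent.MxE
open Cfsg.FusionSystem hiding inv_mem
open scoped commutatorElement

universe u

namespace XB

variable {H : Type*} [Group H]

theorem core {a b : MulAut H} {z u : H} (c : Commute u z) (az : a z = z) (au : a u = u * z) (bu : b u = u)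
    (bz : b z = z * u⁻¹) (ha : ∀ x, x⁻¹ * a x ∈ zpowers z) (hb : ∀ x, x⁻¹ * b x ∈ zpowers u)
    (cz : ∀ x, Commute x z) (cu : ∀ x, Commute x u) :
    ∃ t ∈ closure ({a, b} : Set (MulAut H)), t z = z⁻¹ ∧ t u = u⁻¹ ∧ t * a = a * t ∧
      ∀ x, a x = x → x⁻¹ * t x ∈ zpowers z := by
  have ma : a ∈ closure ({a, b} : Set (MulAut H)) := subset_closure (by simp)
  have mb : b ∈ closure ({a, b} : Set (MulAut H)) := subset_closure (by simp)
  obtain ⟨w, hw⟩ : ∃ w, w = a * b * a := ⟨_, rfl⟩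
  have wa : ∀ x, w x = a (b (a x)) := fun x => hw ▸ rfl
  have wz : w z = u⁻¹ := by
    rw [wa, az, bz, map_mul, map_inv, az, au, mul_inv_rev, mul_inv_cancel_left]
  have wu : w u = z := by
    rw [wa, au, map_mul, bu, bz, ← mul_assoc, c.eq, mul_inv_cancel_right, az]
  have tz : (w * w) z = z⁻¹ := by rw [MulAut.mul_apply, wz, map_inv, wu]
  have tu : (w * w) u = u⁻¹ := by rw [MulAut.mul_apply, wu, wz]
  have h4 : ∀ x, a x = x → x⁻¹ * (w * w) x ∈ zpowers z := fun x hx => by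
    obtain ⟨j, hj⟩ := mem_zpowers_iff.1 (hb x)
    have e1 : a (x * z ^ j) = x * z ^ j := by rw [map_mul, map_zpow, hx, az]
    have e2 : b (x * z ^ j) = x * z ^ j := by
      rw [map_mul, map_zpow, bz, ← mul_inv_cancel_left x (b x), ← hj, mul_assoc, ← (cu _).symm.mul_zpow,
        ← mul_assoc u, c.eq, mul_inv_cancel_right]
    have e3 : (w * w) (x * z ^ j) = x * z ^ j := by simp only [MulAut.mul_apply, wa, e1, e2]
    rw [map_mul, map_zpow, tz, inv_zpow, mul_inv_eq_iff_eq_mul] at e3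
    rw [e3, mul_assoc, inv_mul_cancel_left]
    exact mul_mem (zpow_mem (mem_zpowers z) j) (zpow_mem (mem_zpowers z) j)
  refine ⟨w * w, hw ▸ mul_mem (mul_mem (mul_mem ma mb) ma) (mul_mem (mul_mem ma mb) ma), tz, tu,
    MulEquiv.ext fun x => ?_, h4⟩
  obtain ⟨i, hi⟩ := mem_zpowers_iff.1 (ha x)
  have e1 : a (x * u⁻¹ ^ i) = x * u⁻¹ ^ i := by
    rw [map_mul, map_zpow, map_inv, au, ← mul_inv_cancel_left x (a x), ← hi, mul_assoc, ← (cz _).symm.mul_zpow,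
      mul_inv_rev, mul_inv_cancel_left]
  obtain ⟨k, hk⟩ := mem_zpowers_iff.1 (h4 _ e1)
  have e2 : (w * w * a) (x * u⁻¹ ^ i) = (a * (w * w)) (x * u⁻¹ ^ i) := by
    rw [MulAut.mul_apply _ (w * w), MulAut.mul_apply _ a, e1, ← mul_inv_cancel_left (x * u⁻¹ ^ i) ((w * w) _), ← hk,
      map_mul a, e1, map_zpow, az]
  have e3 : (w * w * a) u = (a * (w * w)) u := by
    rw [MulAut.mul_apply _ (w * w), MulAut.mul_apply _ a, au, map_mul, tu, tz, map_inv, au, c.eq, mul_inv_rev]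
  rwa [map_mul, map_mul, map_zpow, map_zpow, map_inv, map_inv, e3, mul_left_inj] at e2

theorem pow_spec {b : MulAut H} {z u v : H} (bu : b u = u) (hb : ∀ x, x⁻¹ * b x ∈ zpowers u) (hv : v ∈ zpowers u)
    (bz : b z = z * v) (n : ℕ) :
    (b ^ n) u = u ∧ (∀ x, x⁻¹ * (b ^ n) x ∈ zpowers u) ∧ (b ^ n) z = z * v ^ n := by
  induction n with
  | zero => simp
  | succ n ih =>
    obtain ⟨h1, h2, h3⟩ := ih
    have f : ∀ s ∈ zpowers u, (b ^ n) s = s := by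
      rintro _ ⟨k, rfl⟩
      simp only [map_zpow, h1]
    simp only [pow_succ, MulAut.mul_apply]
    refine ⟨by rw [bu, h1], fun x => ?_, by rw [bz, map_mul, h3, f v hv, mul_assoc]⟩
    rw [← mul_inv_cancel_left x (b x), map_mul, f _ (hb x), ← mul_assoc]
    exact mul_mem (h2 x) (hb x)

theorem mem_pow {p : ℕ} [hp : Fact p.Prime] {z v : H} (h : z ^ p = 1) (hv : v ∈ zpowers z) (h1 : v ≠ 1) {s : H}
    (hs : s ∈ zpowers z) : ∃ n : ℕ, v ^ n = s := by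
  obtain ⟨k, rfl⟩ := mem_zpowers_iff.1 hv
  obtain ⟨j, rfl⟩ := mem_zpowers_iff.1 hs
  have hk : IsCoprime k p := by
    refine ((Nat.prime_iff_prime_int.1 hp.out).irreducible.coprime_iff_not_dvd.2 ?_).symm
    rintro ⟨m, rfl⟩
    exact h1 (by rw [zpow_mul, zpow_natCast, h, one_zpow])
  obtain ⟨a, b, e⟩ := hk
  have hf : IsOfFinOrder (z ^ k) := (isOfFinOrder_iff_pow_eq_one.2 ⟨p, hp.out.pos, h⟩).zpow
  refine (Submonoid.mem_powers_iff _ _).1 (hf.mem_powers_iff_mem_zpowers.2 ⟨a * j, ?_⟩)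
  calc (z ^ k) ^ (a * j) = (z ^ k) ^ (a * j) * (z ^ p) ^ (b * j) := by rw [h, one_zpow, mul_one]
    _ = z ^ ((a * k + b * p) * j) := by
      rw [← zpow_natCast, ← zpow_mul, ← zpow_mul, ← zpow_add]; congr 1; ring
    _ = z ^ j := by rw [e, one_mul]

theorem main {p : ℕ} [Fact p.Prime] {a g : MulAut H} {z : H} (cz : ∀ x, Commute x z) (hp : z ^ p = 1)
    (az : a z = z) (ha : ∀ x, x⁻¹ * a x ∈ zpowers z) (h1 : a (g z) ≠ g z) (h2 : a (g⁻¹ z) ≠ g⁻¹ z) :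
    ∃ t ∈ closure ({a, g * a * g⁻¹} : Set (MulAut H)), t z = z⁻¹ ∧ t (g z) = (g z)⁻¹ ∧ t * a = a * t ∧
      ∀ x, a x = x → x⁻¹ * t x ∈ zpowers z := by
  have cu : ∀ x, Commute x (g z) := fun x => by simpa using (cz (g⁻¹ x)).map g
  have hu : g z ^ p = 1 := by rw [← map_pow, hp, map_one]
  have bu : (g * a * g⁻¹) (g z) = g z := by simp [az]
  have hb : ∀ x, x⁻¹ * (g * a * g⁻¹) x ∈ zpowers (g z) := fun x => by
    obtain ⟨k, hk⟩ := mem_zpowers_iff.1 (ha (g⁻¹ x))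
    exact mem_zpowers_iff.2 ⟨k, by rw [← map_zpow, hk]; simp⟩
  obtain ⟨z', hz'⟩ : ∃ z', z' = (g z)⁻¹ * a (g z) := ⟨_, rfl⟩
  have m1 : z' ∈ zpowers z := hz' ▸ ha _
  have n1 : z' ≠ 1 := fun e => h1 (inv_mul_eq_one.1 (hz' ▸ e)).symm
  have le : zpowers z ≤ zpowers z' := fun s hs => by
    obtain ⟨n, rfl⟩ := mem_pow hp m1 n1 hs
    exact pow_mem (mem_zpowers _) n
  obtain ⟨m, hm⟩ := mem_pow hp m1 n1 (mem_zpowers z)
  obtain ⟨k, hk⟩ := mem_zpowers_iff.1 m1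
  have n2 : z'⁻¹ * (g * a * g⁻¹) z' ≠ 1 := fun e => h2 (g.injective (by
    have : (g * a * g⁻¹) z = z := by rw [← hm, map_pow, ← inv_mul_eq_one.1 e]
    simpa using this))
  obtain ⟨n, hn⟩ := mem_pow hu (hb z') n2 (inv_mem (mem_zpowers _))
  obtain ⟨b1, b2, b3⟩ := pow_spec bu hb (hb z') (mul_inv_cancel_left _ _).symm n
  have cz' : ∀ x, Commute x z' := fun x => hk ▸ (cz x).zpow_right k
  obtain ⟨t, ht, t1, t2, t3, t4⟩ := core (cz' _) (by rw [← hk, map_zpow, az])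
    (by rw [hz', mul_inv_cancel_left]) b1 (hn ▸ b3) (fun x => le (ha x)) b2 cz' cu
  refine ⟨t, (closure_le _).2 ?_ ht, by rw [← hm, map_pow, t1, inv_pow], t2, t3,
    fun x hx => zpowers_le.2 m1 (t4 x hx)⟩
  rintro _ (rfl | rfl)
  · exact subset_closure (by simp)
  · exact pow_mem (subset_closure (by simp)) n

end XB

theorem exists_t {G : Type*} [Group G] {p : ℕ} [Fact p.Prime] {E : Subgroup G} {z y : G}
    (hzE : z ∈ E) (hz : z ∈ center G) (hp : z ^ p = 1) (hy : y ∈ normalizer (E : Set G))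
    (hc : ∀ x ∈ E, ⁅x, y⁆ ∈ zpowers z) {g : MulAut E} (h1 : ¬ Commute (totA g z) y)
    (h2 : ¬ Commute (totA g⁻¹ z) y) :
    ∃ t ∈ closure ({cAut E y, g * cAut E y * g⁻¹} : Set (MulAut E)), totA t z = z⁻¹ ∧
      totA t (totA g z) = (totA g z)⁻¹ ∧ t * cAut E y = cAut E y * t ∧
      ∀ x ∈ E, Commute x y → x⁻¹ * totA t x ∈ zpowers z := by
  have fx : ∀ x : E, cAut E y x = x ↔ Commute (x : G) y := fun x => by
    rw [Subtype.ext_iff, coe_cAut hy, mul_inv_eq_iff_eq_mul]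
    exact ⟨fun e => e.symm, fun e => e.eq.symm⟩
  have zp : ∀ x : E, x ∈ zpowers (⟨z, hzE⟩ : E) ↔ (x : G) ∈ zpowers z := fun x =>
    ⟨fun ⟨k, e⟩ => ⟨k, congrArg Subtype.val e⟩, fun ⟨k, e⟩ => ⟨k, Subtype.ext e⟩⟩
  rw [totA_apply _ hzE] at h1 h2
  obtain ⟨t, ht, t1, t2, t3, t4⟩ := XB.main (p := p) (a := cAut E y) (g := g) (z := ⟨z, hzE⟩)
    (fun x => Subtype.ext (mem_center_iff.1 hz x)) (Subtype.ext hp) ((fx _).2 (mem_center_iff.1 hz y).symm)
    (fun x => (zp _).2 (by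
      have := hc _ (inv_mem x.2)
      rw [commutatorElement_def, inv_inv, mul_assoc, mul_assoc, ← mul_assoc y] at this
      rwa [coe_mul, coe_inv, coe_cAut hy])) (mt (fx _).1 h1) (mt (fx _).1 h2)
  refine ⟨t, ht, ?_, ?_, t3, fun x hx e => ?_⟩
  · rw [totA_apply _ hzE, t1]; rfl
  · rw [totA_apply g hzE, totA_coe, t2]; rfl
  · rw [totA_apply _ hx]
    exact (zp _).1 (t4 ⟨x, hx⟩ ((fx _).2 e))

end Cfsg.Agent.MxD
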