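import Mathlib
import Cfsg.Agent.MxD.Defs
import Cfsg.Agent.MxD.LvA
import Cfsg.Agent.MxD.LvB
import Cfsg.Agent.MxD.Exc
import Cfsg.Agent.MxD.Br
import Cfsg.Agent.MxD.B0
import Cfsg.Agent.MxD.B1
import Cfsg.Agent.MxD.XA
import Cfsg.Agent.MxD.XB

/-! Exceptional case: the involution on the second centre. -/

set_option autoImplicit false

namespace Cfsg.Agent.MxD

open Subgroup Cfsg.Agent.GT Cfsg.Agent.FG.MxC Cfsg.Agent.Fus Cfsg.Agent.Fus.R3 Cfsg.Agent.MxE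
open Cfsg.FusionSystem hiding inv_mem
open scoped commutatorElement

universe u

variable {G : Type u} [Group G] [Finite G] {p n : ℕ} [Fact p.Prime]
  {F : FusionSystem (⊤ : Subgroup G)} {E : Subgroup G}

namespace XC

omit [Finite G] in
theorem normal_Z2R : (Z2R G).Normal := ⟨fun x hx g => ⟨Normal.conj_mem inferInstance _ hx.1 g, fun r hr => by
  have h1 : g⁻¹ * r * g⁻¹⁻¹ ∈ C G 1 := Normal.conj_mem inferInstance _ hr g⁻¹
  rw [show ⁅g * x * g⁻¹, r⁆ = g * ⁅x, g⁻¹ * r * g⁻¹⁻¹⁆ * g⁻¹ by simp only [commutatorElement_def]; group]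
  exact Normal.conj_mem inferInstance _ (hx.2 _ h1) g⟩⟩

omit [Finite G] in
theorem Lv_mul {x y : G} {j : ℕ} (hx : Lv x j) (hy : y ∈ P G (j + 1)) : Lv (x * y) j :=
  ⟨mul_mem hx.1 (P_anti (Nat.le_succ j) hy), fun h => hx.2 (by simpa using mul_mem h (inv_mem hy))⟩

omit [Finite G] in
theorem comm_central {a b c d : G} (hc : c ∈ center G) (hd : d ∈ center G) : ⁅a * c, b * d⁆ = ⁅a, b⁆ := by
  have h1 := mem_center_iff.1 hc
  have h2 := mem_center_iff.1 hd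
  simp only [commutatorElement_def]
  calc a * c * (b * d) * (a * c)⁻¹ * (b * d)⁻¹ = a * (c * (b * d)) * c⁻¹ * a⁻¹ * d⁻¹ * b⁻¹ := by group
    _ = a * b * (d * a⁻¹) * d⁻¹ * b⁻¹ := by rw [← h1]; group
    _ = _ := by rw [← h2]; group

/-- If `u` lies in the second centre, `C G 1` is generated by the centraliser of `u` and one element. -/
theorem split (h : MC p G n) {u y : G} (hu : u ∈ Z2R G) (hy : y ∈ C G 1) (hn : ¬ Commute u y) {r : G}
    (hr : r ∈ C G 1) : ∃ k : ℤ, Commute (r * (y ^ k)⁻¹) u := by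
  have hc := hu.2 y hy
  have h1 : ⁅u, y⁆ ≠ 1 := fun e => hn (commutatorElement_eq_one_iff_commute.1 e)
  have h2 := hu.2 r hr
  rw [h.center_eq hc h1] at h2
  obtain ⟨k, hk⟩ := mem_zpowers_iff.1 h2
  refine ⟨k, ?_⟩
  set c := ⁅u, y⁆ with hcd
  have e1 : u * y * u⁻¹ = c * y := by rw [hcd, commutatorElement_def]; group
  have e2 : u * r * u⁻¹ = c ^ k * r := by rw [hk, commutatorElement_def]; group
  have cy : Commute c y := (mem_center_iff.1 hc y).symm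
  have e3 : u * y ^ k * u⁻¹ = c ^ k * y ^ k := by rw [← _root_.conj_zpow, e1, cy.mul_zpow]
  have e4 := mem_center_iff.1 (zpow_mem hc k) (r * (y ^ k)⁻¹)
  have : u * (r * (y ^ k)⁻¹) * u⁻¹ = r * (y ^ k)⁻¹ := by
    calc u * (r * (y ^ k)⁻¹) * u⁻¹ = u * r * u⁻¹ * (u * y ^ k * u⁻¹)⁻¹ := by group
      _ = c ^ k * (r * (y ^ k)⁻¹) * (c ^ k)⁻¹ := by rw [e2, e3]; group
      _ = _ := by rw [← e4]; group
  exact (mul_inv_eq_iff_eq_mul.1 this).symm

end XC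

theorem CB.exc_t (h : CB F p n E) (hx : C G n ≠ C G 1) :
    ∃ (t : G → G) (z : G), F.Iso (C G 1) (C G 1) t ∧ z ∈ center G ∧ z ≠ 1 ∧ t z = z⁻¹ ∧
      (∀ x ∈ Z2R G, x⁻¹ * t x ∈ Z2R G ⊓ E) ∧ ∀ x ∈ Z2R G ⊓ E, x⁻¹ * t x ∈ center G := by
  have hT := h.mc.pT
  have hx0 := hx
  have hE := h.bad.1
  have hER := h.lt_R.le
  obtain ⟨z, hz0⟩ := h.mc.exists_lv (le_refl (n + 1))
  have hz : z ∈ center G := h.mc.P_center ▸ hz0.1
  have h1 : z ≠ 1 := fun e => hz0.2 (e ▸ one_mem _)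
  have hzE : z ∈ E := center_le_ess hE hz
  obtain ⟨g, hg, hM⟩ := (hE.essData h.sat hT).exists_not_mem
  obtain ⟨y, a, han, hy, hyE, hyN, hEa, hc1, hc2, hu1, hu2⟩ := h.exc_y hx hg hM hz h1
  obtain ⟨t0, ht0, tz, tu, tc, tf⟩ := exists_t hzE hz (h.mc.pow_center hz) hyN hc1 hu1 hu2
  have cy : cAut E y ∈ F.autGroup E := F.cAut_mem_autGroup le_top ⟨mem_top _, hyN⟩
  have hA : t0 ∈ F.autGroup E := by
    refine (closure_le _).2 ?_ ht0
    rintro _ (rfl | rfl)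
    · exact cy
    · exact (F.autGroup E).mul_mem ((F.autGroup E).mul_mem hg cy) (inv_mem hg)
  have hi := iso_totA (F := F) le_top hA
  have hyX : y ∈ extN ⊤ E (totA t0) := ⟨mem_top _, hyN, y, mem_top _, fun x hx => by
    rw [← totA_cAut hyN hx, ← totA_mul _ _ hx, tc, totA_mul _ _ hx, totA_cAut hyN (totA_mem _ hx)]⟩
  obtain ⟨f, hf, ef⟩ := (hE.receptive h.sat hT).extend hi
  have hlt : E < extN ⊤ E (totA t0) := lt_of_le_of_ne hi.mor.le_extN fun e => hyE (e ▸ hyX)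
  obtain ⟨t, ht, et⟩ := h.ext ((extN_le_normalizerIn.trans normalizerIn_le_normalizer).trans h.nz_le)
    (B1.card_lt hlt) hf
  have e0 : ∀ x ∈ E, t x = totA t0 x := fun x hx => (et x (hlt.le hx)).trans (ef x hx)
  set u := totA g z with hud
  have huE : u ∈ E := totA_mem _ hzE
  have hcu : ∀ x, Commute x u ↔ x ∈ E :=
    h.cent hg hM hzE (fun x _ => (mem_center_iff.1 hz x).symm) (h.fix_z hz h1)
  have tz' : t z = z⁻¹ := (e0 z hzE).trans tz
  have tu' : t u = u⁻¹ := (e0 u huE).trans tu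
  have tinv : ∀ c ∈ center G, t c = c⁻¹ := fun c hc => by
    rw [h.mc.center_eq hz h1] at hc
    obtain ⟨k, rfl⟩ := mem_zpowers_iff.1 hc
    rw [ht.mor.map_zpow (hER hzE), tz', inv_zpow]
  have tf' : ∀ x ∈ E, x ∈ P G (a + 1) → x⁻¹ * t x ∈ center G := fun x hx hx' => by
    rw [e0 x hx, h.mc.center_eq hz h1]
    exact tf x hx ((hc2 x hx).2 hx')
  refine ⟨t, z, ht, hz, h1, tz', fun x hx => ⟨?_, ?_⟩, fun x hx => ?_⟩
  · refine (Z2R G).mul_mem (inv_mem hx) ⟨ht.maps x hx.1, fun r hr => ?_⟩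
    obtain ⟨r', hr', rfl⟩ := ht.surj r hr
    rw [← ht.mor.mulOn.map_commutatorElement hx.1 hr', tinv _ (hx.2 r' hr')]
    exact inv_mem (hx.2 r' hr')
  · refine (hcu _).1 ?_
    have hc := hx.2 u (hER huE)
    have e1 := tinv _ hc
    rw [ht.mor.mulOn.map_commutatorElement hx.1 (hER huE), tu'] at e1
    have e2 := mem_center_iff.1 hc u
    have e3 : t x * u * (t x)⁻¹ = x * u * x⁻¹ := by
      calc t x * u * (t x)⁻¹ = u * ⁅t x, u⁻¹⁆⁻¹ := by rw [commutatorElement_def]; group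
        _ = ⁅x, u⁆ * u := by rw [e1, inv_inv, e2]
        _ = _ := by rw [commutatorElement_def]; group
    change x⁻¹ * t x * u = u * (x⁻¹ * t x)
    calc x⁻¹ * t x * u = x⁻¹ * (t x * u * (t x)⁻¹) * t x := by group
      _ = _ := by rw [e3]; group
  have hua : u ∉ P G (a + 1) := fun e => hu1 ((hc2 u huE).2 e)
  by_cases hu : u ∈ Z2R G
  swap
  · haveI := XC.normal_Z2R (G := G)
    obtain ⟨m, -, hm⟩ := h.mc.eq_P_of_normal (N := Z2R G) fun x hx => hx.1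
    have : a + 1 ≤ m := by
      by_contra hlt'
      exact hu (hm ▸ P_anti (by omega) (hEa huE))
    exact tf' x hx.2 (P_anti this (hm ▸ hx.1))
  exfalso
  have hyR : y ∈ C G 1 := h.nz_le hyN
  have sp : ∀ r ∈ C G 1, ∃ k : ℤ, r * (y ^ k)⁻¹ ∈ E := fun r hr => by
    obtain ⟨k, hk⟩ := XC.split h.mc hu hyR hu1 hr
    exact ⟨k, (hcu _).1 hk⟩
  have h3 := (h.mc.exc hx0).2.1
  have hp1 : 1 < p := (Fact.out : p.Prime).one_lt
  have ha0 : a = 0 := by
    by_contra ha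
    rcases han.eq_or_lt with rfl | hlt'
    · have c1 := card_le_of_le hEa
      rw [h.mc.cardP (by omega), show a + 2 - a = 2 by omega] at c1
      have c2 := h.four
      have c3 : p ^ 2 < p ^ 4 := Nat.pow_lt_pow_right hp1 (by norm_num)
      omega
    · obtain ⟨r, hr⟩ := h.mc.exists_lv (Nat.zero_le (n + 1))
      obtain ⟨k, hk⟩ := sp r hr.1
      have y1 : y ∈ P G (0 + 1) := P_anti (by omega) hy.1
      have e1 : r * (y ^ k)⁻¹ ∈ P G (0 + 1) := P_anti (by omega) (hEa hk)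
      exact hr.2 (by simpa using mul_mem e1 (zpow_mem y1 k))
  subst ha0
  have hP0 : ∀ j, P G j ≤ C G 1 := fun j => P_anti (Nat.zero_le j)
  obtain ⟨x1, hx1⟩ := h.mc.exists_lv (j := 1) (by omega)
  obtain ⟨x2, hx2⟩ := h.mc.exists_lv (j := n - 1) (by omega)
  obtain ⟨k1, hk1⟩ := sp x1 (hP0 _ hx1.1)
  obtain ⟨k2, hk2⟩ := sp x2 (hP0 _ hx2.1)
  have l1 : Lv (x1 * (y ^ k1)⁻¹) 1 := XC.Lv_mul hx1 (inv_mem (zpow_mem (P_anti (by omega) hy.1) _))
  have l2 : Lv (x2 * (y ^ k2)⁻¹) (n - 1) := XC.Lv_mul hx2 (inv_mem (zpow_mem (P_anti (by omega) hy.1) _))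
  set d1 := x1 * (y ^ k1)⁻¹
  set d2 := x2 * (y ^ k2)⁻¹
  have nc := h.mc.x2 hx0 l1 l2 (by omega)
  have hζ : ⁅d1, d2⁆ ∈ center G := h.mc.cm_center l1.1 l2.1 (by omega)
  have f1 := tf' d1 hk1 l1.1
  have f2 := tf' d2 hk2 (P_anti (by omega) l2.1)
  have e1 := tinv _ hζ
  rw [ht.mor.mulOn.map_commutatorElement (hER hk1) (hER hk2), ← mul_inv_cancel_left d1 (t d1),
    ← mul_inv_cancel_left d2 (t d2), XC.comm_central f1 f2] at e1
  have e2 : ⁅d1, d2⁆ ^ 2 = 1 := by rw [pow_two]; nth_rewrite 1 [e1]; rw [inv_mul_cancel]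
  have e3 := h.mc.pow_center hζ
  have hco : Nat.Coprime 2 p :=
    (Nat.coprime_primes Nat.prime_two Fact.out).2 (by have := h.hp; omega)
  exact nc (commutatorElement_eq_one_iff_commute.1 (by
    have := pow_gcd_eq_one.2 ⟨e2, e3⟩
    rwa [hco, pow_one] at this))

end Cfsg.Agent.MxD
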