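import Mathlib
import Cfsg.Agent.MxD.Defs
import Cfsg.Agent.MxD.LvA
import Cfsg.Agent.MxD.LvB
import Cfsg.Agent.MxD.Exc
import Cfsg.Agent.MxD.B0
import Cfsg.Agent.MxD.XC
import Cfsg.Agent.MxD.Mod
import Cfsg.Agent.MxD.Faith

/-! Exceptional case: the contradiction. -/

set_option autoImplicit false

namespace Cfsg.Agent.MxD

open Subgroup Cfsg.Agent.GT Cfsg.Agent.FG.MxC Cfsg.Agent.Fus Cfsg.Agent.Fus.R3 Cfsg.Agent.MxE
open Cfsg.FusionSystem hiding inv_mem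
open scoped commutatorElement

universe u

variable {G : Type u} [Group G] [Finite G] {p n : ℕ} [Fact p.Prime]
  {F : FusionSystem (⊤ : Subgroup G)} {E : Subgroup G}

namespace XD

theorem cen_le (h : MC p G n) : center G ≤ C G 1 := by
  rw [← h.P_center]
  exact P_anti (i := 0) (Nat.zero_le _)

omit [Finite G] in
theorem z2_normal (hR : (C G 1).Normal) : (Z2R G).Normal := by
  refine ⟨fun x hx g => ⟨hR.conj_mem _ hx.1 g, fun r hr => ?_⟩⟩
  have h1 : g⁻¹ * r * g⁻¹⁻¹ ∈ C G 1 := hR.conj_mem _ hr g⁻¹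
  have h2 := hx.2 _ h1
  rw [show ⁅g * x * g⁻¹, r⁆ = g * ⁅x, g⁻¹ * r * g⁻¹⁻¹⁆ * g⁻¹ by
    simp only [commutatorElement_def]; group]
  exact Normal.conj_mem inferInstance _ h2 g

variable {H : Type*} [Group H] {ι : G →* H}

theorem cen_map (hM : Md p ι) (h : MC p G n) (hx : C G n ≠ C G 1) :
    ((center G).map ι).Normal := by
  refine ⟨?_⟩
  rintro _ ⟨z, hz, rfl⟩ g
  obtain ⟨z', hz', e⟩ := hM.nR.conj_mem _ (mem_map_of_mem ι (cen_le h hz)) g
  refine ⟨z', h.center_R hx hz' fun r hr => ?_, e⟩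
  obtain ⟨r', -, e'⟩ := hM.nR.conj_mem _ (mem_map_of_mem ι hr) g⁻¹
  apply hM.inj
  have hc : ι z * ι r' = ι r' * ι z := by
    rw [← map_mul, ← map_mul, (mem_center_iff.1 hz r')]
  have hr2 : ι r = g * ι r' * g⁻¹ := by rw [e']; group
  rw [map_mul, map_mul, e, hr2]
  calc g * ι z * g⁻¹ * (g * ι r' * g⁻¹) = g * (ι z * ι r') * g⁻¹ := by group
    _ = g * (ι r' * ι z) * g⁻¹ := by rw [hc]
    _ = g * ι r' * g⁻¹ * (g * ι z * g⁻¹) := by group

theorem z2_map (hM : Md p ι) (h : MC p G n) (hx : C G n ≠ C G 1) :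
    ((Z2R G).map ι).Normal := by
  refine ⟨?_⟩
  rintro _ ⟨x, hx2, rfl⟩ g
  obtain ⟨x', hx', e⟩ := hM.nR.conj_mem _ (mem_map_of_mem ι hx2.1) g
  refine ⟨x', ⟨hx', fun r hr => ?_⟩, e⟩
  obtain ⟨r', hr', e'⟩ := hM.nR.conj_mem _ (mem_map_of_mem ι hr) g⁻¹
  obtain ⟨c, hc, ec⟩ := (cen_map hM h hx).conj_mem _ (mem_map_of_mem ι (hx2.2 r' hr')) g
  have hr2 : ι r = g * ι r' * g⁻¹ := by rw [e']; group
  have : ⁅x', r⁆ = c := by
    apply hM.inj
    rw [ec, map_commutatorElement, map_commutatorElement, e, hr2]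
    simp only [commutatorElement_def]; group
  rw [this]; exact hc

omit [Finite G] [Fact p.Prime] in
theorem comm_pow {d r : G} (hc : ⁅d, r⁆ ∈ center G) (m : ℕ) : ⁅d ^ m, r⁆ = ⁅d, r⁆ ^ m := by
  induction m with
  | zero => simp
  | succ m ih =>
    have h1 := mem_center_iff.1 (pow_mem hc m) d
    rw [pow_succ' d, show ⁅d * d ^ m, r⁆ = d * ⁅d ^ m, r⁆ * d⁻¹ * ⁅d, r⁆ by
      simp only [commutatorElement_def]; group, ih, h1, pow_succ]
    group

theorem pow_cen (h : MC p G n) (hx : C G n ≠ C G 1) {d : G} (hd : d ∈ Z2R G) :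
    d ^ p ∈ center G := by
  refine h.center_R hx (pow_mem hd.1 p) fun r hr => ?_
  rw [← commutatorElement_eq_one_iff_commute, comm_pow (hd.2 r hr), h.pow_center (hd.2 r hr)]

theorem iter {K : Type*} [Group K] {τ x d : K} (h1 : τ * x * τ⁻¹ = x * d)
    (h2 : τ * d * τ⁻¹ = d) (m : ℕ) : τ ^ m * x * (τ ^ m)⁻¹ = x * d ^ m := by
  induction m with
  | zero => simp
  | succ m ih =>
    have h3 : τ * d ^ m * τ⁻¹ = d ^ m := by
      rw [← conj_pow, h2]
    calc τ ^ (m + 1) * x * (τ ^ (m + 1))⁻¹ = τ * (τ ^ m * x * (τ ^ m)⁻¹) * τ⁻¹ := by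
          rw [pow_succ']; group
      _ = (τ * x * τ⁻¹) * (τ * d ^ m * τ⁻¹) := by rw [ih]; group
      _ = x * d ^ (m + 1) := by rw [h1, h3, pow_succ']; group

theorem odd_inv {K : Type*} [Group K] {τ z : K} (h1 : τ * z * τ⁻¹ = z⁻¹) {m : ℕ} (hm : Odd m) :
    τ ^ m * z * (τ ^ m)⁻¹ = z⁻¹ := by
  obtain ⟨k, rfl⟩ := hm
  have h2 : τ ^ 2 * z * (τ ^ 2)⁻¹ = z := by
    calc τ ^ 2 * z * (τ ^ 2)⁻¹ = τ * (τ * z * τ⁻¹) * τ⁻¹ := by rw [pow_two]; group
      _ = τ * z⁻¹ * τ⁻¹ := by rw [h1]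
      _ = (τ * z * τ⁻¹)⁻¹ := by group
      _ = z := by rw [h1, inv_inv]
  have h3 : Commute (τ ^ 2) z := mul_inv_eq_iff_eq_mul.1 h2
  have h4 : (τ ^ 2) ^ k * z * ((τ ^ 2) ^ k)⁻¹ = z := by
    rw [(h3.pow_left k).eq]; group
  calc τ ^ (2 * k + 1) * z * (τ ^ (2 * k + 1))⁻¹
      = τ * ((τ ^ 2) ^ k * z * ((τ ^ 2) ^ k)⁻¹) * τ⁻¹ := by rw [← pow_mul, pow_succ']; group
    _ = z⁻¹ := by rw [h4, h1]

end XD

theorem CB.exc_false (h : CB F p n E) (hx : C G n ≠ C G 1) : False := by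
  obtain ⟨t, z, ht, hz, hz1, htz, h1, h2⟩ := h.exc_t hx
  obtain ⟨H, _, _, ι, hM, hk, -⟩ := h.mc.exists_md h.sat
  obtain ⟨τ, hτ⟩ := hk t ht
  have hR : (C G 1).Normal := inferInstance
  have := XD.z2_normal hR
  obtain ⟨a, -, ha⟩ := h.mc.eq_P_of_normal (N := Z2R G) fun x hx => hx.1
  obtain ⟨-, h3, -⟩ := h.mc.exc hx
  have han : a + 1 ≤ n := by
    by_contra hlt
    obtain ⟨x, hx1, hx2⟩ := h.mc.exists_lv (j := n - 1) (by omega)
    apply hx2
    have hxZ : x ∈ Z2R G := by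
      refine ⟨P_anti (i := 0) (Nat.zero_le _) hx1, fun r hr => ?_⟩
      have := h.mc.cm2 hx1 hr (Or.inl (by omega))
      rwa [show n - 1 + 2 = n + 1 by omega, h.mc.P_center] at this
    rw [ha] at hxZ
    exact P_anti (by omega) hxZ
  have hN := XD.cen_map hM h.mc hx
  have hmem : τ ^ p ∈ (C G 1).map ι := by
    refine hM.faithful h.mc h.nonab (a := a) (b := n + 1) (by omega) (by omega)
      (Or.inl (by omega)) (ha ▸ XD.z2_map hM h.mc hx) (h.mc.P_center ▸ hN) ?_ ?_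
    · intro x hxa r hr
      rw [h.mc.P_center]
      rw [← ha] at hxa
      exact hxa.2 r hr
    · intro x hxa
      rw [← ha] at hxa
      rw [h.mc.P_center]
      have hd := h1 x hxa
      have hd2 := h2 _ hd
      set d := x⁻¹ * t x with hdd
      let q := QuotientGroup.mk' ((center G).map ι)
      have e1 : q τ * q (ι x) * (q τ)⁻¹ = q (ι x) * q (ι d) := by
        rw [← map_inv, ← map_mul, ← map_mul, ← hτ x hxa.1, ← map_mul, ← map_mul, hdd]
        congr 2; group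
      have e2 : q τ * q (ι d) * (q τ)⁻¹ = q (ι d) := by
        rw [← map_inv, ← map_mul, ← map_mul, ← hτ d hd.1.1]
        symm
        apply QuotientGroup.eq.2
        rw [← map_inv, ← map_mul]
        exact mem_map_of_mem ι hd2
      have e3 := XD.iter e1 e2 p
      have e4 : q (ι d) ^ p = 1 := by
        rw [← map_pow, ← map_pow]
        exact (QuotientGroup.eq_one_iff _).2 (mem_map_of_mem ι (XD.pow_cen h.mc hx hd.1))
      rw [e4, mul_one, ← map_pow, ← map_inv, ← map_mul, ← map_mul] at e3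
      exact QuotientGroup.eq.1 e3.symm
  obtain ⟨r, -, er⟩ := hmem
  have hodd : Odd p := (Fact.out : p.Prime).odd_of_ne_two (by have := h.hp; omega)
  have e1 : τ * ι z * τ⁻¹ = (ι z)⁻¹ := by
    rw [← hτ z (XD.cen_le h.mc hz), htz, map_inv]
  have e2 := XD.odd_inv e1 hodd
  rw [← er, ← map_inv, ← map_mul, ← map_mul, ← map_inv] at e2
  have e3 := hM.inj e2
  rw [mem_center_iff.1 hz r, mul_inv_cancel_right] at e3
  obtain ⟨k, hk2⟩ := hodd
  have e4 := h.mc.pow_center hz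
  have e5 : z ^ 2 = 1 := by
    rw [pow_two]; nth_rewrite 2 [e3]; exact mul_inv_cancel z
  rw [hk2, pow_succ, pow_mul, e5, one_pow, one_mul] at e4
  exact hz1 e4

end Cfsg.Agent.MxD
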