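import Mathlib
import Cfsg.Agent.MxD.Defs
import Cfsg.Agent.MxD.Br
import Cfsg.Agent.MxD.Exc
import Cfsg.Agent.MxD.LvA
import Cfsg.Agent.MxD.LvB
import Cfsg.Agent.MxD.CaseA
import Cfsg.Agent.MxD.XD
import Cfsg.Agent.MxD.N2b
import Cfsg.Agent.MxD.Small
import Cfsg.Agent.MxD.Inv

/-! No essential subgroup lies properly inside a two-step centraliser. -/

set_option autoImplicit false

namespace Cfsg.Agent.MxD

open Subgroup Cfsg.Agent.GT Cfsg.Agent.FG.MxC Cfsg.Agent.Fus Cfsg.Agent.Fus.R3 Cfsg.Agent.MxE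
open Cfsg.FusionSystem hiding inv_mem
open scoped commutatorElement

universe u

variable {p : ℕ} [Fact p.Prime]

theorem noBad_aux (hp : 5 ≤ p) (n : ℕ) : ∀ (G : Type u) [Group G] [Finite G], MC p G n →
    ∀ F : FusionSystem (⊤ : Subgroup G), F.IsSaturated p → ∀ E, ¬ Bad F p n E := by
  induction n with
  | zero => intro G _ _ h; exact absurd h.h1 (by omega)
  | succ m ih =>
    intro G _ _ h F hF E hE
    have h1 : 1 ≤ m := by have := h.two_le hE; omega
    obtain ⟨E₀, hE₀, hmax⟩ := Set.Finite.exists_maximalFor (fun K : Subgroup G => Nat.card K)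
      {K | Bad F p (m + 1) K} (Set.toFinite _) ⟨E, hE⟩ |>.imp fun _ h => (⟨h.1, h.2⟩ : _ ∧ _)
    have hcb : CB F p (m + 1) E₀ :=
      { mc := h, hp := hp, sat := hF, bad := hE₀
        max := fun E' hE' => by
          by_contra hlt
          have hlt := not_le.1 hlt
          exact absurd (hmax hE' hlt.le) (not_le.2 hlt)
        cb := fun E' hE' α hα hz =>
          h.caseA h1 hp hF (ih _ (h.quot h1).1) hE' hα hz }
    by_cases hx : C G (m + 1) = C G 1
    · exact hcb.nexc_false hx
    · exact hcb.exc_false hx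

variable {G : Type u} [Group G] [Finite G] {n : ℕ} {F : FusionSystem (⊤ : Subgroup G)}
  {E : Subgroup G}

theorem MC.noBad (h : MC p G n) (hF : F.IsSaturated p) : ¬ Bad F p n E := by
  by_cases hp : p ≤ 3
  · exact h.small hp hF
  · have h4 : p ≠ 4 := by
      rintro rfl
      exact absurd (Fact.out : Nat.Prime 4) (by decide)
    exact noBad_aux (by omega) n G h F hF E

/-- an essential subgroup contains a uniform element or is a two-step centraliser -/
theorem MC.unif_or (h : MC p G n) (hF : F.IsSaturated p) (hE : F.IsEssential p E) :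
    (∃ s ∈ E, Unif n s) ∨ E = C G 1 ∨ E = C G n := by
  by_cases hs : ∃ s ∈ E, Unif n s
  · exact Or.inl hs
  right
  have hb := h.noBad (E := E) hF
  rcases le_or (n := n) (E := E) (fun x hx hu => hs ⟨x, hx, hu⟩) with h1 | h1
  · exact Or.inl (by_contra fun e => hb ⟨hE, Or.inl (lt_of_le_of_ne h1 e)⟩)
  · exact Or.inr (by_contra fun e => hb ⟨hE, Or.inr (lt_of_le_of_ne h1 e)⟩)

theorem MC.not_cube (h : MC p G n) (hx : C G n ≠ C G 1) (hF : F.IsSaturated p)
    (hE : F.IsEssential p E) : Nat.card E ≠ p ^ 3 := by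
  intro hc
  have h1 : n ≠ 1 := by rintro rfl; exact hx rfl
  have hp : 1 < p := (Fact.out : p.Prime).one_lt
  rcases h.unif_or hF hE with ⟨s, hs, hu⟩ | rfl | rfl
  · exact h.no_extra hx hF hE hc hs hu
  · rw [h.cardR] at hc
    have := Nat.pow_right_injective hp hc
    omega
  · rw [h.cardQ] at hc
    have := Nat.pow_right_injective hp hc
    omega

end Cfsg.Agent.MxD
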